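import Groth.Agent.EGA43.DimFormula.Ring
import Groth.Agent.EGA43.Chevalley.Tfae
import Groth.Agent.EGA43.Chevalley.DimBounds
import Groth.Agent.FlatMor12.CMMor
import Groth.Agent.EGA41Lib.SupportDim

/-!
# Primes of a stalk and generisations of a point
-/

set_option autoImplicit false
set_option backward.isDefEq.respectTransparency false
set_option linter.style.haveILetI false

universe u

open CategoryTheory CategoryTheory.Limits AlgebraicGeometry TopologicalSpace IsLocalRing

namespace Groth.Agent.EGA43.DimFormula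

open Groth.Agent FlatMorWeight

/-- `trd` does not change when the base is replaced by a ring with the same residue fields. -/
theorem trd_eq_of_tower {A A' R : Type u} [CommRing A] [CommRing A'] [CommRing R] [Algebra A A']
    [Algebra A R] [Algebra A' R] [IsScalarTower A A' R]
    (h : (algebraMap A A').SurjectiveOnStalks) (Q : PrimeSpectrum R) :
    FibDepth.trd A Q = FibDepth.trd A' Q := by
  let p' := Q.asIdeal.comap (algebraMap A' R)
  have hp : Q.asIdeal.comap (algebraMap A R) = p'.comap (algebraMap A A') := by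
    rw [Ideal.comap_comap, ← IsScalarTower.algebraMap_eq]
  let p := p'.comap (algebraMap A A')
  let e := RingEquiv.ofBijective _ (h.residueFieldMap_bijective p p' rfl)
  rw [FibDepth.trd_eq_trdegHom Q (p := p) hp.symm, FibDepth.trd_eq_trdegHom Q (p := p') rfl,
    ← FibDepth.trdegHom_ringEquiv_comp e (Ideal.ResidueField.map p' Q.asIdeal (algebraMap A' R) rfl)]
  congr 1
  refine Ideal.ResidueField.ringHom_ext (RingHom.ext fun a => ?_)
  simp [e, Ideal.ResidueField.map_algebraMap, IsScalarTower.algebraMap_apply A A' p'.ResidueField,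
    IsScalarTower.algebraMap_apply A R Q.asIdeal.ResidueField, IsScalarTower.algebraMap_apply A A' R]

variable {X Y : Scheme.{u}} (f : X ⟶ Y)

/-- The algebra structure of a stalk map. -/
@[reducible] noncomputable def stalkAlgebra (x : X) :
    Algebra (Y.presheaf.stalk (f x)) (X.presheaf.stalk x) := (f.stalkMap x).hom.toAlgebra

theorem stalk_instances [LocallyOfFiniteType f] (x : X) :
    letI := stalkAlgebra f x
    Algebra.EssFiniteType (Y.presheaf.stalk (f x)) (X.presheaf.stalk x) ∧
      IsLocalHom (algebraMap (Y.presheaf.stalk (f x)) (X.presheaf.stalk x)) :=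
  ⟨LocallyOfFiniteType.stalkMap f x, inferInstanceAs (IsLocalHom (f.stalkMap x).hom)⟩

/-- The point of `X` with the given prime of the stalk at `x`. -/
noncomputable def toPt (x : X) (P : PrimeSpectrum (X.presheaf.stalk x)) : X :=
  X.fromSpecStalk x P

theorem toPt_specializes (x : X) (P : PrimeSpectrum (X.presheaf.stalk x)) : toPt x P ⤳ x :=
  (Scheme.range_fromSpecStalk (X := X) (x := x)).le ⟨P, rfl⟩

theorem exists_toPt {z x : X} (h : z ⤳ x) : ∃ P, toPt x P = z :=
  (Scheme.range_fromSpecStalk (X := X) (x := x)).ge h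

theorem toPt_closedPoint (x : X) : toPt x (closedPoint (X.presheaf.stalk x)) = x :=
  X.fromSpecStalk_closedPoint

theorem toPt_injective (x : X) : Function.Injective (toPt x) :=
  (X.fromSpecStalk x).isEmbedding.injective

theorem toPt_specializes_iff (x : X) (P Q : PrimeSpectrum (X.presheaf.stalk x)) :
    toPt x P ⤳ toPt x Q ↔ P ≤ Q := by
  rw [PrimeSpectrum.le_iff_specializes]
  exact (X.fromSpecStalk x).isEmbedding.isInducing.specializes_iff

theorem apply_toPt (x : X) (P : PrimeSpectrum (X.presheaf.stalk x)) :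
    f (toPt x P) = toPt (f x) (PrimeSpectrum.comap (f.stalkMap x).hom P) := by
  have h := congrArg (fun g => g P) (Scheme.SpecMap_stalkMap_fromSpecStalk f (x := x))
  exact h.symm

theorem mem_minimalPrimes_iff (x : X) (P : PrimeSpectrum (X.presheaf.stalk x)) :
    P.asIdeal ∈ minimalPrimes (X.presheaf.stalk x) ↔ IsMaximalPt (toPt x P) := by
  constructor
  · intro hP z hz
    obtain ⟨Q, rfl⟩ := exists_toPt (hz.trans (toPt_specializes x P))
    have hle := (toPt_specializes_iff x Q P).1 hz
    exact congrArg (toPt x) (PrimeSpectrum.ext (le_antisymm hle (hP.2 ⟨Q.isPrime, bot_le⟩ hle)))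
  · intro h
    refine ⟨⟨P.isPrime, bot_le⟩, fun J hJ hle => ?_⟩
    let Q : PrimeSpectrum (X.presheaf.stalk x) := ⟨J, hJ.1⟩
    exact (congrArg PrimeSpectrum.asIdeal
      (toPt_injective x (h _ ((toPt_specializes_iff x Q P).2 hle)))).ge

theorem toPt_mem_fibre_iff (x : X) (P : PrimeSpectrum (X.presheaf.stalk x)) :
    f (toPt x P) = f x ↔ P.asIdeal.comap (f.stalkMap x).hom = maximalIdeal _ := by
  rw [apply_toPt f]
  constructor
  · intro h
    exact congrArg PrimeSpectrum.asIdeal (toPt_injective (f x) (h.trans (toPt_closedPoint (f x)).symm))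
  · intro h
    rw [show PrimeSpectrum.comap (f.stalkMap x).hom P = closedPoint _ from PrimeSpectrum.ext h,
      toPt_closedPoint]

theorem trd_toPt (x : X) (P : PrimeSpectrum (X.presheaf.stalk x)) :
    letI := stalkAlgebra f x
    DimLib.trdegHom (f.residueFieldMap (toPt x P)).hom = FibDepth.trd (Y.presheaf.stalk (f x)) P := by
  obtain ⟨_, ⟨V, hV, rfl⟩, hxV, -⟩ :=
    Y.isBasis_affineOpens.exists_subset_of_mem_open (Set.mem_univ (f x)) isOpen_univ
  obtain ⟨_, ⟨U, hU, rfl⟩, hxU, hUV⟩ :=
    X.isBasis_affineOpens.exists_subset_of_mem_open (a := x) (u := (f ⁻¹ᵁ V : Set X)) hxV (f ⁻¹ᵁ V).isOpen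
  have e : U ≤ f ⁻¹ᵁ V := hUV
  let A := Γ(Y, V)
  let R := Γ(X, U)
  let A' := Y.presheaf.stalk (f x)
  let B := X.presheaf.stalk x
  have hz : toPt x P ∈ U := (toPt_specializes x P).mem_open U.isOpen hxU
  let _ := stalkAlgebra f x
  let _ : Algebra A R := (f.appLE V U e).hom.toAlgebra
  let _ : Algebra R B := (X.presheaf.germ U x hxU).hom.toAlgebra
  let _ : Algebra A A' := (Y.presheaf.germ V (f x) hxV).hom.toAlgebra
  let _ : Algebra A B := ((algebraMap R B).comp (algebraMap A R)).toAlgebra
  haveI : IsScalarTower A R B := .of_algebraMap_eq' rfl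
  haveI : IsScalarTower A A' B := .of_algebraMap_eq fun a => by
    show X.presheaf.germ U x hxU (f.appLE V U e a) = f.stalkMap x (Y.presheaf.germ V (f x) hxV a)
    rw [Scheme.Hom.germ_stalkMap_apply, Scheme.Hom.appLE]
    exact TopCat.Presheaf.germ_res_apply _ _ _ _ _
  haveI hlA : IsLocalization.AtPrime A' (hV.primeIdealOf ⟨f x, hxV⟩).asIdeal :=
    hV.isLocalization_stalk ⟨f x, hxV⟩
  haveI hlR : IsLocalization.AtPrime B (hU.primeIdealOf ⟨x, hxU⟩).asIdeal :=
    hU.isLocalization_stalk ⟨x, hxU⟩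
  have hA' : (algebraMap A A').SurjectiveOnStalks :=
    RingHom.surjectiveOnStalks_of_isLocalization (M := (hV.primeIdealOf ⟨f x, hxV⟩).asIdeal.primeCompl) _
  let φ := IsScalarTower.toAlgHom A R B
  have hφ : φ.toRingHom.SurjectiveOnStalks :=
    RingHom.surjectiveOnStalks_of_isLocalization (M := (hU.primeIdealOf ⟨x, hxU⟩).asIdeal.primeCompl) _
  have hprime : hU.primeIdealOf ⟨toPt x P, hz⟩ = PrimeSpectrum.comap φ.toRingHom P := by
    apply hU.fromSpec.isOpenEmbedding.injective
    rw [hU.fromSpec_primeIdealOf]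
    show toPt x P = hU.fromSpec ((Spec.map (X.presheaf.germ U x hxU)) P)
    rw [← Scheme.Hom.comp_apply]
    exact congrArg (fun g => g P) (hU.fromSpecStalk_eq_fromSpecStalk hxU).symm
  rw [FibDepth.trdegHom_residueFieldMap f hV hU e hz]
  exact ((congrArg (FibDepth.trd A) hprime).trans
    (FibDepth.trd_comap_of_surjectiveOnStalks φ hφ P)).trans (trd_eq_of_tower hA' P)

theorem trd_closedPoint (x : X) :
    letI := stalkAlgebra f x
    DimLib.trdegHom (f.residueFieldMap x).hom =
      FibDepth.trd (Y.presheaf.stalk (f x)) (closedPoint (X.presheaf.stalk x)) := by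
  have h := trd_toPt f x (closedPoint (X.presheaf.stalk x))
  rwa [toPt_closedPoint] at h

theorem trdeg_residueField_eq (x : X) :
    letI : Algebra (Y.residueField (f x)) (X.residueField x) := (f.residueFieldMap x).hom.toAlgebra
    Cardinal.toNat (Algebra.trdeg (Y.residueField (f x)) (X.residueField x)) =
      DimLib.trdegHom (f.residueFieldMap x).hom := rfl

theorem isNoetherianRing_stalk [IsLocallyNoetherian Y] [LocallyOfFiniteType f] (x : X) :
    IsNoetherianRing (X.presheaf.stalk x) := by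
  haveI := LocallyOfFiniteType.isLocallyNoetherian f
  infer_instance

/-- EGA IV 5.6.5.? along a generisation: `dim O_{X,x}/P + t ≤ dim O_{Y,y}/p + d(P)`, with equality
when `O_{Y,y}` is universally catenary. -/
theorem point_formula [IsLocallyNoetherian Y] [LocallyOfFiniteType f] (x : X)
    (P : PrimeSpectrum (X.presheaf.stalk x)) :
    (ringKrullDim (X.presheaf.stalk x ⧸ P.asIdeal) +
          (DimLib.trdegHom (f.residueFieldMap x).hom : WithBot ℕ∞) ≤
        ringKrullDim (Y.presheaf.stalk (f x) ⧸ P.asIdeal.comap (f.stalkMap x).hom) +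
          (DimLib.trdegHom (f.residueFieldMap (toPt x P)).hom : WithBot ℕ∞)) ∧
      (CAlg.IsUniversallyCatenary (Y.presheaf.stalk (f x)) →
        ringKrullDim (X.presheaf.stalk x ⧸ P.asIdeal) +
            (DimLib.trdegHom (f.residueFieldMap x).hom : WithBot ℕ∞) =
          ringKrullDim (Y.presheaf.stalk (f x) ⧸ P.asIdeal.comap (f.stalkMap x).hom) +
            (DimLib.trdegHom (f.residueFieldMap (toPt x P)).hom : WithBot ℕ∞)) := by
  let _ := stalkAlgebra f x
  obtain ⟨h1, h2⟩ := stalk_instances f x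
  haveI := h1
  haveI := h2
  rw [trd_toPt f x P, trd_closedPoint f x]
  exact ⟨(prime_formula P).1, fun h => (prime_formula P).2 (isUniversallyCatenary_quotient h _)⟩

/-- In the fibre, `dim O_{X,x}/P + t = d(P)`. -/
theorem point_formula_fibre [IsLocallyNoetherian Y] [LocallyOfFiniteType f] (x : X)
    (P : PrimeSpectrum (X.presheaf.stalk x)) (hP : f (toPt x P) = f x) :
    ringKrullDim (X.presheaf.stalk x ⧸ P.asIdeal) +
        (DimLib.trdegHom (f.residueFieldMap x).hom : WithBot ℕ∞) =
      (DimLib.trdegHom (f.residueFieldMap (toPt x P)).hom : WithBot ℕ∞) := by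
  let _ := stalkAlgebra f x
  obtain ⟨h1, h2⟩ := stalk_instances f x
  haveI := h1
  haveI := h2
  rw [trd_toPt f x P, trd_closedPoint f x]
  exact fibre_prime_formula P ((toPt_mem_fibre_iff f x P).1 hP)

theorem mem_fibre_iff_le (x : X) (P : PrimeSpectrum (X.presheaf.stalk x)) :
    (maximalIdeal (Y.presheaf.stalk (f x))).map (f.stalkMap x).hom ≤ P.asIdeal ↔ f (toPt x P) = f x := by
  rw [toPt_mem_fibre_iff f, Ideal.map_le_iff_le_comap]
  refine ⟨fun h => le_antisymm (le_maximalIdeal (Ideal.comap_ne_top _ P.isPrime.ne_top)) h, fun h => h.ge⟩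

theorem ringKrullDim_quotient_lt_top (x : X) [IsNoetherianRing (X.presheaf.stalk x)]
    (I : Ideal (X.presheaf.stalk x)) (hI : I ≠ ⊤) : ∃ n : ℕ, ringKrullDim (X.presheaf.stalk x ⧸ I) = n := by
  haveI : Nontrivial (X.presheaf.stalk x ⧸ I) := Ideal.Quotient.nontrivial_iff.2 hI
  haveI : IsLocalRing (X.presheaf.stalk x ⧸ I) :=
    .of_surjective' (Ideal.Quotient.mk I) Ideal.Quotient.mk_surjective
  refine ⟨(maximalIdeal (X.presheaf.stalk x ⧸ I)).height.toNat, ?_⟩
  rw [← maximalIdeal_height_eq_ringKrullDim]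
  congr 1
  exact (ENat.coe_toNat (Ideal.height_ne_top (maximalIdeal.isMaximal _).ne_top)).symm

/-- `dim O_{X_y,x} + t = dim_x X_y`. -/
theorem fibre_dim_formula [IsLocallyNoetherian Y] [LocallyOfFiniteType f] (x : X) :
    ringKrullDim ((f.fiber (f x)).presheaf.stalk (f.asFiber x)) +
      (DimLib.trdegHom (f.residueFieldMap x).hom : WithBot ℕ∞) = FlatMor.fibreDimAt f x := by
  haveI := isNoetherianRing_stalk f x
  obtain ⟨e⟩ := FlatMor12.fibreStalk_equiv f x
  rw [ringKrullDim_eq_of_ringEquiv e]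
  let I : Ideal (X.presheaf.stalk x) := (maximalIdeal (Y.presheaf.stalk (f x))).map (f.stalkMap x).hom
  have hI : I ≤ maximalIdeal _ :=
    (mem_fibre_iff_le f x (closedPoint _)).2 (congrArg f (toPt_closedPoint x))
  obtain ⟨n, hn⟩ := ringKrullDim_quotient_lt_top x I (ne_top_of_le_ne_top (maximalIdeal.isMaximal _).ne_top hI)
  obtain ⟨z, hzx, hz, hzmax, hD⟩ := Chevalley.exists_maximal_fibreDimAt f x
  rw [show ringKrullDim (X.presheaf.stalk x ⧸ (maximalIdeal (Y.presheaf.stalk (f x))).map (f.stalkMap x).hom)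
    = n from hn, hD]
  have hle : ∀ w, w ⤳ x → f w = f x →
      DimLib.trdegHom (f.residueFieldMap w).hom ≤ DimLib.trdegHom (f.residueFieldMap z).hom :=
    fun w h1 h2 => (FlatMorDim.fibreDimAt_le_iff f x _).1 hD.le w h2 h1
  refine le_antisymm ?_ ?_
  · obtain ⟨P, hP, hPn⟩ : ∃ P : PrimeSpectrum (X.presheaf.stalk x), I ≤ P.asIdeal ∧
        ringKrullDim (X.presheaf.stalk x ⧸ P.asIdeal) = n := by
      haveI : Nontrivial (X.presheaf.stalk x ⧸ I) :=
        Ideal.Quotient.nontrivial_iff.2 (ne_top_of_le_ne_top (maximalIdeal.isMaximal _).ne_top hI)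
      haveI : IsLocalRing (X.presheaf.stalk x ⧸ I) :=
        .of_surjective' (Ideal.Quotient.mk I) Ideal.Quotient.mk_surjective
      obtain ⟨P, hP, hdim⟩ := exists_minimalPrime_dim (X.presheaf.stalk x ⧸ I)
      haveI := hP.isPrime
      let P' : PrimeSpectrum (X.presheaf.stalk x) := ⟨P.comap (Ideal.Quotient.mk I), inferInstance⟩
      have hle' : I ≤ P'.asIdeal := Ideal.mk_ker.ge.trans (Ideal.ker_le_comap _)
      refine ⟨P', hle', ?_⟩
      rw [← hn, ← hdim, ← ringKrullDim_eq_of_ringEquiv (DoubleQuot.quotQuotEquivQuotOfLE hle')]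
      refine ringKrullDim_eq_of_ringEquiv (Ideal.quotEquivOfEq ?_)
      exact Ideal.map_comap_of_surjective _ Ideal.Quotient.mk_surjective P
    have h := point_formula_fibre f x P ((mem_fibre_iff_le f x P).1 hP)
    rw [hPn] at h
    rw [h]
    exact_mod_cast hle _ (toPt_specializes x P) ((mem_fibre_iff_le f x P).1 hP)
  · obtain ⟨P, rfl⟩ := exists_toPt hzx
    rw [← point_formula_fibre f x P hz, ← hn]
    exact add_le_add (ringKrullDim_le_of_surjective _
      (Ideal.Quotient.factor_surjective ((mem_fibre_iff_le f x P).2 hz))) le_rfl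

end Groth.Agent.EGA43.DimFormula
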