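import Groth.Agent.EGA43.DimFormula.Core
import Groth.Agent.FlatMor12.EquidimBC
import Groth.Agent.SubtrLib.Basic
import Groth.Agent.H8ProCons.Image
import Groth.Agent.FlatMorDim.Valuation

/-!
# Universal openness and dimensions of fibres over generisations (EGA IV 14.3.13)
-/

set_option autoImplicit false
set_option backward.isDefEq.respectTransparency false
set_option linter.style.haveILetI false

universe u

open CategoryTheory CategoryTheory.Limits AlgebraicGeometry TopologicalSpace IsLocalRing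

namespace Groth.Agent.EGA43.DimFormula

open Groth.Agent FlatMorWeight

variable {X Y : Scheme.{u}} (f : X ⟶ Y) [LocallyOfFiniteType f]

/-- Transcendence degrees of points maximal in their fibres survive base change. -/
theorem trdAt_pullback_of_maximal {Y' : Scheme.{u}} (g : Y' ⟶ Y) (p : ↥(pullback f g))
    (hp : ∀ w, w ⤳ p → pullback.snd f g w = pullback.snd f g p → w = p) :
    trdAt (pullback.snd f g) p = trdAt f (pullback.fst f g p) ∧
      ∀ w, w ⤳ pullback.fst f g p → f w = f (pullback.fst f g p) → w = pullback.fst f g p := by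
  let f' := pullback.snd f g
  let v := f' p
  let y := g v
  let b : Spec (Y'.residueField v) ⟶ Spec (Y.residueField y) := Spec.map (g.residueFieldMap v)
  have sq : IsPullback (f'.fiberι v ≫ pullback.fst f g) (f'.fiberToSpecResidueField v) f
      (Y'.fromSpecResidueField v ≫ g) :=
    (IsPullback.of_hasPullback f' (Y'.fromSpecResidueField v)).paste_horiz
      (IsPullback.of_hasPullback f g)
  have hb : b ≫ Y.fromSpecResidueField y = Y'.fromSpecResidueField v ≫ g :=
    g.SpecMap_residueFieldMap_fromSpecResidueField v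
  have hl : (f'.fiberι v ≫ pullback.fst f g) ≫ f =
      (f'.fiberToSpecResidueField v ≫ b) ≫ Y.fromSpecResidueField y := by
    rw [sq.w, Category.assoc, hb]
  let l : f'.fiber v ⟶ f.fiber y := pullback.lift _ _ hl
  have hlι : l ≫ f.fiberι y = f'.fiberι v ≫ pullback.fst f g := pullback.lift_fst _ _ _
  have sq' : IsPullback l (f'.fiberToSpecResidueField v) (f.fiberToSpecResidueField y) b := by
    refine IsPullback.of_right ?_ (pullback.lift_snd _ _ _)
      (IsPullback.of_hasPullback f (Y.fromSpecResidueField y))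
    rw [hb, pullback.lift_fst]
    exact sq
  haveI : LocallyOfFiniteType (f.fiberToSpecResidueField y) :=
    inferInstanceAs (LocallyOfFiniteType (pullback.snd f (Y.fromSpecResidueField y)))
  let z := f'.asFiber p
  have hzp : f'.fiberι v z = p := f'.fiberι_asFiber p
  have hz : ∀ w, w ⤳ z → z = w := fun w hw => by
    have h1 := hw.map (f'.fiberι v).continuous
    rw [hzp] at h1
    exact (f'.fiberι v).isEmbedding.injective
      (hzp.trans (hp _ h1 ((f'.range_fiberι v).le ⟨w, rfl⟩)).symm)
  obtain ⟨he, hmaxl⟩ := FlatMor12.ptDim_maximal_of_isPullback (k := Y.residueField y)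
    (K := Y'.residueField v) (f.fiberToSpecResidueField y) (g.residueFieldMap v).hom
    (f'.fiberToSpecResidueField v) l sq' hz
  have hlz : f.fiberι y (l z) = pullback.fst f g p := by
    rw [← Scheme.Hom.comp_apply, hlι, Scheme.Hom.comp_apply, hzp]
  refine ⟨?_, fun w hw hwe => ?_⟩
  · rw [EGA43.FibDepth.ptDim_fiber f', EGA43.FibDepth.ptDim_fiber f, hlz, hzp] at he
    exact he
  · obtain ⟨a, rfl⟩ : w ∈ Set.range (f.fiberι y) := by
      rw [f.range_fiberι]
      exact hwe.trans (hlz ▸ (f.range_fiberι y).le ⟨l z, rfl⟩)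
    rw [← hlz] at hw ⊢
    exact congrArg _ (hmaxl a ((f.fiberι y).isEmbedding.isInducing.specializes_iff.1 hw)).symm

/-- Over a valuation ring, transcendence degrees do not drop along generisations from the closed
fibre to the generic one. -/
theorem trd_le_of_valuationRing {A R : Type u} [CommRing A] [IsDomain A] [ValuationRing A] [CommRing R]
    [Algebra A R] [Algebra.FiniteType A R] (P q : PrimeSpectrum R) (hle : P.asIdeal ≤ q.asIdeal)
    (hP : P.asIdeal.comap (algebraMap A R) = ⊥) :
    FibDepth.trd A q ≤ FibDepth.trd A P := by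
  let R₁ := R ⧸ P.asIdeal
  let π := IsScalarTower.toAlgHom A R R₁
  have hπ : π.toRingHom.SurjectiveOnStalks :=
    RingHom.surjectiveOnStalks_of_surjective Ideal.Quotient.mk_surjective
  haveI : FaithfulSMul A R₁ := by
    refine (faithfulSMul_iff_algebraMap_injective A R₁).2 ((injective_iff_map_eq_zero _).2 fun a ha => ?_)
    have h : algebraMap A R a ∈ P.asIdeal := Ideal.Quotient.eq_zero_iff_mem.1 ha
    rw [← Ideal.mem_comap, hP] at h
    exact h
  haveI : Module.IsTorsionFree A R₁ := inferInstance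
  haveI : Module.Flat A R₁ := Module.Flat.flat_iff_torsion_eq_bot_of_isBezout.2
    (Submodule.isTorsionFree_iff_torsion_eq_bot.1 ‹_›)
  obtain ⟨q₁, hq₁⟩ : q ∈ Set.range (PrimeSpectrum.comap (Ideal.Quotient.mk P.asIdeal)) := by
    rw [range_comap_of_surjective _ _ Ideal.Quotient.mk_surjective, Ideal.mk_ker]; exact hle
  haveI : Algebra.FiniteType A R₁ := inferInstance
  obtain ⟨q', hq', hq'c, htr⟩ := FlatMorDim.exists_le_trd_le_of_isDomain (A := A) (R := R₁) q₁
  let η : PrimeSpectrum R₁ := ⟨⊥, Ideal.isPrime_bot⟩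
  have h1 := FibDepth.trd_mono (A := A) (q' := η) (q := q') bot_le (by
    rw [hq'c]
    exact (Ideal.comap_bot_of_injective _ (FaithfulSMul.algebraMap_injective A R₁)).symm)
  have h2 : PrimeSpectrum.comap π.toRingHom η = P := PrimeSpectrum.ext Ideal.mk_ker
  calc FibDepth.trd A q = FibDepth.trd A (PrimeSpectrum.comap π.toRingHom q₁) :=
        congrArg (FibDepth.trd A) hq₁.symm
    _ = FibDepth.trd A q₁ := FibDepth.trd_comap_of_surjectiveOnStalks π hπ q₁
    _ ≤ FibDepth.trd A η := htr.trans h1
    _ = FibDepth.trd A (PrimeSpectrum.comap π.toRingHom η) :=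
        (FibDepth.trd_comap_of_surjectiveOnStalks π hπ η).symm
    _ = FibDepth.trd A P := congrArg (FibDepth.trd A) h2

/-- EGA IV 14.3.13: universally open at a maximal point of a fibre implies that the fibres over
the generisations have at least the same dimension there. -/
theorem exists_generization_of_isUnivOpenAt {x : X} (hmax : ∀ w, w ⤳ x → f w = f x → w = x)
    (h : EGA43.IsUnivOpenAt f x) {y' : Y} (hy' : y' ⤳ f x) :
    ∃ w, w ⤳ x ∧ f w = y' ∧ trdAt f x ≤ trdAt f w := by
  obtain ⟨V, iR, iD, iV, g, hgη, hgm⟩ := SubtrLib.exists_valuation_map hy'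
  let s := pullback.snd f g
  obtain ⟨p₀, hp₀x, hp₀s⟩ := Scheme.Pullback.exists_preimage_pullback (f := f) (g := g) x (closedPoint V) hgm.symm
  obtain ⟨p, hpp₀, hps, hpmax⟩ := Chevalley.exists_maximal_in_fibre s p₀
  have hpmax' : ∀ w, w ⤳ p → s w = s p → w = p := fun w hw he => hpmax w hw (he.trans hps)
  obtain ⟨hdp, -⟩ := trdAt_pullback_of_maximal f g p hpmax'
  have hfp : pullback.fst f g p = x := by
    refine hmax _ (hp₀x ▸ hpp₀.map (pullback.fst f g).continuous) ?_
    rw [← Scheme.Hom.comp_apply, pullback.condition, Scheme.Hom.comp_apply]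
    exact (congrArg g (hps.trans hp₀s)).trans hgm
  have hsp : s p = closedPoint V := hps.trans hp₀s
  let η₀ : Spec (CommRingCat.of V) := (⟨⊥, Ideal.isPrime_bot⟩ : PrimeSpectrum V)
  have hη₀ : η₀ ⤳ s p := (PrimeSpectrum.le_iff_specializes η₀ (s p)).1 (bot_le : (⊥ : Ideal V) ≤ _)
  obtain ⟨z', hz'p, hz's⟩ :=
    H8ProCons.exists_generization_of_isOpenAt s (h _ g p hfp) hη₀
  obtain ⟨m, hmz', hms, hmmax⟩ := Chevalley.exists_maximal_in_fibre s z'
  obtain ⟨hdm, -⟩ := trdAt_pullback_of_maximal f g m fun w hw he => hmmax w hw (he.trans hms)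
  refine ⟨pullback.fst f g m, hfp ▸ (hmz'.trans hz'p).map (pullback.fst f g).continuous, ?_, ?_⟩
  · rw [← Scheme.Hom.comp_apply, pullback.condition, Scheme.Hom.comp_apply]
    exact (congrArg g (hms.trans hz's)).trans hgη
  rw [← hdm, ← hfp, ← hdp]
  let W : (Spec (CommRingCat.of V)).Opens := ⊤
  have hW : IsAffineOpen W := isAffineOpen_top _
  obtain ⟨U, hU, hpU, e'⟩ := exists_isAffineOpen_mem_and_subset (x := p) (U := s ⁻¹ᵁ W) (Set.mem_univ _)
  have e : U ≤ s ⁻¹ᵁ W := e'
  have hmp : m ⤳ p := hmz'.trans hz'p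
  have hmU : m ∈ U := hmp.mem_open U.isOpen hpU
  let A := Γ(Spec (CommRingCat.of V), W)
  let eA : V ≃+* A := (Scheme.ΓSpecIso (CommRingCat.of V)).symm.commRingCatIsoToRingEquiv
  haveI : IsDomain A := eA.symm.injective.isDomain eA.symm.toRingHom
  haveI : ValuationRing A := Function.Surjective.valuationRing eA.toRingHom eA.surjective
  algebraize [(s.appLE W U e).hom]
  haveI : Algebra.FiniteType A Γ(pullback f g, U) := s.finiteType_appLE hW hU e
  show DimLib.trdegHom (s.residueFieldMap p).hom ≤ DimLib.trdegHom (s.residueFieldMap m).hom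
  rw [FibDepth.trdegHom_residueFieldMap s hW hU e hpU, FibDepth.trdegHom_residueFieldMap s hW hU e hmU]
  refine trd_le_of_valuationRing (hU.primeIdealOf ⟨m, hmU⟩) (hU.primeIdealOf ⟨p, hpU⟩)
    ((primeIdealOf_le_iff hU _ _).2 hmp) ?_
  show (hU.primeIdealOf ⟨m, hmU⟩).asIdeal.comap (s.appLE W U e).hom = ⊥
  rw [FibDepth.comap_primeIdealOf s hW hU e hmU]
  let b : PrimeSpectrum A := ⟨⊥, Ideal.isPrime_bot⟩
  have hb : hW.fromSpec b ⤳ s m := by
    have h1 := ((PrimeSpectrum.le_iff_specializes b (hW.primeIdealOf ⟨s m, e hmU⟩)).1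
      (bot_le : (⊥ : Ideal A) ≤ _)).map hW.fromSpec.continuous
    rwa [hW.fromSpec_primeIdealOf] at h1
  have hmax0 : hW.fromSpec b = s m := by
    refine (hb.antisymm ?_).eq
    rw [hms.trans hz's]
    exact (PrimeSpectrum.le_iff_specializes η₀ _).1 (bot_le : (⊥ : Ideal V) ≤ _)
  have : hW.primeIdealOf ⟨s m, e hmU⟩ = b :=
    hW.fromSpec.isOpenEmbedding.injective ((hW.fromSpec_primeIdealOf _).trans hmax0.symm)
  exact congrArg PrimeSpectrum.asIdeal this

end Groth.Agent.EGA43.DimFormula
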