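import Groth.Agent.EGA43.Chevalley.Chart

/-!
# Primes of polynomial rings minimal in their fibres
-/

set_option autoImplicit false
set_option backward.isDefEq.respectTransparency false
set_option linter.style.haveILetI false

universe u

open TensorProduct Function MvPolynomial

namespace Groth.Agent.EGA43.DimFormula

open Groth.Agent

attribute [local instance] Algebra.TensorProduct.rightAlgebra

/-- A prime minimal in its fibre has maximal transcendence degree. -/
theorem trd_eq_of_minimal_in_fibre {A : Type u} [CommRing A] {n : ℕ}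
    (Q : PrimeSpectrum (MvPolynomial (Fin n) A))
    (h : ∀ Q' : PrimeSpectrum (MvPolynomial (Fin n) A), Q' ≤ Q →
      Q'.asIdeal.comap (algebraMap A _) = Q.asIdeal.comap (algebraMap A _) → Q' = Q) :
    FibDepth.trd A Q = n := by
  let T := MvPolynomial (Fin n) A
  let p := Q.asIdeal.comap (algebraMap A T)
  let C := p.Fiber T
  let e := (MvPolynomial.algebraTensorAlgEquiv (σ := Fin n) A p.ResidueField).toRingEquiv
  haveI : IsDomain C := e.injective.isDomain e.toRingHom
  let q₀ : PrimeSpectrum C := ⟨⊥, Ideal.isPrime_bot⟩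
  obtain ⟨q, hq⟩ := FibDepth.exists_prime_over (A := A) (p := p) C Q rfl
  have h0 : PrimeSpectrum.comap (algebraMap T C) q₀ = Q := h _
    (le_of_le_of_eq (show PrimeSpectrum.comap (algebraMap T C) q₀ ≤ PrimeSpectrum.comap (algebraMap T C) q
      from Ideal.comap_mono bot_le) hq)
    (FibDepth.comap_algebraMap_eq (R := T) p q₀).symm
  haveI : Algebra.FiniteType p.ResidueField C := FibDepth.finiteType_fibre (A := A) (R := T) p C
  have hd := FibDepth.ringKrullDim_quotient_eq_trd (R := T) p q₀
  rw [h0, ringKrullDim_eq_of_ringEquiv (RingEquiv.quotientBot C), ringKrullDim_eq_of_ringEquiv e] at hd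
  have hdim : ringKrullDim (MvPolynomial (Fin n) p.ResidueField) = (n : WithBot ℕ∞) := by
    simp [ringKrullDim_eq_zero_of_field]
  rw [hdim] at hd
  exact_mod_cast hd.symm

/-- A quasi-finite map to affine space near a point of an affine chart. -/
theorem exists_qf_algHom {A R : Type u} [CommRing A] [CommRing R] [Algebra A R] [Algebra.FiniteType A R]
    (q : PrimeSpectrum R) (e : ℕ)
    (hd : ∀ q' : PrimeSpectrum R,
      q'.asIdeal.comap (algebraMap A R) = q.asIdeal.comap (algebraMap A R) → FibDepth.trd A q' ≤ e) :
    ∃ (s : ℕ) (r : R) (ψ : MvPolynomial (ULift.{u} (Fin s)) A →+* Localization.Away r), s ≤ e ∧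
      r ∉ q.asIdeal ∧ ψ.comp MvPolynomial.C = algebraMap A (Localization.Away r) ∧
      ψ.FiniteType ∧ ψ.QuasiFinite := by
  obtain ⟨s, ψ₀, hs, hqf⟩ := FibDepth.exists_quasiFiniteAt (A := A) q hd
  let T := MvPolynomial (Fin s) A
  let _ := ψ₀.toRingHom.toAlgebra
  haveI : IsScalarTower A T R := .of_algebraMap_eq fun a => (ψ₀.commutes a).symm
  haveI : Algebra.FiniteType T R := Algebra.FiniteType.of_restrictScalars_finiteType A _ R
  haveI : Algebra.QuasiFiniteAt T q.asIdeal := hqf
  obtain ⟨S', hS', c, hc, hbij⟩ :=
    Algebra.QuasiFiniteAt.exists_fg_and_exists_notMem_and_awayMap_bijective (R := T) q.asIdeal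
  haveI : Module.Finite T S' := ⟨(Submodule.fg_top _).mpr hS'⟩
  haveI : Algebra.QuasiFinite T (Localization.Away c) := .trans _ S' _
  haveI : Algebra.QuasiFinite T (Localization.Away c.1) :=
    .of_surjective_algHom (R := T) (S := Localization.Away c) (Localization.awayMapₐ S'.val c) hbij.2
  haveI : Algebra.FiniteType R (Localization.Away c.1) :=
    IsLocalization.finiteType_of_monoid_fg (Submonoid.powers c.1) _
  haveI : Algebra.FiniteType T (Localization.Away c.1) := Algebra.FiniteType.trans (S := R) inferInstance ‹_›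
  let E : MvPolynomial (ULift.{u} (Fin s)) A ≃+* T :=
    (MvPolynomial.renameEquiv A Equiv.ulift).toRingEquiv
  refine ⟨s, c.1, (algebraMap T (Localization.Away c.1)).comp E.toRingHom, hs, hc, ?_, ?_, ?_⟩
  · ext a
    show algebraMap T (Localization.Away c.1) (MvPolynomial.rename _ (MvPolynomial.C a)) = _
    rw [MvPolynomial.rename_C, ← MvPolynomial.algebraMap_eq,
      ← IsScalarTower.algebraMap_apply A T (Localization.Away c.1)]
  · exact (RingHom.finiteType_algebraMap.2 ‹_›).comp (RingHom.FiniteType.of_surjective _ E.surjective)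
  · exact (RingHom.quasiFinite_algebraMap.2 inferInstance).comp
      (RingHom.QuasiFinite.of_finite (RingHom.Finite.of_surjective _ E.surjective))

end Groth.Agent.EGA43.DimFormula
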