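import Groth.Agent.EGA43.DimFormula.Core
import Groth.Agent.EGA43.Chevalley.Main
import Groth.Agent.EGA43.DimFormula.PolyFibre

/-!
# Points of relative affine spaces and their transcendence degrees
-/

set_option autoImplicit false
set_option backward.isDefEq.respectTransparency false
set_option linter.style.haveILetI false

universe u

open CategoryTheory CategoryTheory.Limits AlgebraicGeometry TopologicalSpace MvPolynomial

namespace Groth.Agent.EGA43.DimFormula

open Groth.Agent FlatMorWeight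

theorem trdegHom_specMap {R S : CommRingCat.{u}} (φ : R ⟶ S) (Q : Spec S) :
    letI := φ.hom.toAlgebra
    DimLib.trdegHom ((Spec.map φ).residueFieldMap Q).hom = FibDepth.trd R Q := by
  let _ := φ.hom.toAlgebra
  let Q₀ : Spec R := Spec.map φ Q
  have hp : Q₀.asIdeal = Q.asIdeal.comap (algebraMap R S) := rfl
  let eR := (Scheme.Spec.residueFieldIso R Q₀).symm.commRingCatIsoToRingEquiv
  let eS := (Scheme.Spec.residueFieldIso S Q).symm.commRingCatIsoToRingEquiv
  rw [FibDepth.trd_eq_trdegHom Q hp, ← FibDepth.trdegHom_ringEquiv_comp eR,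
    ← DimLib.trdegHom_comp_ringEquiv (Ideal.ResidueField.map _ _ _ hp) eS]
  congr 1
  refine Ideal.ResidueField.ringHom_ext (RingHom.ext fun a => ?_)
  show (Spec.map φ).residueFieldMap Q ((Scheme.Spec.residueFieldIso R Q₀).inv (algebraMap R _ a)) =
    (Scheme.Spec.residueFieldIso S Q).inv (Ideal.ResidueField.map _ _ _ hp (algebraMap R _ a))
  rw [Ideal.ResidueField.map_algebraMap]
  have h1 := ConcreteCategory.congr_hom (Scheme.Spec.algebraMap_residueFieldIso_inv R Q₀) a
  have h2 := ConcreteCategory.congr_hom (Scheme.Spec.algebraMap_residueFieldIso_inv S Q) (φ a)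
  refine (congrArg _ h1).trans (Eq.trans ?_ h2.symm)
  show (Spec.map φ).residueFieldMap Q ((Spec R).Γevaluation _ ((Scheme.ΓSpecIso R).inv a)) =
    (Spec S).Γevaluation Q ((Scheme.ΓSpecIso S).inv (φ a))
  rw [Scheme.Γevaluation_naturality_apply (Spec.map φ) Q]
  refine congrArg _ ?_
  exact (ConcreteCategory.congr_hom (Scheme.ΓSpecIso_inv_naturality φ) a).symm

variable {Y : Scheme.{u}}

/-- Over an affine open, points of affine space are primes of the polynomial ring. -/
theorem exists_chart_affineSpace (n : ℕ) (u : ↥𝔸(ULift.{u} (Fin n); Y)) :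
    ∃ (V : Y.Opens) (hV : IsAffineOpen V)
      (j : Spec (.of (MvPolynomial (ULift.{u} (Fin n)) Γ(Y, V))) ⟶ 𝔸(ULift.{u} (Fin n); Y))
      (_ : IsOpenImmersion j) (Q : PrimeSpectrum (MvPolynomial (ULift.{u} (Fin n)) Γ(Y, V))),
      j Q = u ∧
      ∀ Q' : PrimeSpectrum (MvPolynomial (ULift.{u} (Fin n)) Γ(Y, V)),
        (𝔸(ULift.{u} (Fin n); Y) ↘ Y) (j Q') =
          hV.fromSpec (PrimeSpectrum.comap (algebraMap Γ(Y, V) _) Q') ∧
        trdAt (𝔸(ULift.{u} (Fin n); Y) ↘ Y) (j Q') = FibDepth.trd Γ(Y, V) Q' := by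
  let a := 𝔸(ULift.{u} (Fin n); Y) ↘ Y
  obtain ⟨V, hV, hyV, -⟩ := exists_isAffineOpen_mem_and_subset (x := a u) (U := ⊤) (Set.mem_univ _)
  let A := Γ(Y, V)
  let P := CommRingCat.of (MvPolynomial (ULift.{u} (Fin n)) A)
  let φ : A ⟶ P := CommRingCat.ofHom (algebraMap A (MvPolynomial (ULift.{u} (Fin n)) A))
  haveI : IsOpenImmersion (AffineSpace.map (ULift.{u} (Fin n)) hV.fromSpec) :=
    MorphismProperty.of_isPullback (AffineSpace.isPullback_map hV.fromSpec).flip inferInstance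
  let j : Spec P ⟶ 𝔸(ULift.{u} (Fin n); Y) :=
    (AffineSpace.SpecIso (ULift.{u} (Fin n)) A).inv ≫ AffineSpace.map _ hV.fromSpec
  have hj : j ≫ a = Spec.map φ ≫ hV.fromSpec := by
    simp only [j, a, φ, Category.assoc, AffineSpace.map_over, AffineSpace.SpecIso_inv_over_assoc]
    rfl
  have hu : u ∈ Set.range (AffineSpace.map (ULift.{u} (Fin n)) hV.fromSpec) := by
    obtain ⟨b, hb⟩ : a u ∈ Set.range hV.fromSpec := by rw [hV.range_fromSpec]; exact hyV
    have sq := AffineSpace.isPullback_map (n := ULift.{u} (Fin n)) hV.fromSpec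
    obtain ⟨w, hw, -⟩ := Scheme.exists_preimage_of_isPullback sq u b hb.symm
    exact ⟨w, hw⟩
  obtain ⟨w, hw⟩ := hu
  obtain ⟨Q, hQ⟩ := (AffineSpace.SpecIso (ULift.{u} (Fin n)) A).inv.homeomorph.surjective w
  haveI : IsOpenImmersion j := inferInstance
  refine ⟨V, hV, j, inferInstance, Q, ?_, fun Q' => ?_⟩
  · show (AffineSpace.map _ hV.fromSpec) ((AffineSpace.SpecIso (ULift.{u} (Fin n)) A).inv Q) = u
    rw [show (AffineSpace.SpecIso (ULift.{u} (Fin n)) A).inv Q = w from hQ, hw]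
  have h1 : a (j Q') = hV.fromSpec (Spec.map φ Q') := by
    rw [← Scheme.Hom.comp_apply, hj, Scheme.Hom.comp_apply]
  refine ⟨h1, ?_⟩
  show DimLib.trdegHom (a.residueFieldMap (j Q')).hom = _
  rw [← Chevalley.trdegHom_residueFieldMap_comp j a Q', hj, Scheme.residueFieldMap_comp]
  haveI := DimLib.isIso_residueFieldMap_of_isPreimmersion hV.fromSpec (Spec.map φ Q')
  rw [CommRingCat.hom_comp]
  refine (FibDepth.trdegHom_ringEquiv_comp
    (asIso (hV.fromSpec.residueFieldMap (Spec.map φ Q'))).commRingCatIsoToRingEquiv _).trans ?_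
  exact trdegHom_specMap φ Q'

theorem trdAt_affineSpace_le (n : ℕ) (u : ↥𝔸(ULift.{u} (Fin n); Y)) :
    trdAt (𝔸(ULift.{u} (Fin n); Y) ↘ Y) u ≤ n := by
  obtain ⟨V, hV, j, -, Q, rfl, hQ⟩ := exists_chart_affineSpace n u
  rw [(hQ Q).2]
  let E := (MvPolynomial.renameEquiv Γ(Y, V) (Equiv.ulift.{u} (α := Fin n))).symm
  rw [← FibDepth.trd_comap_of_surjectiveOnStalks E.toAlgHom
    (RingHom.surjectiveOnStalks_of_surjective E.surjective) Q]
  exact FibDepth.trd_mvPolynomial_le _

/-- A point of affine space is maximal in its fibre iff its transcendence degree is maximal. -/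
theorem trdAt_affineSpace_eq_iff (n : ℕ) (u : ↥𝔸(ULift.{u} (Fin n); Y)) :
    trdAt (𝔸(ULift.{u} (Fin n); Y) ↘ Y) u = n ↔
      ∀ v, v ⤳ u → (𝔸(ULift.{u} (Fin n); Y) ↘ Y) v = (𝔸(ULift.{u} (Fin n); Y) ↘ Y) u → v = u := by
  obtain ⟨V, hV, j, hj, Q, rfl, hQ⟩ := exists_chart_affineSpace n u
  let A := Γ(Y, V)
  let T := MvPolynomial (ULift.{u} (Fin n)) A
  let E := (MvPolynomial.renameEquiv A (Equiv.ulift.{u} (α := Fin n))).symm
  have hE : ∀ R : PrimeSpectrum T,
      FibDepth.trd A (PrimeSpectrum.comap E.toAlgHom.toRingHom R) = FibDepth.trd A R := fun R =>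
    FibDepth.trd_comap_of_surjectiveOnStalks E.toAlgHom
      (RingHom.surjectiveOnStalks_of_surjective E.surjective) R
  have hEc : ∀ R : PrimeSpectrum T,
      (PrimeSpectrum.comap E.toAlgHom.toRingHom R).asIdeal.comap (algebraMap A (MvPolynomial (Fin n) A)) =
        R.asIdeal.comap (algebraMap A T) := fun R => by
    show Ideal.comap _ (Ideal.comap E.toAlgHom.toRingHom R.asIdeal) = _
    rw [Ideal.comap_comap, ← E.toAlgHom.comp_algebraMap]
    rfl
  rw [(hQ Q).2]
  constructor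
  · intro h v hv he
    obtain ⟨Q', rfl⟩ := hv.mem_open j.isOpenEmbedding.isOpen_range ⟨Q, rfl⟩
    rw [(hQ Q').1, (hQ Q).1] at he
    have h2 := congrArg PrimeSpectrum.asIdeal (hV.fromSpec.isOpenEmbedding.injective he)
    have hle := (PrimeSpectrum.le_iff_specializes Q' Q).2
      (j.isOpenEmbedding.isInducing.specializes_iff.1 hv)
    have h3 := Chevalley.eq_of_trd_eq (A := A) (s := n)
      (Q' := PrimeSpectrum.comap E.toAlgHom.toRingHom Q') (Q := PrimeSpectrum.comap E.toAlgHom.toRingHom Q)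
      (Ideal.comap_mono hle) (by rw [hEc, hEc]; exact h2) ((hE Q).trans h)
    exact congrArg j (PrimeSpectrum.comap_injective_of_surjective _ E.surjective h3)
  · intro h
    refine (hE Q).symm.trans (trd_eq_of_minimal_in_fibre _ fun Q₁ hle₁ hc₁ => ?_)
    let Q' : PrimeSpectrum T := PrimeSpectrum.comap E.symm.toAlgHom.toRingHom Q₁
    have hQ₁ : PrimeSpectrum.comap E.toAlgHom.toRingHom Q' = Q₁ := by
      refine PrimeSpectrum.ext ?_
      ext x
      show E.symm (E x) ∈ Q₁.asIdeal ↔ _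
      rw [E.symm_apply_apply]
    have hle : Q' ≤ Q := fun x hx => by
      have h2 : E (E.symm x) ∈ Q.asIdeal := hle₁ hx
      rwa [E.apply_symm_apply] at h2
    have hc : Q'.asIdeal.comap (algebraMap A T) = Q.asIdeal.comap (algebraMap A T) := by
      rw [← hEc Q', ← hEc Q, hQ₁]
      exact hc₁
    refine hQ₁.symm.trans (congrArg _ ?_)
    have heq : j Q' = j Q := h _ (((PrimeSpectrum.le_iff_specializes Q' Q).1 hle).map j.continuous) (by
      rw [(hQ Q').1, (hQ Q).1]
      exact congrArg hV.fromSpec (PrimeSpectrum.ext hc))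
    exact j.isOpenEmbedding.injective heq

theorem isMaximalPt_affineSpace_iff (n : ℕ) (u : ↥𝔸(ULift.{u} (Fin n); Y)) :
    IsMaximalPt u ↔ IsMaximalPt ((𝔸(ULift.{u} (Fin n); Y) ↘ Y) u) ∧
      trdAt (𝔸(ULift.{u} (Fin n); Y) ↘ Y) u = n := by
  rw [trdAt_affineSpace_eq_iff]
  constructor
  · intro h
    refine ⟨?_, fun v hv _ => h v hv⟩
    obtain ⟨V, hV, j, hj, Q, rfl, hQ⟩ := exists_chart_affineSpace n u
    rw [(hQ Q).1]
    let φ : Γ(Y, V) ⟶ CommRingCat.of (MvPolynomial (ULift.{u} (Fin n)) Γ(Y, V)) :=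
      CommRingCat.ofHom (algebraMap Γ(Y, V) (MvPolynomial (ULift.{u} (Fin n)) Γ(Y, V)))
    haveI : Flat (Spec.map φ) := (HasRingHomProperty.Spec_iff (P := @Flat)).2
      (RingHom.flat_algebraMap_iff.2 inferInstance)
    haveI : Flat (Spec.map φ ≫ hV.fromSpec) := inferInstance
    refine IsMaximalPt.map_flat (Spec.map φ ≫ hV.fromSpec) (x := Q) fun z hz => ?_
    exact j.isOpenEmbedding.injective (h _ (hz.map j.continuous))
  · rintro ⟨h1, h2⟩ v hv
    exact h2 v hv (h1 _ (hv.map (𝔸(ULift.{u} (Fin n); Y) ↘ Y).continuous))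

end Groth.Agent.EGA43.DimFormula
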