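import Groth.Agent.EGA43.DimFormula.Main
import Groth.Agent.EGA43.DimFormula.AffineSp
import Groth.Agent.EGA43.DimFormula.UnivDim
import Groth.Agent.FlatMorWeight.GeomPoints

/-!
# Equidimensional morphisms and quasi-finite maps to affine spaces (EGA IV 13.3.1, 13.3.8)
-/

set_option autoImplicit false
set_option backward.isDefEq.respectTransparency false
set_option linter.style.haveILetI false

universe u

open CategoryTheory CategoryTheory.Limits AlgebraicGeometry TopologicalSpace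

namespace Groth.Agent.EGA43.DimFormula

open Groth.Agent FlatMorWeight

theorem trdAt_comp_locallyQuasiFinite {U A Y : Scheme.{u}} (g : U ⟶ A) [LocallyQuasiFinite g]
    (a : A ⟶ Y) (w : U) : trdAt (g ≫ a) w = trdAt a (g w) := by
  show DimLib.trdegHom ((g ≫ a).residueFieldMap w).hom = _
  rw [Scheme.residueFieldMap_comp, CommRingCat.hom_comp]
  let _ := (g.residueFieldMap w).hom.toAlgebra
  haveI : Module.Finite (A.residueField (g w)) (U.residueField w) := residueFieldMap_finite g w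
  haveI : Algebra.IsAlgebraic (A.residueField (g w)) (U.residueField w) := inferInstance
  exact FibDepth.trdegHom_comp_of_isAlgebraic _ _

variable {X Y : Scheme.{u}} (f : X ⟶ Y) [LocallyOfFiniteType f]

/-- EGA IV 13.3.1, b) ⇒ a). -/
theorem isEquidimAt_of_toAffineSpace [IsLocallyNoetherian Y] (x : X) (e : ℕ) (U : X.Opens)
    (g : (U : Scheme.{u}) ⟶ 𝔸(ULift.{u} (Fin e); Y)) (hxU : x ∈ U)
    (hg : g ≫ (𝔸(ULift.{u} (Fin e); Y) ↘ Y) = U.ι ≫ f) [LocallyQuasiFinite g]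
    (hcomp : ∀ Z ∈ irreducibleComponents (↥U : Type u),
      closure (g.base '' Z) ∈ irreducibleComponents (↥𝔸(ULift.{u} (Fin e); Y) : Type u)) :
    EGA43.IsEquidimAt f x := by
  let a := 𝔸(ULift.{u} (Fin e); Y) ↘ Y
  have htrd : ∀ w : U, trdAt f w.1 = trdAt a (g w) := fun w => by
    rw [← trdAt_comp_locallyQuasiFinite g a w, hg]
    exact (Chevalley.trdegHom_residueFieldMap_comp U.ι f w).symm
  have hval : ∀ w : U, f w.1 = a (g w) := fun w => by
    show (U.ι ≫ f) w = (g ≫ a) w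
    rw [hg]
  have hD : fibDim f x + trdAt f x ≤ e := by
    obtain ⟨z, hzx, -, -, hd⟩ := exists_fibre_max f x
    rw [← hd, htrd ⟨z, hzx.mem_open U.isOpen hxU⟩]
    exact trdAt_affineSpace_le e _
  refine isEquidimAt_of_forall f x fun ξ hξ hξx => ?_
  let ξ' : U := ⟨ξ, hξx.mem_open U.isOpen hxU⟩
  have hZ : closure {ξ'} ∈ irreducibleComponents (↥U : Type u) :=
    DimLib.closure_mem_components (X := U.toScheme) fun w hw =>
      ((Chevalley.isMaximalPt_coe_iff ξ').2 hξ w hw).symm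
  have hgξ : IsMaximalPt (g ξ') :=
    isMaximalPt_of_isGenericPoint (hcomp _ hZ) (isGenericPoint_closure.image g.continuous)
  obtain ⟨h1, h2⟩ := (isMaximalPt_affineSpace_iff e (g ξ')).1 hgξ
  have hd : trdAt f ξ = e := (htrd ξ').trans h2
  have hle := trdAt_le_of_specializes f hξx
  exact ⟨(hval ξ').symm ▸ h1, by omega⟩

/-- EGA IV 13.3.1, a) ⇒ b). -/
theorem exists_toAffineSpace (x : X) (h : EGA43.IsEquidimAt f x) :
    ∃ (e : ℕ) (U : X.Opens) (g : (U : Scheme.{u}) ⟶ 𝔸(ULift.{u} (Fin e); Y)),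
      x ∈ U ∧ g ≫ (𝔸(ULift.{u} (Fin e); Y) ↘ Y) = U.ι ≫ f ∧ LocallyQuasiFinite g ∧
      ∀ Z ∈ irreducibleComponents (↥U : Type u),
        closure (g.base '' Z) ∈ irreducibleComponents (↥𝔸(ULift.{u} (Fin e); Y) : Type u) := by
  obtain ⟨e, U₀, hxU₀, hc, hd⟩ := (Chevalley.isEquidimAt_iff f x).1 h
  obtain ⟨V, hV, hxV, -⟩ := exists_isAffineOpen_mem_and_subset (x := f x) (U := ⊤) (Set.mem_univ _)
  obtain ⟨U, hU, hxU, hUle⟩ :=
    exists_isAffineOpen_mem_and_subset (x := x) (U := (f ⁻¹ᵁ V) ⊓ U₀) ⟨hxV, hxU₀⟩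
  have e' : U ≤ f ⁻¹ᵁ V := fun a ha => (hUle ha).1
  algebraize [(f.appLE V U e').hom]
  haveI : Algebra.FiniteType Γ(Y, V) Γ(X, U) := f.finiteType_appLE hV hU e'
  obtain ⟨s, r, ψ, hse, hr, hcomp, hft, hqf⟩ := exists_qf_algHom (A := Γ(Y, V))
    (hU.primeIdealOf ⟨x, hxU⟩) e fun q' hq' => by
      have hw : hU.fromSpec q' ∈ U := hU.range_fromSpec.le ⟨q', rfl⟩
      have hq : hU.primeIdealOf ⟨_, hw⟩ = q' :=
        hU.fromSpec.isOpenEmbedding.injective (hU.fromSpec_primeIdealOf ⟨_, hw⟩)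
      rw [← hq, ← FibDepth.trdegHom_residueFieldMap f hV hU e' hw]
      obtain ⟨z, hz, hzf, hzmax⟩ := Chevalley.exists_maximal_in_fibre f (hU.fromSpec q')
      rw [← hd z (hz.mem_open U₀.isOpen (hUle hw).2) fun w hw he => hzmax w hw (he.trans hzf)]
      exact Chevalley.trdegHom_le_of_specializes f hz hzf
  let P := CommRingCat.of (MvPolynomial (ULift.{u} (Fin s)) Γ(Y, V))
  let B := CommRingCat.of (Localization.Away r)
  haveI : IsOpenImmersion (AffineSpace.map (ULift.{u} (Fin s)) hV.fromSpec) :=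
    MorphismProperty.of_isPullback (AffineSpace.isPullback_map hV.fromSpec).flip inferInstance
  let j : Spec P ⟶ 𝔸(ULift.{u} (Fin s); Y) :=
    (AffineSpace.SpecIso (ULift.{u} (Fin s)) Γ(Y, V)).inv ≫ AffineSpace.map _ hV.fromSpec
  haveI : LocallyQuasiFinite (Spec.map (CommRingCat.ofHom ψ : P ⟶ B)) :=
    (HasRingHomProperty.Spec_iff (P := @LocallyQuasiFinite)).2 hqf
  let ρ : Γ(X, U) ⟶ B := CommRingCat.ofHom (algebraMap Γ(X, U) (Localization.Away r))
  haveI : IsOpenImmersion (Spec.map ρ) := IsOpenImmersion.of_isLocalization r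
  let hh : Spec B ⟶ X := Spec.map ρ ≫ hU.fromSpec
  let W := hh.opensRange
  let g₁ : Spec B ⟶ 𝔸(ULift.{u} (Fin s); Y) := Spec.map (CommRingCat.ofHom ψ : P ⟶ B) ≫ j
  let g : (W : Scheme.{u}) ⟶ 𝔸(ULift.{u} (Fin s); Y) := hh.isoOpensRange.inv ≫ g₁
  have hfac : g₁ ≫ (𝔸(ULift.{u} (Fin s); Y) ↘ Y) = hh ≫ f := by
    simp only [g₁, j, hh, Category.assoc, AffineSpace.map_over, AffineSpace.SpecIso_inv_over_assoc]
    rw [← IsAffineOpen.SpecMap_appLE_fromSpec f hV hU e', ← Category.assoc, ← Category.assoc,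
      ← Spec.map_comp, ← Spec.map_comp]
    congr 2
    refine CommRingCat.hom_ext ?_
    show ψ.comp MvPolynomial.C = (algebraMap Γ(X, U) (Localization.Away r)).comp (f.appLE V U e').hom
    rw [hcomp]
    exact IsScalarTower.algebraMap_eq Γ(Y, V) Γ(X, U) (Localization.Away r)
  have hgf : g ≫ (𝔸(ULift.{u} (Fin s); Y) ↘ Y) = W.ι ≫ f := by
    simp only [g, Category.assoc, hfac]
    rw [← Category.assoc, Scheme.Hom.isoOpensRange_inv_comp]
  haveI : LocallyQuasiFinite g := inferInstance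
  have hxW : x ∈ W := by
    obtain ⟨q, hq⟩ : hU.primeIdealOf ⟨x, hxU⟩ ∈
        Set.range (PrimeSpectrum.comap (algebraMap Γ(X, U) (Localization.Away r))) := by
      rw [PrimeSpectrum.localization_away_comap_range (Localization.Away r) r]; exact hr
    refine ⟨q, ?_⟩
    show hU.fromSpec (PrimeSpectrum.comap (algebraMap Γ(X, U) (Localization.Away r)) q) = x
    rw [hq, hU.fromSpec_primeIdealOf]
  have hWU₀ : ∀ w ∈ W, w ∈ U₀ := by
    rintro _ ⟨q, rfl⟩
    exact (hUle (hU.range_fromSpec.le ⟨Spec.map ρ q, rfl⟩)).2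
  let a := 𝔸(ULift.{u} (Fin s); Y) ↘ Y
  have hgen : ∀ ξ : W, IsMaximalPt ξ.1 → trdAt a (g ξ) = e ∧ IsMaximalPt (a (g ξ)) := fun ξ hξ => by
    constructor
    · rw [← trdAt_comp_locallyQuasiFinite g a ξ, hgf]
      exact (Chevalley.trdegHom_residueFieldMap_comp W.ι f ξ).trans
        (hd _ (hWU₀ _ ξ.2) fun w hw _ => hξ w hw)
    · rw [← Scheme.Hom.comp_apply, hgf]
      exact (hc _ (hWU₀ _ ξ.2) hξ).1
  obtain rfl : s = e := by
    obtain ⟨ξ, hξx, C, hC, hgenC⟩ := exists_isMaximalPt_specializes x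
    have h1 := (hgen ⟨ξ, hξx.mem_open W.isOpen hxW⟩ (isMaximalPt_of_isGenericPoint hC hgenC)).1
    have h2 := trdAt_affineSpace_le s (g ⟨ξ, hξx.mem_open W.isOpen hxW⟩)
    exact le_antisymm hse (h1 ▸ h2)
  refine ⟨s, W, g, hxW, hgf, inferInstance, fun Z hZ => ?_⟩
  obtain ⟨ξ, hξgen, hξmax⟩ := Chevalley.exists_isGenericPoint (X := W.toScheme) hZ
  obtain ⟨h1, h2⟩ := hgen ξ ((Chevalley.isMaximalPt_coe_iff ξ).1 hξmax)
  rw [← (hξgen.image g.continuous).def]
  exact DimLib.closure_mem_components fun w hw =>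
    ((isMaximalPt_affineSpace_iff s (g ξ)).2 ⟨h2, h1⟩ w hw).symm

/-- EGA IV 13.3.8: equidimensionality is stable under flat base change. -/
theorem isEquidimAt_pullback_flat {Y' : Scheme.{u}} (g : Y' ⟶ Y) [Flat g] [IsLocallyNoetherian Y']
    (x : X) (h : EGA43.IsEquidimAt f x) (x' : ↥(pullback f g)) (hx' : pullback.fst f g x' = x) :
    EGA43.IsEquidimAt (pullback.snd f g) x' := by
  obtain ⟨e, U₀, hxU₀, hc, hd⟩ := (Chevalley.isEquidimAt_iff f x).1 h
  let s := pullback.snd f g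
  let p := pullback.fst f g
  haveI : LocallyOfFiniteType s := inferInstance
  haveI := LocallyOfFiniteType.isLocallyNoetherian s
  haveI : Flat p := MorphismProperty.pullback_fst _ _ inferInstance
  obtain ⟨U₁, hxU₁, hU₁⟩ := exists_nhd_maximalPt_specializes x'
  refine (Chevalley.isEquidimAt_iff s x').2 ⟨e, U₁ ⊓ p ⁻¹ᵁ U₀, ⟨hxU₁, show p x' ∈ U₀ by rw [hx']; exact hxU₀⟩,
    fun ξ hξU hξ => ⟨?_, (hU₁ ξ hξU.1 hξ).map s.continuous⟩, fun z hz hmax => ?_⟩
  · have hfx : IsMaximalPt (f (p ξ)) := (hc _ hξU.2 (hξ.map_flat p)).1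
    intro v hv
    have hgv : g v = f (p ξ) := by
      refine hfx _ ?_
      have h1 := hv.map g.continuous
      rw [← Scheme.Hom.comp_apply, ← pullback.condition, Scheme.Hom.comp_apply] at h1
      exact h1
    let σ := pullbackSymmetry f g
    have hfst : pullback.fst g f (σ.hom ξ) = s ξ := by
      rw [← Scheme.Hom.comp_apply, pullbackSymmetry_hom_comp_fst]
    have he : g v = g (pullback.fst g f (σ.hom ξ)) := by
      rw [hfst, hgv, ← Scheme.Hom.comp_apply, ← Scheme.Hom.comp_apply, pullback.condition]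
    obtain ⟨q, hq, hqv, -⟩ := Chevalley.exists_specializes_pullback g f (σ.hom ξ) (z := v)
      (hv.trans (specializes_of_eq hfst.symm)) he
    have hq' : σ.inv q ⤳ ξ := by
      have := hq.map σ.inv.continuous
      rwa [← Scheme.Hom.comp_apply, σ.hom_inv_id] at this
    have h2 := congrArg s (hξ _ hq')
    rw [← h2, ← hqv, ← Scheme.Hom.comp_apply, pullbackSymmetry_inv_comp_snd]
  · obtain ⟨h1, h2⟩ := trdAt_pullback_of_maximal f g z hmax
    exact h1.trans (hd _ hz.2 h2)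

end Groth.Agent.EGA43.DimFormula
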