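import Groth.Agent.EGA43.DimFormula.Sets

/-!
# Fibres over a valuation ring
-/

set_option autoImplicit false
set_option backward.isDefEq.respectTransparency false
set_option linter.style.haveILetI false

universe u

open CategoryTheory CategoryTheory.Limits AlgebraicGeometry TopologicalSpace IsLocalRing

namespace Groth.Agent.EGA43.DimFormula

open Groth.Agent FlatMorWeight

/-- Over a valuation ring, transcendence degrees do not drop from a point to a generisation of it
over the generic point. -/
theorem trdAt_le_of_valuationRing {A₀ : Type u} [CommRing A₀] [IsDomain A₀] [ValuationRing A₀]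
    {X : Scheme.{u}} (s : X ⟶ Spec (CommRingCat.of A₀)) [LocallyOfFiniteType s] {m p : X}
    (hmp : m ⤳ p) (hm : s m = genericPoint (Spec (CommRingCat.of A₀))) : trdAt s p ≤ trdAt s m := by
  let W : (Spec (CommRingCat.of A₀)).Opens := ⊤
  have hW : IsAffineOpen W := isAffineOpen_top _
  obtain ⟨U, hU, hpU, e'⟩ :=
    exists_isAffineOpen_mem_and_subset (x := p) (U := s ⁻¹ᵁ W) (Set.mem_univ _)
  have e : U ≤ s ⁻¹ᵁ W := e'
  have hmU : m ∈ U := hmp.mem_open U.isOpen hpU
  let A := Γ(Spec (CommRingCat.of A₀), W)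
  let eA : A₀ ≃+* A := (Scheme.ΓSpecIso (CommRingCat.of A₀)).symm.commRingCatIsoToRingEquiv
  haveI : IsDomain A := eA.symm.injective.isDomain eA.symm.toRingHom
  haveI : ValuationRing A := Function.Surjective.valuationRing eA.toRingHom eA.surjective
  algebraize [(s.appLE W U e).hom]
  haveI : Algebra.FiniteType A Γ(X, U) := s.finiteType_appLE hW hU e
  show DimLib.trdegHom (s.residueFieldMap p).hom ≤ DimLib.trdegHom (s.residueFieldMap m).hom
  rw [FibDepth.trdegHom_residueFieldMap s hW hU e hpU, FibDepth.trdegHom_residueFieldMap s hW hU e hmU]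
  refine trd_le_of_valuationRing (hU.primeIdealOf ⟨m, hmU⟩) (hU.primeIdealOf ⟨p, hpU⟩)
    ((primeIdealOf_le_iff hU _ _).2 hmp) ?_
  show (hU.primeIdealOf ⟨m, hmU⟩).asIdeal.comap (s.appLE W U e).hom = ⊥
  rw [FibDepth.comap_primeIdealOf s hW hU e hmU]
  let b : PrimeSpectrum A := ⟨⊥, Ideal.isPrime_bot⟩
  have hb : hW.fromSpec b ⤳ s m := by
    have h1 := ((PrimeSpectrum.le_iff_specializes b (hW.primeIdealOf ⟨s m, e hmU⟩)).1
      (bot_le : (⊥ : Ideal A) ≤ _)).map hW.fromSpec.continuous
    rwa [hW.fromSpec_primeIdealOf] at h1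
  have hmax0 : hW.fromSpec b = s m := (hb.antisymm (hm ▸ genericPoint_specializes _)).eq
  have : hW.primeIdealOf ⟨s m, e hmU⟩ = b :=
    hW.fromSpec.isOpenEmbedding.injective ((hW.fromSpec_primeIdealOf _).trans hmax0.symm)
  exact congrArg PrimeSpectrum.asIdeal this

/-- EGA IV 14.3.10: the two fibres of a dominant morphism from an irreducible scheme to the
spectrum of a valuation ring have the same dimension when both are non-empty. -/
theorem fiber_dim_eq_of_valuationRing {A₀ : Type u} [CommRing A₀] [IsDomain A₀] [ValuationRing A₀]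
    {X : Scheme.{u}} [IrreducibleSpace X] (f : X ⟶ Spec (CommRingCat.of A₀)) [LocallyOfFiniteType f]
    [IsDominant f] (x₀ : X) (hx₀ : f x₀ = closedPoint A₀) :
    topologicalKrullDim ↥(f.fiber (closedPoint A₀)) =
      topologicalKrullDim ↥(f.fiber (genericPoint (Spec (CommRingCat.of A₀)))) := by
  have hξ : f (genericPoint X) = genericPoint (Spec (CommRingCat.of A₀)) :=
    ((genericPoint_spec X).image f.continuous).eq
      (by rw [Set.image_univ, f.denseRange.closure_range]; exact genericPoint_spec _)
  refine le_antisymm (fiber_dim_le_of_maximal f fun x _ _ => ⟨genericPoint X, hξ, ?_⟩)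
    (fiber_dim_le_of_maximal f fun x hx hmax => ?_)
  · exact trdAt_le_of_valuationRing f (genericPoint_specializes x) hξ
  · obtain rfl := hmax (genericPoint X) (genericPoint_specializes x) hξ
    obtain ⟨z, -, hz, -, hd⟩ := Chevalley.exists_maximal_fibreDimAt f x₀
    exact ⟨z, hz.trans hx₀, Chevalley.trdegHom_le_fibreDimAt f (genericPoint_specializes x₀) _ hd.le⟩

end Groth.Agent.EGA43.DimFormula
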