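import Groth.Agent.EGA43.DimFormula.Sets
import Groth.Agent.H8ProCons.Image
import Mathlib.AlgebraicGeometry.Morphisms.FinitePresentation

/-!
# Dimensions of fibres near a point with an open fibre (EGA IV 14.2.4–14.2.5, 14.3.13)
-/

set_option autoImplicit false
set_option backward.isDefEq.respectTransparency false
set_option linter.style.haveILetI false

universe u

open CategoryTheory CategoryTheory.Limits AlgebraicGeometry TopologicalSpace IsLocalRing Topology

namespace Groth.Agent.EGA43.DimFormula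

open Groth.Agent FlatMorWeight

theorem isLocallyConstructible_of_isOpen {X : Scheme.{u}} [IsLocallyNoetherian X] {U : Set X}
    (hU : IsOpen U) : IsLocallyConstructible U := by
  refine IsLocallyConstructible.of_isOpenCover (U := fun V : X.affineOpens ↦ V.1)
    (iSup_affineOpens_eq_top X) fun V ↦ ?_
  haveI : IsAffine V.1.toScheme := V.2
  haveI : IsNoetherian V.1.toScheme := { }
  refine IsRetrocompact.isLocallyConstructible (hU.preimage continuous_subtype_val) fun W _ _ => ?_
  exact NoetherianSpace.isCompact (α := V.1.toScheme) _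

theorem isLocallyConstructible_compl {X : Scheme.{u}} {E : Set X} (hE : IsLocallyConstructible E) :
    IsLocallyConstructible Eᶜ := by
  obtain ⟨h1, h2⟩ := H8ProCons.isLocallyConstructible_iff_ind_and_pro.1 hE
  refine H8ProCons.isLocallyConstructible_iff_ind_and_pro.2
    ⟨H8ProCons.isProConstructible_iff_compl.1 h2, ?_⟩
  rw [H8ProCons.isProConstructible_iff_compl, compl_compl]
  exact h1

theorem mem_nhds_of_isLocallyConstructible {X : Scheme.{u}} {E : Set X} (hE : IsLocallyConstructible E)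
    {x : X} (h : ∀ x', x' ⤳ x → x' ∈ E) : E ∈ nhds x :=
  mem_interior_iff_mem_nhds.1
    ((H8ProCons.mem_interior_iff (H8ProCons.isLocallyConstructible_iff_ind_and_pro.1 hE).1 x).2 h)

variable {X Y : Scheme.{u}} [IsLocallyNoetherian Y] (f : X ⟶ Y) [LocallyOfFiniteType f]

/-- Generisations over a generisation of the base, maximal in their fibre, with the same dimension. -/
theorem exists_maximal_lift {z : X} (hmax : ∀ w, w ⤳ z → f w = f z → w = z)
    (h : EGA43.IsOpenAt f.base z) {y' : Y} (hy' : y' ⤳ f z) :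
    ∃ w, w ⤳ z ∧ f w = y' ∧ (∀ v, v ⤳ w → f v = y' → v = w) ∧ trdAt f w = trdAt f z := by
  obtain ⟨w₀, hw₀z, hw₀, hd⟩ := Chevalley.exists_generization_trdegHom_le f z hmax
    (fun _ hy' => H8ProCons.exists_generization_of_isOpenAt f h hy') hy'
  obtain ⟨w, hw, hwf, hwmax⟩ := Chevalley.exists_maximal_in_fibre f w₀
  refine ⟨w, hw.trans hw₀z, hwf.trans hw₀, fun v hv he => hwmax v hv (he.trans hw₀.symm), ?_⟩
  have h1 := Chevalley.trdegHom_le_of_specializes f hw hwf
  have h2 := trdAt_le_of_specializes f (hw.trans hw₀z)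
  have h3 := (fibDim_eq_zero_iff f z).2 hmax
  unfold trdAt at h2 ⊢
  omega

theorem isLocallyConstructible_image_fibreDimAt_eq [QuasiCompact f] (n : ℕ) :
    IsLocallyConstructible (f.base '' {a : X | fibDim f a + trdAt f a = n}) := by
  haveI := LocallyOfFiniteType.isLocallyNoetherian f
  haveI : LocallyOfFinitePresentation f := inferInstance
  refine f.isLocallyConstructible_image ?_
  have hle : ∀ m, IsLocallyConstructible {a : X | fibDim f a + trdAt f a ≤ m} := fun m => by
    refine isLocallyConstructible_of_isOpen ?_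
    convert FlatMorDim.isOpen_fibreDimAt_le f m using 1
    ext a
    rw [Set.mem_ofPred_eq, Set.mem_ofPred_eq, fibreDimAt_eq f a]
    norm_cast
  rcases n with _ | m
  · convert hle 0 using 1
    ext a
    simp
  · convert (hle (m + 1)).inter (isLocallyConstructible_compl (hle m)) using 1
    ext a
    simp only [Set.mem_ofPred_eq, Set.mem_inter_iff, Set.mem_compl_iff]
    omega

/-- `n` is the dimension of a component of `X_y` iff it is `dim_a X_y` for some `a` over `y`. -/
theorem mem_dims_iff_image (y : Y) (n : ℕ) :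
    ((n : WithBot ℕ∞) ∈ (fun Z : Set ↥(f.fiber y) => topologicalKrullDim ↥Z) ''
      irreducibleComponents ↥(f.fiber y)) ↔ y ∈ f.base '' {a : X | fibDim f a + trdAt f a = n} := by
  rw [mem_dims_iff f y]
  constructor
  · rintro ⟨x, hx, hmax, hd⟩
    refine ⟨x, ?_, hx⟩
    have h0 := (fibDim_eq_zero_iff f x).2 fun w hw he => hmax w hw (he.trans hx)
    have hd' : trdAt f x = n := by exact_mod_cast hd
    show fibDim f x + trdAt f x = n
    omega
  · rintro ⟨a, ha, rfl⟩
    obtain ⟨z, hza, hz, hzmax, hd⟩ := exists_fibre_max f a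
    exact ⟨z, hz, fun w hw he => hzmax w hw (he.trans hz.symm),
      by rw [hd, show fibDim f a + trdAt f a = n from ha]⟩

theorem dims_subset_of_specializes {y y' : Y} (hy' : y' ⤳ y)
    (h : ∀ x : X, f x = y → EGA43.IsOpenAt f.base x) (n : ℕ)
    (hn : y ∈ f.base '' {a : X | fibDim f a + trdAt f a = n}) :
    y' ∈ f.base '' {a : X | fibDim f a + trdAt f a = n} := by
  obtain ⟨a, ha, rfl⟩ := hn
  obtain ⟨z, hza, hz, hzmax, hd⟩ := exists_fibre_max f a
  obtain ⟨w, -, hw, hwmax, hdw⟩ := exists_maximal_lift f hzmax (h z hz) (y' := y')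
    (hy'.trans (specializes_of_eq hz.symm))
  have h0 := (fibDim_eq_zero_iff f w).2 fun v hv he => hwmax v hv (he.trans hw)
  exact ⟨w, show fibDim f w + trdAt f w = n by
    have : fibDim f a + trdAt f a = n := ha
    omega, hw⟩

theorem dims_eventually_eq [QuasiCompact f] (hf : IsOpenMap f.base) (y : Y)
    (h : ∀ η : Y, y ∈ closure {η} → closure {η} ∈ irreducibleComponents (Y : Type u) →
      ∀ n, y ∈ f.base '' {a : X | fibDim f a + trdAt f a = n} ↔
        η ∈ f.base '' {a : X | fibDim f a + trdAt f a = n}) (n : ℕ) :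
    {z : Y | z ∈ f.base '' {a : X | fibDim f a + trdAt f a = n} ↔
      y ∈ f.base '' {a : X | fibDim f a + trdAt f a = n}} ∈ nhds y := by
  have hop : ∀ x : X, EGA43.IsOpenAt f.base x := fun x U hU => hf.image_mem_nhds hU
  have key : ∀ y', y' ⤳ y → (y' ∈ f.base '' {a : X | fibDim f a + trdAt f a = n} ↔
      y ∈ f.base '' {a : X | fibDim f a + trdAt f a = n}) := fun y' hy' => by
    obtain ⟨η, hη, W, hW, hgen⟩ := exists_isMaximalPt_specializes y'
    refine ⟨fun h' => (h η (specializes_iff_mem_closure.1 (hη.trans hy')) (hgen.def ▸ hW) n).2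
      (dims_subset_of_specializes f hη (fun x _ => hop x) n h'),
      dims_subset_of_specializes f hy' (fun x _ => hop x) n⟩
  refine mem_nhds_of_isLocallyConstructible ?_ key
  have hc := isLocallyConstructible_image_fibreDimAt_eq f n
  by_cases hy : y ∈ f.base '' {a : X | fibDim f a + trdAt f a = n}
  · convert hc using 1
    ext z
    exact ⟨fun h' => h'.2 hy, fun h' => ⟨fun _ => hy, fun _ => h'⟩⟩
  · convert isLocallyConstructible_compl hc using 1
    ext z
    exact ⟨fun h' hz => hy (h'.1 hz), fun h' => ⟨fun hz => absurd hz h', fun hy' => absurd hy' hy⟩⟩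

theorem fiber_dim_eventually_le [QuasiCompact f] (y : Y) (n : ℕ)
    (h : ∀ y', y' ⤳ y → topologicalKrullDim ↥(f.fiber y') ≤ (n : WithBot ℕ∞)) :
    {z : Y | topologicalKrullDim ↥(f.fiber z) ≤ (n : WithBot ℕ∞)} ∈ nhds y := by
  haveI := LocallyOfFiniteType.isLocallyNoetherian f
  haveI : LocallyOfFinitePresentation f := inferInstance
  refine mem_nhds_of_isLocallyConstructible ?_ h
  have hc : IsLocallyConstructible {a : X | fibDim f a + trdAt f a ≤ n} := by
    refine isLocallyConstructible_of_isOpen ?_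
    convert FlatMorDim.isOpen_fibreDimAt_le f n using 1
    ext a
    rw [Set.mem_ofPred_eq, Set.mem_ofPred_eq, fibreDimAt_eq f a]
    norm_cast
  convert isLocallyConstructible_compl (f.isLocallyConstructible_image (isLocallyConstructible_compl hc)) using 1
  ext z
  simp only [Set.mem_ofPred_eq, Set.mem_compl_iff, Set.mem_image, not_exists, not_and,
    FlatMorDim.fiber_dim_le_iff f z n]
  constructor
  · intro h' a ha hfa
    refine ha ?_
    obtain ⟨w, -, hw, -, hd⟩ := exists_fibre_max f a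
    have := h' w (hw.trans hfa)
    show fibDim f a + trdAt f a ≤ n
    unfold trdAt at hd ⊢
    omega
  · intro h' x hx
    by_contra hlt
    refine h' x (fun hle => hlt ?_) hx
    have h1 := trdAt_le f (w := x) specializes_rfl rfl
    have h2 : fibDim f x + trdAt f x ≤ n := hle
    show trdAt f x ≤ n
    omega

theorem fiber_dim_bounds (y : Y) : topologicalKrullDim ↥(f.fiber y) = ⊥ ∨
    ∃ x, f x = y := by
  by_cases hy : y ∈ Set.range f
  · exact Or.inr hy
  · exact Or.inl (le_bot_iff.1 ((FlatMorDim.fiber_dim_le_bot_iff f y).2 hy))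

theorem exists_fiber_dim_eq [QuasiCompact f] (y : Y) {x : X} (hx : f x = y) :
    ∃ n : ℕ, topologicalKrullDim ↥(f.fiber y) = n := by
  obtain ⟨V, hV, hyV, -⟩ := exists_isAffineOpen_mem_and_subset (x := y) (U := ⊤) (Set.mem_univ _)
  haveI : IsAffine V.toScheme := hV
  haveI : CompactSpace ↥(f ⁻¹ᵁ V) := isCompact_iff_compactSpace.1 (f.isCompact_preimage hV.isCompact)
  obtain ⟨N, hN⟩ : ∃ N, ∀ w, f w = y → trdAt f w ≤ N := by
    have hopen : ∀ w : X, ∃ O : Set X, ∃ N, IsOpen O ∧ w ∈ O ∧ ∀ v ∈ O, trdAt f v ≤ N := fun w => by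
      refine ⟨_, _, FlatMorDim.isOpen_fibreDimAt_le f (fibDim f w + trdAt f w), (fibreDimAt_eq f w).le,
        fun v hv => FlatMorDim.trdegHom_le_of_fibreDimAt_le f v _ hv⟩
    choose O N hO hwO hN using hopen
    obtain ⟨t, ht⟩ := (f.isCompact_preimage hV.isCompact).elim_finite_subcover O hO
      fun w _ => Set.mem_iUnion.2 ⟨w, hwO w⟩
    refine ⟨t.sup N, fun w hw => ?_⟩
    obtain ⟨i, hi, hwi⟩ := Set.mem_iUnion₂.1 (ht (show w ∈ f ⁻¹ᵁ V from by
      show f w ∈ V
      rw [hw]; exact hyV))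
    exact (hN i w hwi).trans (Finset.le_sup hi)
  have hle : topologicalKrullDim ↥(f.fiber y) ≤ (N : WithBot ℕ∞) := (FlatMorDim.fiber_dim_le_iff f y N).2 hN
  have hge : ((0 : ℕ) : WithBot ℕ∞) ≤ topologicalKrullDim ↥(f.fiber y) :=
    (Chevalley.le_fiber_dim_iff f y 0).2 ⟨x, hx, Nat.zero_le _⟩
  generalize topologicalKrullDim ↥(f.fiber y) = d at hle hge ⊢
  induction d using WithBot.recBotCoe with
  | bot => exact absurd hge (by simp)
  | coe d =>
    induction d using ENat.recTopCoe with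
    | top => exact absurd (WithBot.coe_le_coe.1 hle) (by simp)
    | coe k => exact ⟨k, rfl⟩

theorem exists_nhd_fiber_dim_eq [QuasiCompact f] (hf : IsOpenMap f.base) (y : Y)
    (h : ∀ η : Y, y ∈ closure {η} → closure {η} ∈ irreducibleComponents (Y : Type u) →
      topologicalKrullDim ↥(f.fiber y) = topologicalKrullDim ↥(f.fiber η)) :
    ∃ V ∈ nhds y, ∀ z ∈ V, topologicalKrullDim ↥(f.fiber z) = topologicalKrullDim ↥(f.fiber y) := by
  have hop : ∀ x : X, EGA43.IsOpenAt f.base x := fun x U hU => hf.image_mem_nhds hU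
  have hgen : ∀ y', y' ⤳ y → topologicalKrullDim ↥(f.fiber y') ≤ topologicalKrullDim ↥(f.fiber y) := by
    intro y' hy'
    obtain ⟨η, hη, W, hW, hgen⟩ := exists_isMaximalPt_specializes y'
    rw [h η (specializes_iff_mem_closure.1 (hη.trans hy')) (hgen.def ▸ hW)]
    refine fiber_dim_le_of_maximal f fun x hx hmax => ?_
    obtain ⟨w, -, hw, -, hd⟩ := exists_maximal_lift f (z := x)
      (fun v hv he => hmax v hv (he.trans hx)) (hop x) (y' := η) (hη.trans (specializes_of_eq hx.symm))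
    exact ⟨w, hw, hd.ge⟩
  by_cases hy : y ∈ Set.range f
  · obtain ⟨x₀, hx₀⟩ := hy
    obtain ⟨n, hn⟩ := exists_fiber_dim_eq f y hx₀
    obtain ⟨x, hx, hxn⟩ := (Chevalley.le_fiber_dim_iff f y n).1 hn.ge
    obtain ⟨z, -, hz, -, hd⟩ := exists_fibre_max f x
    have hmem : y ∈ f.base '' {a : X | fibDim f a + trdAt f a = n} := ⟨x, by
      have h1 : trdAt f z ≤ n := (FlatMorDim.fiber_dim_le_iff f y n).1 hn.le z (hz.trans hx)
      have h2 := trdAt_le f (w := x) specializes_rfl rfl
      show fibDim f x + trdAt f x = n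
      have h3 : n ≤ trdAt f x := hxn
      omega, hx⟩
    refine ⟨_, Filter.inter_mem
      (mem_nhds_of_isLocallyConstructible (isLocallyConstructible_image_fibreDimAt_eq f n)
        fun y' hy' => dims_subset_of_specializes f hy' (fun x _ => hop x) n hmem)
      (fiber_dim_eventually_le f y n fun y' hy' => (hgen y' hy').trans hn.le), fun z ⟨hz1, hz2⟩ => ?_⟩
    rw [hn]
    refine le_antisymm hz2 ?_
    obtain ⟨w, hwz, hmax, hd'⟩ := (mem_dims_iff f z _).1 ((mem_dims_iff_image f z n).2 hz1)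
    rw [← hd']
    exact (Chevalley.le_fiber_dim_iff f z _).2 ⟨w, hwz, le_rfl⟩
  · have hbot : topologicalKrullDim ↥(f.fiber y) = ⊥ :=
      le_bot_iff.1 ((FlatMorDim.fiber_dim_le_bot_iff f y).2 hy)
    haveI := LocallyOfFiniteType.isLocallyNoetherian f
    haveI : LocallyOfFinitePresentation f := inferInstance
    have hR : IsLocallyConstructible (Set.range f.base)ᶜ := by
      rw [← Set.image_univ]
      exact isLocallyConstructible_compl (f.isLocallyConstructible_image IsLocallyConstructible.univ)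
    refine ⟨_, mem_nhds_of_isLocallyConstructible hR fun y' hy' hr => ?_, fun z hz => ?_⟩
    · have := (FlatMorDim.fiber_dim_le_bot_iff f y').1 ((hgen y' hy').trans hbot.le)
      exact this hr
    · rw [hbot]
      exact le_bot_iff.1 ((FlatMorDim.fiber_dim_le_bot_iff f z).2 hz)

theorem exists_nhd_dims_eq [QuasiCompact f] (hf : IsOpenMap f.base) (y : Y) :
    letI E : Y → Set (WithBot ℕ∞) := fun z =>
      (fun Z : Set ↥(f.fiber z) => topologicalKrullDim ↥Z) '' irreducibleComponents ↥(f.fiber z)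
    (∀ η : Y, y ∈ closure {η} → closure {η} ∈ irreducibleComponents (Y : Type u) → E y = E η) →
      ∃ V ∈ nhds y, ∀ z ∈ V, E z = E y := by
  intro h
  have hE : ∀ (z : Y) (v : WithBot ℕ∞),
      v ∈ (fun Z : Set ↥(f.fiber z) => topologicalKrullDim ↥Z) '' irreducibleComponents ↥(f.fiber z) →
      ∃ n : ℕ, v = n := fun z v hv => by
    obtain ⟨x, -, -, rfl⟩ := (mem_dims_iff f z v).1 hv
    exact ⟨_, rfl⟩
  have heq : ∀ η : Y, y ∈ closure {η} → closure {η} ∈ irreducibleComponents (Y : Type u) →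
      ∀ n, y ∈ f.base '' {a : X | fibDim f a + trdAt f a = n} ↔
        η ∈ f.base '' {a : X | fibDim f a + trdAt f a = n} := fun η h1 h2 n => by
    rw [← mem_dims_iff_image f, ← mem_dims_iff_image f]
    exact Set.ext_iff.1 (h η h1 h2) _
  have hop : ∀ x : X, EGA43.IsOpenAt f.base x := fun x U hU => hf.image_mem_nhds hU
  have hdim : ∀ η : Y, y ∈ closure {η} → closure {η} ∈ irreducibleComponents (Y : Type u) →
      topologicalKrullDim ↥(f.fiber y) = topologicalKrullDim ↥(f.fiber η) := fun η h1 h2 => by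
    refine le_antisymm (fiber_dim_le_of_maximal f fun x hx hmax => ?_)
      (fiber_dim_le_of_maximal f fun x hx hmax => ?_)
    · obtain ⟨w, hw, -, hd⟩ := (mem_dims_iff f η _).1
        ((Set.ext_iff.1 (h η h1 h2) _).1 ((mem_dims_iff f y (trdAt f x : WithBot ℕ∞)).2 ⟨x, hx, hmax, rfl⟩))
      have hd' : trdAt f w = trdAt f x := by exact_mod_cast hd
      exact ⟨w, hw, hd'.ge⟩
    · obtain ⟨w, hw, -, hd⟩ := (mem_dims_iff f y _).1
        ((Set.ext_iff.1 (h η h1 h2) _).2 ((mem_dims_iff f η (trdAt f x : WithBot ℕ∞)).2 ⟨x, hx, hmax, rfl⟩))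
      have hd' : trdAt f w = trdAt f x := by exact_mod_cast hd
      exact ⟨w, hw, hd'.ge⟩
  obtain ⟨V₀, hV₀, hV₀'⟩ := exists_nhd_fiber_dim_eq f hf y hdim
  by_cases hy : y ∈ Set.range f
  · obtain ⟨x, hx⟩ := hy
    obtain ⟨N, hN⟩ := exists_fiber_dim_eq f y hx
    refine ⟨V₀ ∩ ⋂ n ∈ Finset.range (N + 1), {z : Y |
      z ∈ f.base '' {a : X | fibDim f a + trdAt f a = n} ↔
        y ∈ f.base '' {a : X | fibDim f a + trdAt f a = n}},
      Filter.inter_mem hV₀ ((Filter.biInter_finset_mem _).2 fun n _ => dims_eventually_eq f hf y heq n),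
      fun z hz => ?_⟩
    have hle : ∀ z ∈ V₀, ∀ n : ℕ, (n : WithBot ℕ∞) ∈
        (fun Z : Set ↥(f.fiber z) => topologicalKrullDim ↥Z) '' irreducibleComponents ↥(f.fiber z) →
        n < N + 1 := fun z hz n hn => by
      obtain ⟨w, hw, -, hd⟩ := (mem_dims_iff f z _).1 hn
      have := (FlatMorDim.fiber_dim_le_iff f z N).1 ((hV₀' z hz).trans hN).le w hw
      have hd' : trdAt f w = n := by exact_mod_cast hd
      unfold trdAt at hd'
      omega
    ext v
    constructor
    · intro hv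
      obtain ⟨n, rfl⟩ := hE z v hv
      have hn := Finset.mem_range.2 (hle z hz.1 n hv)
      exact (mem_dims_iff_image f y n).2
        (((Set.mem_iInter₂.1 hz.2) n hn).1 ((mem_dims_iff_image f z n).1 hv))
    · intro hv
      obtain ⟨n, rfl⟩ := hE y v hv
      have hn := Finset.mem_range.2 (hle y (mem_of_mem_nhds hV₀) n hv)
      exact (mem_dims_iff_image f z n).2
        (((Set.mem_iInter₂.1 hz.2) n hn).2 ((mem_dims_iff_image f y n).1 hv))
  · refine ⟨V₀, hV₀, fun z hz => ?_⟩
    have hbot := (hV₀' z hz).le.trans ((FlatMorDim.fiber_dim_le_bot_iff f y).2 hy)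
    have hzr := (FlatMorDim.fiber_dim_le_bot_iff f z).1 hbot
    ext v
    refine ⟨fun hv => ?_, fun hv => ?_⟩
    · obtain ⟨w, hw, -, -⟩ := (mem_dims_iff f z v).1 hv
      exact absurd ⟨w, hw⟩ hzr
    · obtain ⟨w, hw, -, -⟩ := (mem_dims_iff f y v).1 hv
      exact absurd ⟨w, hw⟩ hy

theorem exists_open_nhd_dim_eq [QuasiCompact f] (hf : IsOpenMap f.base) (y : Y) :
    ∃ U : X.Opens, f.base ⁻¹' {y} ⊆ (U : Set X) ∧ ∃ V ∈ nhds y, ∀ z ∈ V,
      topologicalKrullDim ↥((U : Set X) ∩ f.base ⁻¹' {z}) =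
        topologicalKrullDim ↥((U : Set X) ∩ f.base ⁻¹' {y}) := by
  by_cases hy : y ∈ Set.range f
  · obtain ⟨x₀, hx₀⟩ := hy
    obtain ⟨n, hn⟩ := exists_fiber_dim_eq f y hx₀
    let U : X.Opens := ⟨{a | FlatMor.fibreDimAt f a ≤ (n : WithBot ℕ∞)}, FlatMorDim.isOpen_fibreDimAt_le f n⟩
    have hU : f.base ⁻¹' {y} ⊆ (U : Set X) := fun a ha => (FlatMorDim.fibreDimAt_le_iff f a n).2
      fun w hw _ => (FlatMorDim.fiber_dim_le_iff f y n).1 hn.le w (hw.trans ha)
    have hle : ∀ z, topologicalKrullDim ↥((U : Set X) ∩ f.base ⁻¹' {z}) ≤ (n : WithBot ℕ∞) := fun z =>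
      Chevalley.topologicalKrullDim_inter_fibre_le f U.isOpen.isLocallyClosed z n fun a ha _ =>
        FlatMorDim.trdegHom_le_of_fibreDimAt_le f a n ha
    obtain ⟨x, hx, hxn⟩ := (Chevalley.le_fiber_dim_iff f y n).1 hn.ge
    obtain ⟨z₀, -, hz₀, -, hd₀⟩ := exists_fibre_max f x
    have hmem : y ∈ f.base '' {a : X | fibDim f a + trdAt f a = n} := ⟨x, by
      have h1 : trdAt f z₀ ≤ n := (FlatMorDim.fiber_dim_le_iff f y n).1 hn.le z₀ (hz₀.trans hx)
      have h2 := trdAt_le f (w := x) specializes_rfl rfl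
      show fibDim f x + trdAt f x = n
      have h3 : n ≤ trdAt f x := hxn
      omega, hx⟩
    have hge : ∀ z, z ∈ f.base '' {a : X | fibDim f a + trdAt f a = n} →
        (n : WithBot ℕ∞) ≤ topologicalKrullDim ↥((U : Set X) ∩ f.base ⁻¹' {z}) := by
      rintro _ ⟨a, ha, rfl⟩
      obtain ⟨w, hwa, hw, hwmax, hd⟩ := exists_fibre_max f a
      have hwU : w ∈ U := hwa.mem_open U.isOpen (show FlatMor.fibreDimAt f a ≤ (n : WithBot ℕ∞) by
        rw [fibreDimAt_eq f a]
        exact_mod_cast (le_of_eq ha))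
      have h1 := Chevalley.le_topologicalKrullDim_inter_fibre f U.isOpen.isLocallyClosed hwU
      refine le_trans ?_ (h1.trans_eq (congrArg
        (fun b => topologicalKrullDim ↥((U : Set X) ∩ f.base ⁻¹' {b})) hw))
      exact_mod_cast (hd.trans ha).ge
    refine ⟨U, hU, _, mem_nhds_of_isLocallyConstructible (isLocallyConstructible_image_fibreDimAt_eq f n)
      fun y' hy' => dims_subset_of_specializes f hy' (fun x _ U hU => hf.image_mem_nhds hU) n hmem,
      fun z hz => ?_⟩
    rw [le_antisymm (hle z) (hge z hz), le_antisymm (hle y) (hge y hmem)]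
  · refine ⟨⊥, fun a ha => absurd ⟨a, ha⟩ hy, Set.univ, Filter.univ_mem, fun z _ => ?_⟩
    rw [show ((⊥ : X.Opens) : Set X) = ∅ from rfl, Set.empty_inter, Set.empty_inter]

theorem exists_nhd_fiber_dim_eq_of_proper [IsProper f] (y : Y)
    (h : ∀ x : X, f x = y → EGA43.IsOpenAt f.base x) :
    ∃ V ∈ nhds y, ∀ z ∈ V, topologicalKrullDim ↥(f.fiber z) = topologicalKrullDim ↥(f.fiber y) := by
  have hcl : IsClosedMap f.base := f.isClosedMap
  have hspec : ∀ {a b : Y}, a ⤳ b → ∀ n : ℕ, (n : WithBot ℕ∞) ≤ topologicalKrullDim ↥(f.fiber a) →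
      (n : WithBot ℕ∞) ≤ topologicalKrullDim ↥(f.fiber b) := fun hab n hn =>
    hab.mem_closed (Chevalley.isClosed_setOf_le_fiber_dim f hcl n) hn
  by_cases hy : y ∈ Set.range f
  · obtain ⟨x₀, hx₀⟩ := hy
    obtain ⟨n, hn⟩ := exists_fiber_dim_eq f y hx₀
    have hup : {z : Y | ((n + 1 : ℕ) : WithBot ℕ∞) ≤ topologicalKrullDim ↥(f.fiber z)}ᶜ ∈ nhds y := by
      refine (Chevalley.isClosed_setOf_le_fiber_dim f hcl (n + 1)).isOpen_compl.mem_nhds fun hle => ?_
      rw [Set.mem_ofPred_eq, hn] at hle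
      exact absurd hle (by norm_cast; omega)
    obtain ⟨W, hyW, hW⟩ := exists_nhd_maximalPt_specializes y
    refine ⟨_, Filter.inter_mem hup (W.isOpen.mem_nhds hyW), fun z ⟨hz1, hz2⟩ => ?_⟩
    rw [hn]
    refine le_antisymm ?_ ?_
    · refine (FlatMorDim.fiber_dim_le_iff f z n).2 fun w hw => ?_
      by_contra hlt
      exact hz1 ((Chevalley.le_fiber_dim_iff f z (n + 1)).2 ⟨w, hw, by omega⟩)
    · obtain ⟨η, hηz, V, hV, hgen⟩ := exists_isMaximalPt_specializes z
      have hη := isMaximalPt_of_isGenericPoint hV hgen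
      have hηy : η ⤳ y := hW η (hηz.mem_open W.isOpen hz2) hη
      refine hspec hηz n ?_
      obtain ⟨x, hx, hxn⟩ := (Chevalley.le_fiber_dim_iff f y n).1 hn.ge
      obtain ⟨z', hz'x, hz', hz'max, hd⟩ := exists_fibre_max f x
      obtain ⟨w, -, hw, -, hdw⟩ := exists_maximal_lift f hz'max (h z' (hz'.trans hx))
        (y' := η) (hηy.trans (specializes_of_eq (hz'.trans hx).symm))
      have h2 := trdAt_le f (w := x) specializes_rfl rfl
      exact (Chevalley.le_fiber_dim_iff f η n).2 ⟨w, hw, show n ≤ trdAt f w by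
        have h3 : n ≤ trdAt f x := hxn
        omega⟩
  · refine ⟨(Set.range f)ᶜ, (hcl.isClosed_range.isOpen_compl).mem_nhds hy, fun z hz => ?_⟩
    rw [le_bot_iff.1 ((FlatMorDim.fiber_dim_le_bot_iff f y).2 hy),
      le_bot_iff.1 ((FlatMorDim.fiber_dim_le_bot_iff f z).2 hz)]

/-- Without Noetherian hypotheses: a component through `x` of large generic fibre dimension. -/
theorem exists_generization_of_forall_nhd' {X Y : Scheme.{u}} (f : X ⟶ Y) [LocallyOfFiniteType f] (x : X)
    {η : Y} (m : ℕ) (h : ∀ U : X.Opens, x ∈ U → ∃ z ∈ U, f z = η ∧ m ≤ trdAt f z) :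
    ∃ z, z ⤳ x ∧ f z = η ∧ m ≤ trdAt f z := by
  let C : Set X := {a : X | ∃ z, z ⤳ a ∧ f z = f a ∧ m ≤ DimLib.trdegHom (f.residueFieldMap z).hom}
  have hC : ProCons.IsProConstructible C := by
    rw [H8ProCons.isProConstructible_iff_compl]
    exact H8ProCons.isIndConstructible_of_isOpen (Chevalley.isClosed_setOf_exists_le f m).isOpen_compl
  have hF : ProCons.IsProConstructible (f.base ⁻¹' {η}) :=
    H8ProCons.isProConstructible_preimage f (H8ProCons.isProConstructible_singleton η)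
  have hE : ProCons.IsProConstructible (C ∩ f.base ⁻¹' {η}) := by
    refine H8ProCons.isProConstructible_of_forall_isClosed_cons fun a => ?_
    obtain ⟨_, ⟨W, hW, rfl⟩, haW, -⟩ :=
      X.isBasis_affineOpens.exists_subset_of_mem_open (Set.mem_univ a) isOpen_univ
    refine ⟨W, hW, haW, ?_⟩
    rw [Set.preimage_inter]
    exact @IsClosed.inter _ _ _ (constructibleTopology _) (H8ProCons.isClosed_cons_of_isProConstructible hC hW)
      (H8ProCons.isClosed_cons_of_isProConstructible hF hW)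
  obtain ⟨e, ⟨⟨z, hze, hz, hm⟩, heη⟩, hex⟩ := SubtrLib.exists_specializes_of_mem_closure_proCons hE
    (x := x) (mem_closure_iff.2 fun O hO hxO => by
      obtain ⟨z, hzO, hz, hm⟩ := h ⟨O, hO⟩ hxO
      exact ⟨z, hzO, ⟨z, specializes_rfl, rfl, hm⟩, hz⟩)
  exact ⟨z, hze.trans hex, hz.trans heη, hm⟩

theorem univOpen_chain {X Y : Scheme.{u}} (f : X ⟶ Y) [LocallyOfFiniteType f]
    (x : X) (hmax : ∀ x' : X, f.base x' = f.base x → x ∈ closure {x'} → x' = x) :
    (EGA43.IsUnivOpenAt f x → (∀ U : X.Opens, x ∈ U → ∀ y' : Y, y' ⤳ f.base x →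
        FlatMor.fibreDimAt f x ≤ topologicalKrullDim ↥((U : Set X) ∩ f.base ⁻¹' {y'}))) ∧
    ((∀ U : X.Opens, x ∈ U → ∀ y' : Y, y' ⤳ f.base x →
        FlatMor.fibreDimAt f x ≤ topologicalKrullDim ↥((U : Set X) ∩ f.base ⁻¹' {y'})) →
      (∀ Y₀ ∈ irreducibleComponents (Y : Type u), f.base x ∈ Y₀ →
        ∃ Z ∈ irreducibleComponents (X : Type u), ∃ hx : x ∈ Z, closure (f.base '' Z) = Y₀ ∧
          ∀ η : Y, closure ({η} : Set Y) = Y₀ →
            FlatMor.fibreDimAt f x = FlatMor.localDim ↥(Z ∩ f.base ⁻¹' {f.base x}) ⟨x, ⟨hx, rfl⟩⟩ ∧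
            FlatMor.localDim ↥(Z ∩ f.base ⁻¹' {f.base x}) ⟨x, ⟨hx, rfl⟩⟩ =
              topologicalKrullDim ↥(Z ∩ f.base ⁻¹' {η}))) := by
  have hm : ∀ w, w ⤳ x → f w = f x → w = x := fun w hw he => hmax w he (specializes_iff_mem_closure.1 hw)
  have hD := Chevalley.fibreDimAt_eq_of_maximal f x hm
  constructor
  · intro hu U hxU y' hy'
    obtain ⟨w, hw, rfl, hd⟩ := exists_generization_of_isUnivOpenAt f hm hu hy'
    rw [hD]
    exact le_trans (by exact_mod_cast hd)
      (Chevalley.le_topologicalKrullDim_inter_fibre f U.isOpen.isLocallyClosed (hw.mem_open U.isOpen hxU))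
  · intro h Y₀ hY₀ hxY₀
    obtain ⟨η, hgen, hηmax⟩ := Chevalley.exists_isGenericPoint hY₀
    have hηx : η ⤳ f x := hgen.specializes hxY₀
    obtain ⟨z, hzx, hzη, hd⟩ := exists_generization_of_forall_nhd' f x (η := η) (trdAt f x) fun U hxU => by
      have h1 := h U hxU η hηx
      rw [hD, Chevalley.topologicalKrullDim_inter_fibre f U.isOpen.isLocallyClosed] at h1
      by_contra hno
      push Not at hno
      rcases hd : trdAt f x with _ | k
      · rw [show DimLib.trdegHom (f.residueFieldMap x).hom = 0 from hd] at h1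
        haveI : IsEmpty ↥((U : Set X) ∩ f.base ⁻¹' {η}) :=
          ⟨fun a => absurd (hno a.1 a.2.1 a.2.2) (by rw [hd]; exact Nat.not_lt_zero _)⟩
        rw [iSup_of_empty] at h1
        simp at h1
      · rw [show DimLib.trdegHom (f.residueFieldMap x).hom = k + 1 from hd] at h1
        have h2 : ((k + 1 : ℕ) : WithBot ℕ∞) ≤ (k : WithBot ℕ∞) := h1.trans (iSup_le fun a => by
          have h3 : trdAt f a.1 < k + 1 := hd ▸ hno a.1 a.2.1 a.2.2
          exact_mod_cast (Nat.lt_succ_iff.1 h3))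
        have h4 : k + 1 ≤ k := by exact_mod_cast h2
        omega
    obtain ⟨ξ, hξ, Z, hZ, hgenZ⟩ := exists_isMaximalPt_specializes z
    have hξη : f ξ = η := hηmax _ ((hξ.map f.continuous).trans (specializes_of_eq hzη))
    have hxZ : x ∈ Z := hgenZ.specializes_iff_mem.1 (hξ.trans hzx)
    have hcl : closure (f.base '' Z) = closure {η} := hξη ▸ (hgenZ.image f.continuous).def.symm
    have hdim : FlatMor.localDim ↥(Z ∩ f.base ⁻¹' {f.base x}) ⟨x, ⟨hxZ, rfl⟩⟩ =
        topologicalKrullDim ↥(Z ∩ f.base ⁻¹' {η}) := by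
      rw [Chevalley.localDim_inter_fibre_eq f (isClosed_of_mem_irreducibleComponents Z hZ).isLocallyClosed
        _ _ (fun w h1 h2 => hm w h1 h2)]
      have e := hgenZ.def
      subst e
      rw [← hξη, Chevalley.topologicalKrullDim_closure_inter_fibre f ξ]
      have h1 := Chevalley.trdegHom_le_of_specializes f hξ (hξη.trans hzη.symm)
      have h2 := Chevalley.trdegHom_le_fibreDimAt f (hξ.trans hzx) _ hD.le
      exact congrArg (fun n : ℕ => (n : WithBot ℕ∞)) (le_antisymm (hd.trans h1) h2)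
    refine ⟨Z, hZ, hxZ, hcl.trans hgen.def, fun η' hη' => ?_⟩
    obtain rfl : η' = η := IsGenericPoint.eq hη' hgen
    refine ⟨?_, hdim⟩
    rw [hD, Chevalley.localDim_inter_fibre_eq f (isClosed_of_mem_irreducibleComponents Z hZ).isLocallyClosed
      _ _ fun w h1 h2 => hm w h1 h2]

end Groth.Agent.EGA43.DimFormula
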