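import Groth.Agent.EGA43.DimFormula.Sub
import Groth.Agent.CommAlg6.CatenaryHeight
import Groth.Agent.DimLib.Points
import Mathlib.Topology.JacobsonSpace

/-!
# Codimensions as dimensions of intervals of generisations; additivity
-/

set_option autoImplicit false
set_option backward.isDefEq.respectTransparency false
set_option linter.style.haveILetI false

universe u

open CategoryTheory CategoryTheory.Limits AlgebraicGeometry TopologicalSpace IsLocalRing

namespace Groth.Agent.EGA43.DimFormula

open Groth.Agent FlatMorWeight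

variable {X : Scheme.{u}}

/-- The dimension of an interval of generisations, computed through an embedding of a spectrum. -/
theorem topologicalKrullDim_of_range {R : Type u} [CommRing R] (j : PrimeSpectrum R → X)
    (hj : Topology.IsEmbedding j) (s : Set X) (hs : Set.range j = s) :
    topologicalKrullDim ↥s = ringKrullDim R := by
  subst hs
  rw [← PrimeSpectrum.topologicalKrullDim_eq_ringKrullDim]
  exact (IsHomeomorph.topologicalKrullDim_eq _ hj.toHomeomorph.isHomeomorph).symm

theorem range_quotient_toPt (c : X) (P : PrimeSpectrum (X.presheaf.stalk c)) :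
    Set.range (fun T : PrimeSpectrum (X.presheaf.stalk c ⧸ P.asIdeal) =>
      toPt c (PrimeSpectrum.comap (Ideal.Quotient.mk P.asIdeal) T)) =
      {t | toPt c P ⤳ t ∧ t ⤳ c} := by
  ext t
  constructor
  · rintro ⟨T, rfl⟩
    refine ⟨(toPt_specializes_iff c P _).2 ?_, toPt_specializes c _⟩
    intro a ha
    show Ideal.Quotient.mk P.asIdeal a ∈ T.asIdeal
    rw [Ideal.Quotient.eq_zero_iff_mem.2 ha]
    exact zero_mem _
  · rintro ⟨h1, h2⟩
    obtain ⟨Q, rfl⟩ := exists_toPt h2
    have hPQ := (toPt_specializes_iff c P Q).1 h1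
    obtain ⟨T, hT⟩ : Q ∈ Set.range (PrimeSpectrum.comap (Ideal.Quotient.mk P.asIdeal)) := by
      rw [range_comap_of_surjective _ _ Ideal.Quotient.mk_surjective, Ideal.mk_ker]; exact hPQ
    exact ⟨T, congrArg (toPt c) hT⟩

theorem isEmbedding_quotient_toPt (c : X) (P : PrimeSpectrum (X.presheaf.stalk c)) :
    Topology.IsEmbedding (fun T : PrimeSpectrum (X.presheaf.stalk c ⧸ P.asIdeal) =>
      toPt c (PrimeSpectrum.comap (Ideal.Quotient.mk P.asIdeal) T)) :=
  (X.fromSpecStalk c).isEmbedding.comp
    (PrimeSpectrum.isClosedEmbedding_comap_of_surjective _ _ Ideal.Quotient.mk_surjective).isEmbedding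

theorem interval_eq_cod [IsLocallyNoetherian X] {ξ x : X} (h : ξ ⤳ x) :
    topologicalKrullDim ↥{t : X | ξ ⤳ t ∧ t ⤳ x} = (cod ξ x : WithBot ℕ∞) := by
  obtain ⟨P, rfl⟩ := exists_toPt h
  haveI := isLocalRing_quotient P.asIdeal P.isPrime.ne_top
  rw [topologicalKrullDim_of_range _ (isEmbedding_quotient_toPt x P) _ (range_quotient_toPt x P),
    cod_toPt, ringKrullDim_eq_natDim]

theorem cod_eq_hq [IsLocallyNoetherian X] (c : X) {P Q : PrimeSpectrum (X.presheaf.stalk c)}
    (h : P ≤ Q) : (cod (toPt c P) (toPt c Q) : ℕ∞) = LocCoh.hq P.asIdeal Q.asIdeal := by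
  let R := X.presheaf.stalk c ⧸ P.asIdeal
  let Qb : Ideal R := Q.asIdeal.map (Ideal.Quotient.mk P.asIdeal)
  haveI : Qb.IsPrime := LocCoh.isPrime_map_mk h
  let L := Localization.AtPrime Qb
  let j : PrimeSpectrum L → X := fun T =>
    toPt c (PrimeSpectrum.comap (Ideal.Quotient.mk P.asIdeal) (PrimeSpectrum.comap (algebraMap R L) T))
  have hj : Topology.IsEmbedding j :=
    (isEmbedding_quotient_toPt c P).comp (PrimeSpectrum.localization_comap_isEmbedding L Qb.primeCompl)
  have hr : Set.range j = {t | toPt c P ⤳ t ∧ t ⤳ toPt c Q} := by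
    ext t
    constructor
    · rintro ⟨T, rfl⟩
      refine ⟨((range_quotient_toPt c P).le ⟨_, rfl⟩).1, (toPt_specializes_iff c _ Q).2 ?_⟩
      intro a ha
      have hle : (PrimeSpectrum.comap (algebraMap R L) T).asIdeal ≤ Qb :=
        ((IsLocalization.AtPrime.orderIsoOfPrime L Qb) ⟨T.asIdeal, T.isPrime⟩).2.2
      rw [← LocCoh.comap_map_mk h]
      exact hle ha
    · rintro ⟨h1, h2⟩
      obtain ⟨S, rfl⟩ := exists_toPt (h2.trans (toPt_specializes c Q))
      obtain ⟨T₁, hT₁⟩ := (range_quotient_toPt c P).ge ⟨h1, toPt_specializes c S⟩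
      have hS : PrimeSpectrum.comap (Ideal.Quotient.mk P.asIdeal) T₁ = S := toPt_injective c hT₁
      have hle : T₁.asIdeal ≤ Qb := by
        intro a ha
        obtain ⟨a, rfl⟩ := Ideal.Quotient.mk_surjective a
        exact Ideal.mem_map_of_mem _ ((toPt_specializes_iff c S Q).1 h2 (hS ▸ ha))
      obtain ⟨T, hT⟩ : T₁ ∈ Set.range (PrimeSpectrum.comap (algebraMap R L)) := by
        rw [PrimeSpectrum.localization_comap_range L Qb.primeCompl]
        exact Set.disjoint_left.2 fun a ha hb => ha (hle hb)
      exact ⟨T, by simp only [j]; rw [hT, hS]⟩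
  have h1 := interval_eq_cod ((toPt_specializes_iff c P Q).2 h)
  rw [topologicalKrullDim_of_range j hj _ hr, IsLocalization.AtPrime.ringKrullDim_eq_height Qb L] at h1
  exact WithBot.coe_injective (h1.symm.trans rfl)

/-- Additivity of codimensions in universally catenary local rings. -/
theorem cod_add [IsLocallyNoetherian X] {a b c : X} (hab : a ⤳ b) (hbc : b ⤳ c)
    (hcat : CAlg.IsUniversallyCatenary (X.presheaf.stalk c)) : cod a b + cod b c = cod a c := by
  obtain ⟨Q, rfl⟩ := exists_toPt hbc
  obtain ⟨P, rfl⟩ := exists_toPt (hab.trans hbc)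
  have hPQ := (toPt_specializes_iff c P Q).1 hab
  have hc : CAlg.IsCatenary (X.presheaf.stalk c) :=
    hcat.2 (X.presheaf.stalk c) inferInstance
  have h1 := CommAlg6.hq_add_eq hc (p := P.asIdeal) (s := Q.asIdeal)
    (q := maximalIdeal (X.presheaf.stalk c)) hPQ (IsLocalRing.le_maximalIdeal Q.isPrime.ne_top)
  rw [← cod_eq_hq c hPQ] at h1
  have h2 := cod_eq_hq c (P := Q) (Q := closedPoint _) (IsLocalRing.le_maximalIdeal Q.isPrime.ne_top)
  have h3 := cod_eq_hq c (P := P) (Q := closedPoint _) (IsLocalRing.le_maximalIdeal P.isPrime.ne_top)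
  rw [toPt_closedPoint] at h2 h3
  rw [show maximalIdeal (X.presheaf.stalk c) = (closedPoint (X.presheaf.stalk c)).asIdeal from rfl,
    ← h2, ← h3] at h1
  exact_mod_cast h1

/-- The dimension of a Jacobson scheme is the supremum of the dimensions at its closed points. -/
theorem topologicalKrullDim_eq_iSup_closed [JacobsonSpace X] :
    topologicalKrullDim X = ⨆ c : {c : X // IsClosed ({c} : Set X)},
      ringKrullDim (X.presheaf.stalk c.1) := by
  refine le_antisymm ?_ (iSup_le fun c => ?_)
  · rw [DimLib.topologicalKrullDim_eq_krullDim]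
    refine iSup_le fun l => ?_
    obtain ⟨c, hc, hcc⟩ := nonempty_inter_closedPoints
      (Z := closure ({l.head} : Set X)) ⟨_, subset_closure rfl⟩ isClosed_closure.isLocallyClosed
    refine le_trans ?_ (le_iSup (fun c : {c : X // IsClosed ({c} : Set X)} =>
      ringKrullDim (X.presheaf.stalk c.1)) ⟨c, hcc⟩)
    have hhc : l.head ⤳ c := specializes_iff_mem_closure.2 hc
    have hmem : ∀ i, l i ⤳ c := fun i => (show l i ⤳ l.head from LTSeries.head_le l i).trans hhc
    choose P hP using fun i => exists_toPt (hmem i)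
    have hmono : ∀ i j, i < j → P j < P i := fun i j hij => by
      have h1 : l j ⤳ l i := (l.strictMono hij).le
      rw [← hP i, ← hP j, toPt_specializes_iff] at h1
      refine lt_of_le_of_ne h1 fun e => (l.strictMono hij).ne ?_
      rw [← hP i, ← hP j, e]
    let l' : LTSeries (PrimeSpectrum (X.presheaf.stalk c)) :=
      LTSeries.mk l.length (fun i => P i.rev) (fun i j hij => hmono _ _ (Fin.rev_lt_rev.2 hij))
    exact Order.LTSeries.length_le_krullDim l'
  · rw [← PrimeSpectrum.topologicalKrullDim_eq_ringKrullDim]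
    exact (X.fromSpecStalk c.1).isEmbedding.isInducing.topologicalKrullDim_le

end Groth.Agent.EGA43.DimFormula
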