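import Groth.Agent.EGA43.DimFormula.Core
import Groth.Agent.CAlgH3.DimIneq
import Groth.Agent.H8ProCons.Image

/-!
# Openness at the generic points of a fibre gives the dimension formula (EGA IV 14.2.1)
-/

set_option autoImplicit false
set_option backward.isDefEq.respectTransparency false
set_option linter.style.haveILetI false

universe u

open CategoryTheory CategoryTheory.Limits AlgebraicGeometry TopologicalSpace IsLocalRing

namespace Groth.Agent.EGA43.DimFormula

open Groth.Agent FlatMorWeight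

/-- If the primes of `A` lift below a minimal prime `z` of `mB`, then `dim A ≤ ht z`. -/
theorem le_height_of_lift : ∀ (n : ℕ) (A B : Type u) [CommRing A] [CommRing B] [IsNoetherianRing A]
    [IsNoetherianRing B] [IsLocalRing A] [Algebra A B] (z : PrimeSpectrum B),
    z.asIdeal ∈ ((maximalIdeal A).map (algebraMap A B)).minimalPrimes →
    (∀ p : PrimeSpectrum A, ∃ Q : PrimeSpectrum B, Q ≤ z ∧ PrimeSpectrum.comap (algebraMap A B) Q = p) →
    (n : WithBot ℕ∞) ≤ ringKrullDim A → (n : ℕ∞) ≤ z.asIdeal.height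
  | 0, _, _, _, _, _, _, _, _, _, _, _, _ => by simp
  | n + 1, A, B, _, _, _, _, _, _, z, hz, hlift, hdim => by
    classical
    let T : Finset (Ideal B) :=
      (minimalPrimes.finite_of_isNoetherianRing B).toFinset.filter fun Q => Q ≤ z.asIdeal
    have hmT : ∀ Q, Q ∈ T ↔ Q ∈ minimalPrimes B ∧ Q ≤ z.asIdeal := fun Q => by
      simp only [T, Finset.mem_filter, Set.Finite.mem_toFinset]
    have hne : ∀ Q ∈ T, ¬ maximalIdeal A ≤ Q.comap (algebraMap A B) := by
      intro Q hQ hle
      obtain ⟨hQmin, hQz⟩ := (hmT Q).1 hQ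
      have hQ' : Q = z.asIdeal :=
        le_antisymm hQz (hz.2 ⟨hQmin.isPrime, Ideal.map_le_iff_le_comap.2 hle⟩ hQz)
      have hall : ∀ p : PrimeSpectrum A, p = PrimeSpectrum.comap (algebraMap A B) z := by
        intro p
        obtain ⟨Q', hQ'z, rfl⟩ := hlift p
        refine congrArg _ (PrimeSpectrum.ext (le_antisymm hQ'z ?_))
        exact hQ' ▸ hQmin.2 ⟨Q'.isPrime, bot_le⟩ (hQ'.symm ▸ hQ'z)
      have : Subsingleton (PrimeSpectrum A) := ⟨fun a b => (hall a).trans (hall b).symm⟩
      have h0 : ringKrullDim A ≤ 0 := Order.krullDim_nonpos_of_subsingleton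
      exact absurd (hdim.trans h0) (by
        rw [← Nat.cast_zero, Nat.cast_le]; omega)
    obtain ⟨a, ha, haT⟩ : ∃ a ∈ maximalIdeal A, ∀ Q ∈ T, algebraMap A B a ∉ Q := by
      by_contra hno
      push Not at hno
      have hsub : (maximalIdeal A : Set A) ⊆
          ⋃ Q ∈ (↑T : Set (Ideal B)), ((Q.comap (algebraMap A B) : Ideal A) : Set A) := fun a ha => by
        obtain ⟨Q, hQ, haQ⟩ := hno a ha
        exact Set.mem_iUnion₂.2 ⟨Q, hQ, haQ⟩
      obtain ⟨Q, hQ, hle⟩ := (Ideal.subset_union_prime (s := T) (f := fun Q => Q.comap (algebraMap A B)) ⊥ ⊥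
        (fun Q hQ _ _ => by
          haveI := ((hmT Q).1 hQ).1.isPrime
          exact Ideal.comap_isPrime _ Q)).1 hsub
      exact hne Q hQ hle
    let I : Ideal A := Ideal.span {a}
    let J : Ideal B := I.map (algebraMap A B)
    have hI : I ≤ maximalIdeal A := (Ideal.span_singleton_le_iff_mem _).2 ha
    have hJz : J ≤ z.asIdeal := (Ideal.map_mono hI).trans hz.1.2
    haveI := isLocalRing_quotient I (ne_top_of_le_ne_top (maximalIdeal.isMaximal A).ne_top hI)
    let _ : Algebra (A ⧸ I) (B ⧸ J) := (Ideal.quotientMap J (algebraMap A B) Ideal.le_comap_map).toAlgebra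
    let z' : PrimeSpectrum (B ⧸ J) := ⟨z.asIdeal.map (Ideal.Quotient.mk J),
      Ideal.map_isPrime_of_surjective Ideal.Quotient.mk_surjective (by rw [Ideal.mk_ker]; exact hJz)⟩
    have hz'c : z'.asIdeal.comap (Ideal.Quotient.mk J) = z.asIdeal := by
      rw [Ideal.comap_map_of_surjective _ Ideal.Quotient.mk_surjective, ← RingHom.ker_eq_comap_bot,
        Ideal.mk_ker, sup_eq_left.2 hJz]
    have hmap : (maximalIdeal (A ⧸ I)).map (algebraMap (A ⧸ I) (B ⧸ J)) =
        ((maximalIdeal A).map (algebraMap A B)).map (Ideal.Quotient.mk J) := by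
      rw [← IsLocalRing.map_maximalIdeal_of_surjective (Ideal.Quotient.mk I) Ideal.Quotient.mk_surjective,
        Ideal.map_map, Ideal.map_map]
      rfl
    have hz' : z'.asIdeal ∈ ((maximalIdeal (A ⧸ I)).map (algebraMap (A ⧸ I) (B ⧸ J))).minimalPrimes := by
      rw [hmap]
      refine ⟨⟨z'.isPrime, Ideal.map_mono hz.1.2⟩, fun Q hQ hle => ?_⟩
      haveI := hQ.1
      have h1 := hz.2 ⟨Ideal.comap_isPrime (Ideal.Quotient.mk J) Q,
        Ideal.map_le_iff_le_comap.1 hQ.2⟩ ((Ideal.comap_mono hle).trans hz'c.le)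
      calc z'.asIdeal ≤ (Q.comap (Ideal.Quotient.mk J)).map (Ideal.Quotient.mk J) := Ideal.map_mono h1
        _ = Q := Ideal.map_comap_of_surjective _ Ideal.Quotient.mk_surjective Q
    have hlift' : ∀ p : PrimeSpectrum (A ⧸ I), ∃ Q : PrimeSpectrum (B ⧸ J), Q ≤ z' ∧
        PrimeSpectrum.comap (algebraMap (A ⧸ I) (B ⧸ J)) Q = p := by
      intro p
      obtain ⟨Q, hQz, hQp⟩ := hlift (PrimeSpectrum.comap (Ideal.Quotient.mk I) p)
      have hJQ : J ≤ Q.asIdeal := Ideal.map_le_iff_le_comap.2 (by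
        rw [show Q.asIdeal.comap (algebraMap A B) = _ from congrArg PrimeSpectrum.asIdeal hQp]
        exact Ideal.mk_ker.ge.trans (Ideal.ker_le_comap _))
      obtain ⟨Q', rfl⟩ : Q ∈ Set.range (PrimeSpectrum.comap (Ideal.Quotient.mk J)) := by
        rw [range_comap_of_surjective _ _ Ideal.Quotient.mk_surjective, Ideal.mk_ker]; exact hJQ
      refine ⟨Q', ?_, PrimeSpectrum.comap_injective_of_surjective _ Ideal.Quotient.mk_surjective ?_⟩
      · show Q'.asIdeal ≤ z'.asIdeal
        calc Q'.asIdeal = (Q'.asIdeal.comap (Ideal.Quotient.mk J)).map (Ideal.Quotient.mk J) :=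
              (Ideal.map_comap_of_surjective _ Ideal.Quotient.mk_surjective _).symm
          _ ≤ _ := Ideal.map_mono hQz
      · rw [← hQp]
        refine PrimeSpectrum.ext ?_
        simp only [PrimeSpectrum.comap_asIdeal, Ideal.comap_comap]
        rfl
    have hdim' : (n : WithBot ℕ∞) ≤ ringKrullDim (A ⧸ I) := by
      have h := ringKrullDim_le_ringKrullDim_quotient_add_card {a} (by
        rw [Finset.coe_singleton, Set.singleton_subset_iff, IsLocalRing.ringJacobson_eq_maximalIdeal]
        exact ha)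
      rw [Finset.coe_singleton, Finset.card_singleton, ringKrullDim_eq_natDim (A ⧸ I)] at h
      rw [ringKrullDim_eq_natDim (A ⧸ I)]
      have h2 := hdim.trans h
      have h3 : n + 1 ≤ natDim (A ⧸ I) + 1 := by exact_mod_cast h2
      exact_mod_cast (Nat.le_of_succ_le_succ h3)
    have hn := le_height_of_lift n _ _ z' hz' hlift' hdim'
    rw [PrimeSpectrum.height_eq_orderHeight z'] at hn
    obtain ⟨l, hl, hln⟩ := Order.exists_series_of_le_height _ hn
    let l' := l.map (PrimeSpectrum.comap (Ideal.Quotient.mk J))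
      (Monotone.strictMono_of_injective (fun a b h => Ideal.comap_mono h)
        (PrimeSpectrum.comap_injective_of_surjective _ Ideal.Quotient.mk_surjective))
    have hlast : l'.last = z := by
      rw [LTSeries.last_map, hl]
      exact PrimeSpectrum.ext hz'c
    obtain ⟨Q, hQmin, hQle⟩ := Ideal.exists_minimalPrimes_le (I := (⊥ : Ideal B)) (J := l'.head.asIdeal) bot_le
    have hlt : (⟨Q, hQmin.isPrime⟩ : PrimeSpectrum B) < l'.head := by
      refine lt_of_le_of_ne hQle fun h => ?_
      have hQz : Q ≤ z.asIdeal := hQle.trans ((LTSeries.head_le_last l').trans hlast.le)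
      refine haT Q ((hmT Q).2 ⟨hQmin, hQz⟩) ?_
      rw [show Q = l'.head.asIdeal from congrArg PrimeSpectrum.asIdeal h, LTSeries.head_map]
      show Ideal.Quotient.mk J (algebraMap A B a) ∈ l.head.asIdeal
      rw [Ideal.Quotient.eq_zero_iff_mem.2 (Ideal.mem_map_of_mem _ (Ideal.mem_span_singleton_self a))]
      exact zero_mem _
    rw [PrimeSpectrum.height_eq_orderHeight z]
    refine le_trans (le_of_eq ?_) (Order.length_le_height (p := l'.cons _ hlt) (x := z) ?_)
    · simp [l', hln]
    · rw [RelSeries.last_cons, hlast]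

theorem dimAt_eq_of_isOpenAt {X Y : Scheme.{u}} [IsLocallyNoetherian X] [IsLocallyNoetherian Y]
    (f : X ⟶ Y) (x : X)
    (h : ∀ z : X, z ⤳ x → f z = f x → (∀ w, w ⤳ z → f w = f x → w = z) → EGA43.IsOpenAt f.base z) :
    ringKrullDim (X.presheaf.stalk x) = ringKrullDim (Y.presheaf.stalk (f x)) +
      ringKrullDim ((f.fiber (f x)).presheaf.stalk (f.asFiber x)) := by
  let A := Y.presheaf.stalk (f x)
  let B := X.presheaf.stalk x
  let _ := stalkAlgebra f x
  haveI : IsLocalHom (algebraMap A B) := inferInstanceAs (IsLocalHom (f.stalkMap x).hom)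
  obtain ⟨e⟩ := FlatMor12.fibreStalk_equiv f x
  refine le_antisymm ?_ ?_
  · rw [ringKrullDim_eq_of_ringEquiv e]
    exact EGA41Lib.ringKrullDim_le_add_fibre A B
  rw [ringKrullDim_eq_of_ringEquiv e]
  let I : Ideal B := (maximalIdeal A).map (algebraMap A B)
  haveI := isLocalRing_quotient I (ne_top_of_le_ne_top (maximalIdeal.isMaximal _).ne_top
    (((IsLocalRing.local_hom_TFAE (algebraMap A B)).out 0 2 :).mp inferInstance))
  obtain ⟨Q, hQ, hdim⟩ := exists_minimalPrime_dim (B ⧸ I)
  haveI := hQ.isPrime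
  let z : PrimeSpectrum B := ⟨Q.comap (Ideal.Quotient.mk I), inferInstance⟩
  have hIz : I ≤ z.asIdeal := Ideal.mk_ker.ge.trans (Ideal.ker_le_comap _)
  have hzmin : z.asIdeal ∈ I.minimalPrimes := by
    refine ⟨⟨z.isPrime, hIz⟩, fun J hJ hle => ?_⟩
    haveI := hJ.1
    haveI : (J.map (Ideal.Quotient.mk I)).IsPrime :=
      Ideal.map_isPrime_of_surjective Ideal.Quotient.mk_surjective (by rw [Ideal.mk_ker]; exact hJ.2)
    have hJQ : J.map (Ideal.Quotient.mk I) ≤ Q := Ideal.map_le_iff_le_comap.2 hle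
    refine (Ideal.comap_mono (hQ.2 ⟨inferInstance, bot_le⟩ hJQ)).trans ?_
    rw [Ideal.comap_map_of_surjective _ Ideal.Quotient.mk_surjective, ← RingHom.ker_eq_comap_bot,
      Ideal.mk_ker, sup_eq_left.2 hJ.2]
  have hze : f (toPt x z) = f x := (mem_fibre_iff_le f x z).1 hIz
  have hopen := h (toPt x z) (toPt_specializes x z) hze fun w hw hwe => by
    obtain ⟨W, rfl⟩ := exists_toPt (hw.trans (toPt_specializes x z))
    have hle := (toPt_specializes_iff x W z).1 hw
    exact congrArg (toPt x) (PrimeSpectrum.ext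
      (le_antisymm hle (hzmin.2 ⟨W.isPrime, (mem_fibre_iff_le f x W).2 hwe⟩ hle)))
  have hlift : ∀ p : PrimeSpectrum A, ∃ R : PrimeSpectrum B, R ≤ z ∧
      PrimeSpectrum.comap (algebraMap A B) R = p := by
    intro p
    obtain ⟨w, hw, hwp⟩ := H8ProCons.exists_generization_of_isOpenAt f hopen
      (y' := toPt (f x) p) ((toPt_specializes (f x) p).trans (specializes_of_eq hze.symm))
    obtain ⟨R, rfl⟩ := exists_toPt (hw.trans (toPt_specializes x z))
    refine ⟨R, (toPt_specializes_iff x R z).1 hw, toPt_injective (f x) ?_⟩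
    rw [← hwp, apply_toPt f]
    rfl
  have hA := le_height_of_lift (natDim A) A B z hzmin hlift (ringKrullDim_eq_natDim A).ge
  have hB := CAlgH3.height_add_ringKrullDim_quotient_le z.asIdeal
  have he : ringKrullDim (B ⧸ z.asIdeal) = ringKrullDim (B ⧸ I) := by
    rw [← hdim]
    exact ringKrullDim_eq_of_ringEquiv (RingEquiv.ofBijective
      (Ideal.quotientMap Q (Ideal.Quotient.mk I) le_rfl)
      ⟨Ideal.quotientMap_injective, Ideal.quotientMap_surjective Ideal.Quotient.mk_surjective⟩)
  rw [he] at hB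
  refine le_trans (add_le_add ?_ le_rfl) hB
  rw [ringKrullDim_eq_natDim]
  exact_mod_cast hA

end Groth.Agent.EGA43.DimFormula
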