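import Groth.Agent.EGA43.DimFormula.Main
import Groth.Agent.EGA43.DimFormula.Open
import Groth.Agent.EGA43.Chevalley.Crit
import Groth.Agent.Props12.KerReduced
import Mathlib.AlgebraicGeometry.Fiber

/-!
# Closed immersions and the invariants of the dimension formula
-/

set_option autoImplicit false
set_option backward.isDefEq.respectTransparency false
set_option linter.style.haveILetI false

universe u

open CategoryTheory CategoryTheory.Limits AlgebraicGeometry TopologicalSpace IsLocalRing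

namespace Groth.Agent.EGA43.DimFormula

open Groth.Agent FlatMorWeight

theorem natDim_eq_of_ringEquiv {R S : Type u} [CommRing R] [CommRing S] (e : R ≃+* S) : natDim R = natDim S := by
  rw [natDim, natDim, ringKrullDim_eq_of_ringEquiv e]

theorem localDim_homeomorph {A B : Type u} [TopologicalSpace A] [TopologicalSpace B] (e : A ≃ₜ B) (a : A) :
    FlatMor.localDim A a = FlatMor.localDim B (e a) := by
  apply le_antisymm
  · refine le_iInf fun ⟨V, hV⟩ => iInf_le_of_le ⟨⟨e ⁻¹' V, V.isOpen.preimage e.continuous⟩, hV⟩ ?_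
    exact (IsHomeomorph.topologicalKrullDim_eq _
      (e.sets (s := e ⁻¹' (V : Set B)) (t := (V : Set B)) rfl).isHomeomorph).le
  · refine le_iInf fun ⟨V, hV⟩ => iInf_le_of_le ⟨⟨e.symm ⁻¹' V, V.isOpen.preimage e.symm.continuous⟩,
      show e.symm (e a) ∈ V by rwa [e.symm_apply_apply]⟩ ?_
    exact (IsHomeomorph.topologicalKrullDim_eq _
      (e.symm.sets (s := e.symm ⁻¹' (V : Set A)) (t := (V : Set A)) rfl).isHomeomorph).le

variable {X Z Y : Scheme.{u}}

/-- Codimensions are intrinsic to closed subschemes. -/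
theorem cod_map (ι : Z ⟶ X) [IsClosedImmersion ι] {ξ w : Z} (h : ξ ⤳ w) : cod (ι ξ) (ι w) = cod ξ w := by
  obtain ⟨P, rfl⟩ := exists_toPt h
  rw [apply_toPt ι, cod_toPt, cod_toPt]
  exact natDim_eq_of_ringEquiv (RingEquiv.ofBijective
    (Ideal.quotientMap P.asIdeal (ι.stalkMap w).hom le_rfl)
    ⟨Ideal.quotientMap_injective, Ideal.quotientMap_surjective (SurjectiveOnStalks.stalkMap_surjective ι w)⟩)

theorem dimAt_eq_cod_map (ι : Z ⟶ X) [IsClosedImmersion ι] [IsLocallyNoetherian Z] [IrreducibleSpace Z]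
    (w : Z) : dimAt w = cod (ι (genericPoint Z)) (ι w) := by
  rw [cod_map ι (genericPoint_specializes w), dimAt_eq_cod_of_irreducible]

theorem trdAt_comp (ι : Z ⟶ X) [IsPreimmersion ι] (f : X ⟶ Y) (w : Z) :
    trdAt (ι ≫ f) w = trdAt f (ι w) :=
  Chevalley.trdegHom_residueFieldMap_comp ι f w

/-- The reduced subscheme with a given generic point. -/
theorem exists_integral_subscheme (ξ : X) :
    ∃ (Z : Scheme.{u}) (ι : Z ⟶ X), IsClosedImmersion ι ∧ IsIntegral Z ∧ Set.range ι = closure {ξ} ∧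
      ∀ (_ : IrreducibleSpace Z), ι (genericPoint Z) = ξ := by
  let I := Scheme.IdealSheafData.vanishingIdeal (⟨closure {ξ}, isClosed_closure⟩ : Closeds X)
  have hrange : Set.range I.subschemeι = closure {ξ} := by
    rw [Scheme.IdealSheafData.range_subschemeι]
    exact Scheme.IdealSheafData.coe_support_vanishingIdeal _
  haveI : IrreducibleSpace I.subscheme := by
    have hirr : IsIrreducible (closure ({ξ} : Set X)) := isIrreducible_singleton.closure
    let e : I.subscheme ≃ₜ (closure ({ξ} : Set X) : Set X) :=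
      I.subschemeι.isEmbedding.toHomeomorph.trans (Homeomorph.setCongr hrange)
    haveI : IrreducibleSpace (closure ({ξ} : Set X) : Set X) := Subtype.irreducibleSpace hirr
    exact e.symm.surjective.irreducibleSpace e.symm.continuous
  haveI : IsReduced I.subscheme := Props12.isReduced_subscheme_vanishingIdeal _
  refine ⟨_, I.subschemeι, inferInstance, isIntegral_of_irreducibleSpace_of_isReduced _, hrange, fun _ => ?_⟩
  have h1 : IsGenericPoint (I.subschemeι (genericPoint I.subscheme)) (closure {ξ}) := by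
    have := (genericPoint_spec I.subscheme).image I.subschemeι.continuous
    rwa [Set.image_univ, hrange, closure_closure] at this
  exact h1.eq isGenericPoint_closure

/-- `dim_x (T ∩ f⁻¹ f x)` for a closed subscheme `T`. -/
theorem localDim_inter_fibre_eq_fibreDimAt (ι : Z ⟶ X) [IsClosedImmersion ι] (f : X ⟶ Y) (T : Set X)
    (hT : Set.range ι = T) (w : Z) (x : X) (hwx : ι w = x) (hx : x ∈ T ∩ f.base ⁻¹' {f.base x}) :
    FlatMor.localDim ↥(T ∩ f.base ⁻¹' {f.base x}) ⟨x, hx⟩ = FlatMor.fibreDimAt (ι ≫ f) w := by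
  subst hwx
  have himg : ι.base '' ((ι ≫ f).base ⁻¹' {(ι ≫ f).base w}) = T ∩ f.base ⁻¹' {f.base (ι w)} := by
    rw [← hT]
    ext a
    constructor
    · rintro ⟨b, hb, rfl⟩
      exact ⟨⟨b, rfl⟩, hb⟩
    · rintro ⟨⟨b, rfl⟩, hb⟩
      exact ⟨b, hb, rfl⟩
  let e : ↥((ι ≫ f).fiber ((ι ≫ f) w)) ≃ₜ ↥(T ∩ f.base ⁻¹' {f.base (ι w)}) :=
    ((ι ≫ f).fiberHomeo ((ι ≫ f) w)).trans
      ((ι.isEmbedding.homeomorphImage _).trans (Homeomorph.setCongr himg))
  have he : e ((ι ≫ f).asFiber w) = ⟨ι w, hx⟩ := Subtype.ext (by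
    show ι (((ι ≫ f).fiberHomeo _ ((ι ≫ f).asFiber w)).1) = ι w
    congr 1
    exact (ι ≫ f).fiberι_asFiber w)
  rw [← he, ← localDim_homeomorph e]
  rfl

variable [IsLocallyNoetherian Y] (f : X ⟶ Y) [LocallyOfFiniteType f]

/-- EGA IV 13.1.1 inside the closure of `ξ`. -/
theorem exists_between_trdAt {ξ x : X} (h : ξ ⤳ x) :
    ∃ z, ξ ⤳ z ∧ z ⤳ x ∧ f z = f x ∧ trdAt f ξ ≤ trdAt f z := by
  obtain ⟨Z, ι, hι, hZ, hr, hg⟩ := exists_integral_subscheme ξ
  haveI := hι
  haveI := hZ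
  obtain ⟨w, rfl⟩ : x ∈ Set.range ι := hr ▸ specializes_iff_mem_closure.1 h
  obtain ⟨z, hzw, hz, -, hd⟩ := exists_fibre_max (ι ≫ f) w
  have hle := trdAt_le_of_specializes (ι ≫ f) (genericPoint_specializes w)
  refine ⟨ι z, ?_, hzw.map ι.continuous, hz, ?_⟩
  · rw [← hg inferInstance]
    exact (genericPoint_specializes z).map ι.continuous
  · rw [← hg inferInstance, ← trdAt_comp ι f, ← trdAt_comp ι f]
    exact hle.trans hd.ge

/-- A lower bound for codimensions by transcendence degrees. -/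
theorem trdAt_le_cod_add {ξ x : X} (h : ξ ⤳ x) :
    trdAt f ξ ≤ cod ξ x + trdAt f x ∧ (f ξ ≠ f x → trdAt f ξ < cod ξ x + trdAt f x) := by
  haveI := LocallyOfFiniteType.isLocallyNoetherian f
  obtain ⟨z, hξz, hzx, hz, hd⟩ := exists_between_trdAt f h
  have h1 := fibre_formula f hzx hz
  by_cases hne : ξ = z
  · subst hne
    exact ⟨by omega, fun h' => absurd hz h'⟩
  · have h2 := cod_lt_cod hξz hzx hne
    exact ⟨by omega, fun _ => by omega⟩

/-- EGA IV 14.2.?: openness at a maximal point of a fibre over each maximal point of the base. -/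
theorem exists_maximal_of_isOpenAt {z : X} (hmax : ∀ w, w ⤳ z → f w = f z → w = z)
    (h : EGA43.IsOpenAt f.base z) {η : Y} (hη : IsMaximalPt η) (hηy : η ⤳ f z) :
    ∃ ξ, IsMaximalPt ξ ∧ ξ ⤳ z ∧ f ξ = η ∧ trdAt f ξ = trdAt f z := by
  obtain ⟨w, hwz, hwη, hd⟩ := Chevalley.exists_generization_trdegHom_le f z hmax
    (fun _ hy' => H8ProCons.exists_generization_of_isOpenAt f h hy') hηy
  obtain ⟨ξ, hξw, W, hW, hgen⟩ := exists_isMaximalPt_specializes w
  have hξη : f ξ = η := hη _ ((hξw.map f.continuous).trans (specializes_of_eq hwη))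
  refine ⟨ξ, isMaximalPt_of_isGenericPoint hW hgen, hξw.trans hwz, hξη, ?_⟩
  have h1 := Chevalley.trdegHom_le_of_specializes f hξw (hξη.trans hwη.symm)
  have h2 := trdAt_le_of_specializes f (hξw.trans hwz)
  have h3 := (fibDim_eq_zero_iff f z).2 hmax
  unfold trdAt at h2 ⊢
  omega

theorem isEquidimAt_of_isOpenAt_of_irreducible [IrreducibleSpace X] [IsDominant f] {x : X}
    (h : ∀ z, z ⤳ x → f z = f x → (∀ w, w ⤳ z → f w = f x → w = z) → EGA43.IsOpenAt f.base z) :
    EGA43.IsEquidimAt f x := by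
  refine isEquidimAt_of_forall f x fun ξ hξ hξx => ?_
  obtain ⟨z, hzx, hz, hzmax, hd⟩ := exists_fibre_max f x
  obtain ⟨η, hηy, W, hW, hgen⟩ := exists_isMaximalPt_specializes (f z)
  have hη := isMaximalPt_of_isGenericPoint hW hgen
  obtain ⟨ξ', hξ', -, hξ'η, hd'⟩ := exists_maximal_of_isOpenAt f hzmax
    (h z hzx hz fun w hw he => hzmax w hw (he.trans hz.symm)) hη hηy
  have he : ξ = ξ' := (hξ _ (genericPoint_specializes ξ)).symm.trans (hξ' _ (genericPoint_specializes ξ'))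
  subst he
  exact ⟨hξ'η ▸ hη, hd'.trans hd⟩

theorem isEquidim_of_isUnibranch {y : Y} (hy : CAlg2.IsUnibranch (Y.presheaf.stalk y)) :
    EGA4.IsEquidim (Y.presheaf.stalk y) := by
  refine (isEquidim_stalk_iff y).2 fun ξ hξ hξy => ?_
  obtain ⟨ξ₀, hξ₀, hy₀, hc⟩ := exists_cod_eq y
  rwa [Chevalley.eq_of_isMaximalPt hy hξ hξy hξ₀ hy₀]

/-- EGA IV 14.4.4 (the stalk part): equidimensional over a geometrically unibranch point. -/
theorem isEquidim_stalk_of_geomUnibranch {x : X} (hy : CAlg2.IsGeomUnibranch (Y.presheaf.stalk (f x)))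
    (h : EGA43.IsEquidimAt f x) : EGA4.IsEquidim (X.presheaf.stalk x) := by
  haveI := LocallyOfFiniteType.isLocallyNoetherian f
  suffices key : ∀ ξ, IsMaximalPt ξ → ξ ⤳ x → cod ξ x = dimAt (f x) + fibDim f x by
    obtain ⟨ξ, hξ, hx, hc⟩ := exists_cod_eq x
    exact (isEquidim_stalk_iff x).2 fun ξ' hξ' hx' => by
      rw [key ξ' hξ' hx', ← hc, key ξ hξ hx]
  intro ξ hξ hξx
  obtain ⟨hη, hd⟩ := exists_of_isEquidimAt f h ξ hξ hξx
  obtain ⟨Z, ι, hι, hZ, hr, hg⟩ := exists_integral_subscheme ξ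
  haveI := hι
  haveI := hZ
  obtain ⟨w, rfl⟩ : x ∈ Set.range ι := hr ▸ specializes_iff_mem_closure.1 hξx
  haveI := LocallyOfFiniteType.isLocallyNoetherian (ι ≫ f)
  have hgen : ι (genericPoint Z) = ξ := hg inferInstance
  obtain ⟨z, hzw, hz, hzmax, hD⟩ := exists_fibre_max (ι ≫ f) w
  have h1 := trdAt_le_of_specializes (ι ≫ f) (genericPoint_specializes w)
  have h2 := trdAt_le f (hzw.map ι.continuous) hz
  rw [trdAt_comp ι f, hgen] at h1
  rw [trdAt_comp ι f] at hD
  have hwd : trdAt (ι ≫ f) w = trdAt f (ι w) := trdAt_comp ι f w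
  have hd0 : trdAt (ι ≫ f) (genericPoint Z) = trdAt f ξ := by rw [trdAt_comp ι f, hgen]
  have heq : EGA43.IsEquidimAt (ι ≫ f) w := isEquidimAt_of_forall (ι ≫ f) w fun ξ' hξ' _ => by
    rw [show ξ' = genericPoint Z from (hξ' _ (genericPoint_specializes ξ')).symm, hd0]
    refine ⟨?_, by omega⟩
    show IsMaximalPt (f (ι (genericPoint Z)))
    rwa [hgen]
  have hopen : ∀ z', z' ⤳ w → (ι ≫ f) z' = (ι ≫ f) w → (∀ v, v ⤳ z' → (ι ≫ f) v = (ι ≫ f) w → v = z') →
      EGA43.IsOpenAt (ι ≫ f).base z' := fun z' hz' he _ => by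
    obtain ⟨e, U, hwU, hc1, hc2⟩ := (Chevalley.isEquidimAt_iff (ι ≫ f) w).1 heq
    refine Chevalley.isOpenAt_of_isUnivOpenAt (ι ≫ f) (Chevalley.isUnivOpenAt_of_isEquidimAt (ι ≫ f) z' ?_ ?_)
    · exact he.symm ▸ (show CAlg2.IsGeomUnibranch (Y.presheaf.stalk ((ι ≫ f) w)) from hy)
    · exact (Chevalley.isEquidimAt_iff (ι ≫ f) z').2
        ⟨e, U, hz'.mem_open U.isOpen hwU, fun a ha ha' => by rw [he]; exact hc1 a ha ha', hc2⟩
  have hdf := (dF_iff (ι ≫ f) w).1 (dimAt_eq_of_isOpenAt (ι ≫ f) w hopen)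
  unfold DF at hdf
  have hfw : dimAt ((ι ≫ f) w) = dimAt (f (ι w)) := rfl
  rw [dimAt_eq_cod_map ι w, hgen, hfw] at hdf
  omega

end Groth.Agent.EGA43.DimFormula
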