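import Groth.Agent.EGA43.DimFormula.Main
import Groth.Agent.EGA43.DimFormula.Sub
import Groth.Agent.EGA43.Chevalley.Section
import Groth.Agent.EGA43.Chevalley.Specialize
import Groth.Agent.CAlgH3.RegularLocal
import Groth.Agent.FEtFF.NormalGeomUnibranch

/-!
# EGA IV 14.4.?: morphisms to regular schemes of dimension at most one
-/

set_option autoImplicit false
set_option backward.isDefEq.respectTransparency false
set_option linter.style.haveILetI false

universe u

open CategoryTheory CategoryTheory.Limits AlgebraicGeometry TopologicalSpace IsLocalRing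

namespace Groth.Agent.EGA43.DimFormula

open Groth.Agent FlatMorWeight

variable {X Y : Scheme.{u}} [IrreducibleSpace Y] [IsLocallyNoetherian Y]

theorem trdAt_le_of_dim_le_one (f : X ⟶ Y) [LocallyOfFiniteType f] {ξ x : X} (hξ : ξ ⤳ x)
    (hη : f ξ = genericPoint Y) (h1 : ringKrullDim (Y.presheaf.stalk (f x)) ≤ 1) :
    trdAt f x ≤ trdAt f ξ := by
  by_cases he : f ξ = f x
  · exact Chevalley.trdegHom_le_of_specializes f hξ he
  haveI : IsLocallyNoetherian X := LocallyOfFiniteType.isLocallyNoetherian f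
  have h2 := le_formula f hξ
  have h3 : cod (f ξ) (f x) ≤ dimAt (f x) := cod_le_dimAt (hξ.map f.continuous)
  have h4 : 0 < cod ξ x := cod_pos hξ fun h => he (congrArg f h)
  have h5 : dimAt (f x) ≤ 1 := by
    rw [dimAt_eq] at h1
    exact_mod_cast h1
  omega

/-- Where every component through a point dominates, the morphism is universally open. -/
theorem exists_universallyOpen_nhd (hY : ∀ y : Y, IsRegularLocalRing (Y.presheaf.stalk y) ∧
      ringKrullDim (Y.presheaf.stalk y) ≤ 1)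
    (f : X ⟶ Y) [LocallyOfFiniteType f] (y : Y)
    (h : ∀ ξ x : X, IsMaximalPt ξ → ξ ⤳ x → f x = y → f ξ = genericPoint Y) :
    ∃ U : X.Opens, f.base ⁻¹' {y} ⊆ (U : Set X) ∧ UniversallyOpen (U.ι ≫ f) := by
  haveI : IsLocallyNoetherian X := LocallyOfFiniteType.isLocallyNoetherian f
  choose W hxW hW using fun x : X => exists_nhd_maximalPt_specializes x
  refine ⟨⨆ x : {x : X // f x = y}, W x, fun x hx => Opens.mem_iSup.2 ⟨⟨x, hx⟩, hxW x⟩, ?_⟩
  refine Chevalley.universallyOpen_of_forall _ fun w => ?_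
  haveI := (hY ((((⨆ x : {x : X // f x = y}, W x) : X.Opens).ι ≫ f) w)).1
  let U : X.Opens := ⨆ x : {x : X // f x = y}, W x
  haveI := CAlgH3.isDomain_of_isRegularLocalRing (Y.presheaf.stalk ((U.ι ≫ f) w))
  haveI := CAlgH3.isIntegrallyClosed_of_regular (Y.presheaf.stalk ((U.ι ≫ f) w))
  obtain ⟨ξ, hξ, Z, hZ, hgen⟩ := exists_isMaximalPt_specializes (U.ι w)
  have hξU : ξ ∈ U := hξ.mem_open U.isOpen (show U.ι w ∈ U from w.2)
  obtain ⟨⟨x, hx⟩, hξW⟩ := Opens.mem_iSup.1 hξU
  have hmax := isMaximalPt_of_isGenericPoint hZ hgen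
  have hη : f ξ = genericPoint Y := h ξ x hmax (hW x ξ hξW hmax) hx
  let ξ' : U := ⟨ξ, hξU⟩
  have hξ' : ξ' ⤳ w := Topology.IsInducing.subtypeVal.specializes_iff.1 hξ
  have hη' : (U.ι ≫ f) ξ' = genericPoint Y := hη
  refine Chevalley.isUnivOpenAt_of_trdegHom (U.ι ≫ f) hξ' ?_ (FEtFF.isGeomUnibranch_of_normal _)
    fun x' h1 _ h3 => trdAt_le_of_dim_le_one (U.ι ≫ f) h1 hη' (h3 ▸ (hY _).2)
  rw [hη']
  exact fun z hz => (hz.antisymm (genericPoint_specializes z)).eq

/-- Quasi-finite multisections inside a component. -/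
theorem exists_section_in_component (hY : ∀ y : Y, ringKrullDim (Y.presheaf.stalk y) ≤ 1)
    (f : X ⟶ Y) [LocallyOfFiniteType f] {x ξ : X} (hcl : ∀ x', f x' = f x → x ⤳ x' → x' = x)
    (hξ : ξ ⤳ x) (hη : f ξ = genericPoint Y) :
    ∃ (T : Scheme.{u}) (i : T ⟶ X), IsImmersion i ∧ IrreducibleSpace ↥T ∧ IsReduced T ∧
      x ∈ Set.range i.base ∧ Set.range i.base ⊆ closure {ξ} ∧
      LocallyOfFiniteType (i ≫ f) ∧ LocallyQuasiFinite (i ≫ f) ∧ QuasiCompact (i ≫ f) ∧
      IsDominant (i ≫ f) := by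
  obtain ⟨Z, ι, _, hZ, hrange, hgen⟩ := exists_integral_subscheme ξ
  haveI := hZ
  obtain ⟨w, rfl⟩ : x ∈ Set.range ι := hrange ▸ specializes_iff_mem_closure.1 hξ
  have hξw : genericPoint Z ⤳ w := genericPoint_specializes w
  have hη' : (ι ≫ f) (genericPoint Z) = genericPoint Y := by
    rw [Scheme.Hom.comp_apply, hgen inferInstance, hη]
  obtain ⟨T, i, hirr, hi, hred, hw, hlft, hlqf, hqc, hT⟩ := Chevalley.exists_section (ι ≫ f) hξw
    (fun w' he hs => ι.isEmbedding.injective (hcl _ (by simpa using he) (hs.map ι.continuous)))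
    fun x' h1 _ _ => trdAt_le_of_dim_le_one (ι ≫ f) h1 hη' (hY _)
  haveI := hi
  haveI := hirr
  refine ⟨T, i ≫ ι, inferInstance, hirr, hred, ?_, ?_, ?_, ?_, ?_, ⟨?_⟩⟩
  · obtain ⟨t, ht⟩ := hw
    exact ⟨t, by rw [Scheme.Hom.comp_apply]; exact congrArg ι ht⟩
  · rintro _ ⟨t, rfl⟩
    exact hrange.le ⟨i t, rfl⟩
  · rwa [Category.assoc]
  · rwa [Category.assoc]
  · rwa [Category.assoc]
  · intro a
    have : (((i ≫ ι) ≫ f) (genericPoint T)) = genericPoint Y := by
      rw [Category.assoc, Scheme.Hom.comp_apply]; exact hT.trans hη'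
    have hsub : ({genericPoint Y} : Set Y) ⊆ Set.range ((i ≫ ι) ≫ f) :=
      Set.singleton_subset_iff.2 ⟨_, this⟩
    exact closure_mono hsub (specializes_iff_mem_closure.1 (genericPoint_specializes a))

omit [IrreducibleSpace Y] [IsLocallyNoetherian Y] in
/-- Every point of a fibre specialises to a closed one. -/
theorem exists_closed_in_fibre (f : X ⟶ Y) [LocallyOfFiniteType f] (z : X) :
    ∃ x, z ⤳ x ∧ f x = f z ∧ ∀ x', f x' = f x → x ⤳ x' → x' = x := by
  haveI : LocallyOfFiniteType (f.fiberToSpecResidueField (f z)) :=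
    inferInstanceAs (LocallyOfFiniteType (Limits.pullback.snd f (Y.fromSpecResidueField (f z))))
  haveI : JacobsonSpace ↥(f.fiber (f z)) :=
    LocallyOfFiniteType.jacobsonSpace (f.fiberToSpecResidueField (f z))
  obtain ⟨b, hb, hbc⟩ := nonempty_inter_closedPoints (Z := closure ({f.asFiber z} : Set _))
    ⟨_, subset_closure rfl⟩ isClosed_closure.isLocallyClosed
  refine ⟨f.fiberι _ b, ?_, (f.range_fiberι _).le ⟨b, rfl⟩, fun x' he hs => ?_⟩
  · have := (specializes_iff_mem_closure.2 hb).map (f.fiberι (f z)).continuous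
    rwa [f.fiberι_asFiber] at this
  · obtain ⟨b', rfl⟩ : x' ∈ Set.range (f.fiberι (f z)) := by
      rw [f.range_fiberι]; exact he.trans ((f.range_fiberι _).le ⟨b, rfl⟩)
    have h2 := (f.fiberι (f z)).isEmbedding.isInducing.specializes_iff.1 hs
    have h3 := specializes_iff_mem_closure.1 h2
    rw [(mem_closedPoints_iff.1 hbc).closure_eq] at h3
    exact congrArg _ (Set.mem_singleton_iff.1 h3)

end Groth.Agent.EGA43.DimFormula
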