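import Groth.Agent.EGA43.DimFormula.Sub

/-!
# EGA IV 14.4.4 and 13.3.?: criteria for equidimensionality
-/

set_option autoImplicit false
set_option backward.isDefEq.respectTransparency false
set_option linter.style.haveILetI false

universe u

open CategoryTheory CategoryTheory.Limits AlgebraicGeometry TopologicalSpace IsLocalRing

namespace Groth.Agent.EGA43.DimFormula

open Groth.Agent FlatMorWeight

variable {X Y : Scheme.{u}} (f : X ⟶ Y)

/-- The generic points of the components of the fibre through `x`, as points of `X`. -/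
theorem forall_fibre_gen_iff (x : X) (P : X → Prop) :
    (∀ z : ↥(f.fiber (f x)), f.asFiber x ∈ closure {z} →
      (∀ z' : ↥(f.fiber (f x)), z ∈ closure {z'} → z' = z) → P ((f.fiberι (f x)).base z)) ↔
    ∀ z : X, z ⤳ x → f z = f x → (∀ w, w ⤳ z → f w = f x → w = z) → P z := by
  constructor
  · intro h z hzx hz hmax
    obtain ⟨a, rfl⟩ : z ∈ Set.range (f.fiberι (f x)) := by rw [f.range_fiberι]; exact hz
    refine h a ?_ fun b hb => ?_
    · rw [← specializes_iff_mem_closure, ← (f.fiberι (f x)).isEmbedding.isInducing.specializes_iff,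
        f.fiberι_asFiber]
      exact hzx
    · exact (f.fiberι (f x)).isEmbedding.injective
        (hmax _ ((specializes_iff_mem_closure.2 hb).map (f.fiberι (f x)).continuous)
          (Chevalley.apply_fiberι f (f x) b))
  · intro h a ha hmax
    refine h _ ?_ (Chevalley.apply_fiberι f (f x) a) fun w hw hwe => ?_
    · have := (specializes_iff_mem_closure.2 ha).map (f.fiberι (f x)).continuous
      rwa [f.fiberι_asFiber] at this
    · obtain ⟨b, rfl⟩ : w ∈ Set.range (f.fiberι (f x)) := by rw [f.range_fiberι]; exact hwe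
      exact congrArg _ (hmax b (specializes_iff_mem_closure.1
        ((f.fiberι (f x)).isEmbedding.isInducing.specializes_iff.1 hw)))

variable [IsLocallyNoetherian Y] [LocallyOfFiniteType f]

theorem isEquidimAt_of_isOpenAt {x : X} (hX : EGA4.IsEquidim (X.presheaf.stalk x))
    (hY : EGA4.IsEquidim (Y.presheaf.stalk (f x)))
    (h : ∀ z, z ⤳ x → f z = f x → (∀ w, w ⤳ z → f w = f x → w = z) → EGA43.IsOpenAt f.base z) :
    EGA43.IsEquidimAt f x := by
  haveI := LocallyOfFiniteType.isLocallyNoetherian f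
  exact isEquidimAt_of_dF f hY hX ((dF_iff f x).1 (dimAt_eq_of_isOpenAt f x h))

theorem isUnivOpenAt_of_isEquidimAt_fibre {x z : X} (h : EGA43.IsEquidimAt f x)
    (hy : CAlg2.IsGeomUnibranch (Y.presheaf.stalk (f x))) (hz : z ⤳ x) (he : f z = f x) :
    EGA43.IsUnivOpenAt f z := by
  obtain ⟨e, U, hxU, hc1, hc2⟩ := (Chevalley.isEquidimAt_iff f x).1 h
  refine Chevalley.isUnivOpenAt_of_isEquidimAt f z (he.symm ▸ hy) ?_
  exact (Chevalley.isEquidimAt_iff f z).2
    ⟨e, U, hz.mem_open U.isOpen hxU, fun a ha ha' => by rw [he]; exact hc1 a ha ha', hc2⟩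

theorem tfae_of_geomUnibranch (x : X) (hy : CAlg2.IsGeomUnibranch (Y.presheaf.stalk (f x))) :
    List.TFAE [EGA43.IsEquidimAt f x,
      EGA4.IsEquidim (X.presheaf.stalk x) ∧ (∀ z : ↥(f.fiber (f x)), f.asFiber x ∈ closure {z} →
        (∀ z' : ↥(f.fiber (f x)), z ∈ closure {z'} → z' = z) → EGA43.IsOpenAt f.base ((f.fiberι (f x)).base z)),
      EGA4.IsEquidim (X.presheaf.stalk x) ∧ (∀ z : ↥(f.fiber (f x)), f.asFiber x ∈ closure {z} →
        (∀ z' : ↥(f.fiber (f x)), z ∈ closure {z'} → z' = z) → EGA43.IsUnivOpenAt f ((f.fiberι (f x)).base z))] := by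
  rw [forall_fibre_gen_iff f x (fun z => EGA43.IsOpenAt f.base z),
    forall_fibre_gen_iff f x (fun z => EGA43.IsUnivOpenAt f z)]
  tfae_have 1 → 3 := fun h => ⟨isEquidim_stalk_of_geomUnibranch f hy h,
    fun z hz he _ => isUnivOpenAt_of_isEquidimAt_fibre f h hy hz he⟩
  tfae_have 3 → 2 := fun h => ⟨h.1, fun z hz he hmax =>
    Chevalley.isOpenAt_of_isUnivOpenAt f (h.2 z hz he hmax)⟩
  tfae_have 2 → 1 := fun h => isEquidimAt_of_isOpenAt f h.1 (isEquidim_of_isUnibranch hy.1) h.2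
  tfae_finish

/-- EGA IV 13.3.? : codimension and fibre dimension of an irreducible closed subset. -/
theorem codim_and_fibre_dim [IrreducibleSpace Y] {Z : Scheme.{u}} (ι : Z ⟶ X) [IsClosedImmersion ι]
    [IrreducibleSpace Z] (x' : X) (hx' : ι (genericPoint Z) = x') (w : Z) (n : ℕ)
    (hf : EGA43.IsEquidimAt f (ι w)) (hcodim : dimAt x' ≤ n)
    (hdim : fibDim (ι ≫ f) w + trdAt (ι ≫ f) w + n ≤ fibDim f (ι w) + trdAt f (ι w)) :
    dimAt x' = n ∧ fibDim (ι ≫ f) w + trdAt (ι ≫ f) w + n = fibDim f (ι w) + trdAt f (ι w) ∧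
      EGA43.IsEquidimAt (ι ≫ f) w := by
  haveI := LocallyOfFiniteType.isLocallyNoetherian f
  have hx'w : x' ⤳ ι w := hx' ▸ (genericPoint_specializes w).map ι.continuous
  obtain ⟨ξ, hξ, hξx', hc⟩ := exists_cod_eq x'
  obtain ⟨hη, hd⟩ := exists_of_isEquidimAt f hf ξ hξ (hξx'.trans hx'w)
  obtain ⟨hlow, hstrict⟩ := trdAt_le_cod_add f hξx'
  have h1 := trdAt_le_of_specializes (ι ≫ f) (genericPoint_specializes w)
  have h2 : trdAt (ι ≫ f) (genericPoint Z) = trdAt f x' := by rw [trdAt_comp ι f, hx']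
  have hfx' : f ξ = f x' := by
    by_contra hne
    have := hstrict hne
    omega
  refine ⟨by omega, by omega, isEquidimAt_of_forall (ι ≫ f) w fun ξ' hξ' _ => ?_⟩
  rw [show ξ' = genericPoint Z from (hξ' _ (genericPoint_specializes ξ')).symm, h2]
  refine ⟨?_, by omega⟩
  show IsMaximalPt (f (ι (genericPoint Z)))
  rw [hx', ← hfx']
  exact hη

theorem irreducible_subscheme (T : Closeds X) (x' : X) (hx' : closure ({x'} : Set X) = (T : Set X)) :
    ∃ _ : IrreducibleSpace (Scheme.IdealSheafData.vanishingIdeal T).subscheme,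
      (Scheme.IdealSheafData.vanishingIdeal T).subschemeι
        (genericPoint (Scheme.IdealSheafData.vanishingIdeal T).subscheme) = x' := by
  let I := Scheme.IdealSheafData.vanishingIdeal T
  have hrange : Set.range I.subschemeι = closure {x'} := by
    rw [Scheme.IdealSheafData.range_subschemeι, hx']
    exact Scheme.IdealSheafData.coe_support_vanishingIdeal _
  haveI : IrreducibleSpace I.subscheme := by
    have hirr : IsIrreducible (closure ({x'} : Set X)) := isIrreducible_singleton.closure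
    let e : I.subscheme ≃ₜ (closure ({x'} : Set X) : Set X) :=
      I.subschemeι.isEmbedding.toHomeomorph.trans (Homeomorph.setCongr hrange)
    haveI : IrreducibleSpace (closure ({x'} : Set X) : Set X) := Subtype.irreducibleSpace hirr
    exact e.symm.surjective.irreducibleSpace e.symm.continuous
  refine ⟨inferInstance, ?_⟩
  have h1 : IsGenericPoint (I.subschemeι (genericPoint I.subscheme)) (closure {x'}) := by
    have := (genericPoint_spec I.subscheme).image I.subschemeι.continuous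
    rwa [Set.image_univ, hrange, closure_closure] at this
  exact h1.eq isGenericPoint_closure

theorem codim_and_fibre_dim_closeds [IrreducibleSpace Y] (x : X) (hf : EGA43.IsEquidimAt f x)
    (X' : TopologicalSpace.Closeds X) (x' : X) (hx' : closure ({x'} : Set X) = (X' : Set X)) (hx : x ∈ X') (n : ℕ)
    (hcodim : ringKrullDim (X.presheaf.stalk x') ≤ n)
    (hdim : FlatMor.localDim ↥((X' : Set X) ∩ f.base ⁻¹' {f.base x}) ⟨x, ⟨hx, rfl⟩⟩ + n ≤ FlatMor.fibreDimAt f x) :
    ringKrullDim (X.presheaf.stalk x') = n ∧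
      FlatMor.localDim ↥((X' : Set X) ∩ f.base ⁻¹' {f.base x}) ⟨x, ⟨hx, rfl⟩⟩ + n = FlatMor.fibreDimAt f x ∧
      ∀ w : ↥(Scheme.IdealSheafData.vanishingIdeal X').subscheme,
        (Scheme.IdealSheafData.vanishingIdeal X').subschemeι.base w = x →
        EGA43.IsEquidimAt ((Scheme.IdealSheafData.vanishingIdeal X').subschemeι ≫ f) w := by
  haveI := LocallyOfFiniteType.isLocallyNoetherian f
  let ι := (Scheme.IdealSheafData.vanishingIdeal X').subschemeι
  obtain ⟨hirr, hgen⟩ := irreducible_subscheme X' x' hx'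
  haveI := hirr
  have hrange : Set.range ι = (X' : Set X) := by
    rw [Scheme.IdealSheafData.range_subschemeι]
    exact Scheme.IdealSheafData.coe_support_vanishingIdeal _
  have key : ∀ w, ι w = x → FlatMor.localDim ↥((X' : Set X) ∩ f.base ⁻¹' {f.base x}) ⟨x, ⟨hx, rfl⟩⟩ =
      ((fibDim (ι ≫ f) w + trdAt (ι ≫ f) w : ℕ) : WithBot ℕ∞) := fun w hw =>
    (localDim_inter_fibre_eq_fibreDimAt ι f _ hrange w x hw _).trans (fibreDimAt_eq (ι ≫ f) w)
  obtain ⟨w₀, hw₀⟩ : x ∈ Set.range ι := hrange.symm ▸ hx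
  have main : ∀ w, ι w = x → dimAt x' = n ∧
      fibDim (ι ≫ f) w + trdAt (ι ≫ f) w + n = fibDim f x + trdAt f x ∧
        EGA43.IsEquidimAt (ι ≫ f) w := by
    intro w hw
    rw [key w hw, fibreDimAt_eq f x] at hdim
    rw [dimAt_eq] at hcodim
    subst hw
    exact codim_and_fibre_dim f ι x' hgen w n hf (by exact_mod_cast hcodim) (by exact_mod_cast hdim)
  obtain ⟨h1, h2, -⟩ := main w₀ hw₀
  refine ⟨by rw [dimAt_eq, h1], ?_, fun w hw => (main w hw).2.2⟩
  rw [key w₀ hw₀, fibreDimAt_eq f x]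
  exact_mod_cast h2

/-- EGA IV 14.2.2: through a component of a fibre with an open generic point. -/
theorem exists_component_of_isOpenAt [IrreducibleSpace Y] (y : Y) (Z : Set X)
    (hZy : Z ⊆ f.base ⁻¹' {y}) (hZ : IsIrreducible Z)
    (hZmax : ∀ Z' : Set X, IsIrreducible Z' → Z' ⊆ f.base ⁻¹' {y} → Z ⊆ Z' → Z' = Z)
    (hopen : ∀ ζ ∈ Z, Z ⊆ closure {ζ} → EGA43.IsOpenAt f.base ζ) :
    ∃ X' ∈ irreducibleComponents (X : Type u), Z ⊆ X' ∧ Dense (f.base '' X') ∧
      (∀ ζ ∈ Z, Z ⊆ closure {ζ} → ∀ hζ : ζ ∈ X' ∩ f.base ⁻¹' {y},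
        FlatMor.localDim ↥(X' ∩ f.base ⁻¹' {y}) ⟨ζ, hζ⟩ = topologicalKrullDim ↥Z) ∧
      topologicalKrullDim ↥Z = topologicalKrullDim ↥(X' ∩ f.base ⁻¹' {genericPoint Y}) := by
  obtain ⟨ζ, hζgen⟩ := QuasiSober.sober hZ.closure isClosed_closure
  obtain ⟨a, ha⟩ := hZ.nonempty
  have hfa : f a = y := hZy ha
  obtain ⟨z, hzy, hzclos⟩ : ∃ z, f z = y ∧ closure {z} = closure Z := by
    refine ⟨ζ, ?_, hζgen.def⟩
    have hlc : f ζ ⤳ y := hfa ▸ (hζgen.specializes (subset_closure ha)).map f.continuous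
    have hmem : f ζ ∈ closure {y} := by
      refine (closure_mono (Set.image_subset_iff.2 hZy)) (image_closure_subset_closure_image f.continuous
        ⟨ζ, hζgen.mem, rfl⟩)
    exact ((specializes_iff_mem_closure.2 hmem).antisymm hlc).eq.symm
  have hzZ : z ∈ Z := by
    have h1 := hZmax (closure {z} ∩ f.base ⁻¹' {y}) ?_ Set.inter_subset_right
      (fun b hb => ⟨hzclos.symm ▸ subset_closure hb, hZy hb⟩)
    · exact h1 ▸ ⟨subset_closure rfl, hzy⟩
    · exact ⟨⟨z, subset_closure rfl, hzy⟩, fun u v hu hv ⟨b, hb, hbu⟩ ⟨c, hc, hcv⟩ =>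
        ⟨z, ⟨subset_closure rfl, hzy⟩, (specializes_iff_mem_closure.2 hb.1).mem_open hu hbu,
          (specializes_iff_mem_closure.2 hc.1).mem_open hv hcv⟩⟩
  have hZsub : Z ⊆ closure {z} := hzclos.symm ▸ subset_closure
  have hmax : ∀ w, w ⤳ z → f w = f z → w = z := fun w hw he => by
    have hwy : f w = y := he.trans hzy
    have h1 := hZmax (closure {w} ∩ f.base ⁻¹' {y})
      ⟨⟨w, subset_closure rfl, hwy⟩, fun u v hu hv ⟨b, hb, hbu⟩ ⟨c, hc, hcv⟩ =>
        ⟨w, ⟨subset_closure rfl, hwy⟩, (specializes_iff_mem_closure.2 hb.1).mem_open hu hbu,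
          (specializes_iff_mem_closure.2 hc.1).mem_open hv hcv⟩⟩ Set.inter_subset_right
      (fun b hb => ⟨specializes_iff_mem_closure.1 (hw.trans (specializes_iff_mem_closure.2 (hZsub hb))), hZy hb⟩)
    have hwZ : w ∈ Z := h1 ▸ ⟨subset_closure rfl, hwy⟩
    exact (hw.antisymm (specializes_iff_mem_closure.2 (hZsub hwZ))).eq
  have hZeq : Z = closure {z} ∩ f.base ⁻¹' {y} := by
    refine subset_antisymm (fun b hb => ⟨hZsub hb, hZy hb⟩) fun b hb => ?_
    have h1 := hZmax (closure {z} ∩ f.base ⁻¹' {y})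
      ⟨⟨z, subset_closure rfl, hzy⟩, fun u v hu hv ⟨b, hb, hbu⟩ ⟨c, hc, hcv⟩ =>
        ⟨z, ⟨subset_closure rfl, hzy⟩, (specializes_iff_mem_closure.2 hb.1).mem_open hu hbu,
          (specializes_iff_mem_closure.2 hc.1).mem_open hv hcv⟩⟩ Set.inter_subset_right
      (fun b hb => ⟨hZsub hb, hZy hb⟩)
    exact h1 ▸ hb
  have hdimZ : topologicalKrullDim ↥Z = (trdAt f z : WithBot ℕ∞) := by
    subst hzy
    rw [hZeq]
    exact Chevalley.topologicalKrullDim_closure_inter_fibre f z
  obtain ⟨η, hηy, W, hW, hgen⟩ := exists_isMaximalPt_specializes (f z)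
  have hη : η = genericPoint Y := isMaximalPt_genericPoint (isMaximalPt_of_isGenericPoint hW hgen)
  obtain ⟨ξ, hξ, hξz, hξη, hd⟩ := exists_maximal_of_isOpenAt f hmax (hopen z hzZ hZsub)
    (isMaximalPt_of_isGenericPoint hW hgen) hηy
  have hXc : closure {ξ} ∈ irreducibleComponents (X : Type u) :=
    DimLib.closure_mem_components fun w hw => (hξ w hw).symm
  refine ⟨closure {ξ}, hXc, fun b hb => specializes_iff_mem_closure.1 (hξz.trans
    (specializes_iff_mem_closure.2 (hZsub hb))), ?_, fun ζ' hζ'Z hζ'gen hζ' => ?_, ?_⟩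
  · refine dense_iff_closure_eq.2 ?_
    refine Set.eq_univ_of_forall fun b => closure_mono (Set.singleton_subset_iff.2 ?_)
      (show b ∈ closure {genericPoint Y} from (genericPoint_spec Y).def ▸ Set.mem_univ b)
    exact ⟨ξ, subset_closure rfl, hξη.trans hη⟩
  · have hz' : ζ' = z := ((specializes_iff_mem_closure.2 (hζ'gen hzZ)).antisymm
      (specializes_iff_mem_closure.2 (hZsub hζ'Z))).eq
    subst hz'
    rw [hdimZ]
    exact Chevalley.localDim_inter_fibre_eq f isClosed_closure.isLocallyClosed y ⟨_, hζ'⟩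
      fun w hw he => hmax w hw (he.trans hzy.symm)
  · rw [hdimZ, ← hη, ← hξη, Chevalley.topologicalKrullDim_closure_inter_fibre f ξ]
    exact congrArg (fun n : ℕ => (n : WithBot ℕ∞)) hd.symm

end Groth.Agent.EGA43.DimFormula
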