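import Groth.Agent.EGA43.DimFormula.Interval
import Groth.Agent.EGA43.DimFormula.Dedekind
import Groth.Agent.DimLib.Morphism
import Mathlib.FieldTheory.FinTrdeg

/-!
# EGA IV 10.6.1: dimensions over Jacobson universally catenary biequidimensional schemes
-/

set_option autoImplicit false
set_option backward.isDefEq.respectTransparency false
set_option linter.style.haveILetI false

universe u

open CategoryTheory CategoryTheory.Limits AlgebraicGeometry TopologicalSpace IsLocalRing

namespace Groth.Agent.EGA43.DimFormula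

open Groth.Agent FlatMorWeight

theorem trdeg_residueFieldMap_lt {X Y : Scheme.{u}} (f : X ⟶ Y) [LocallyOfFiniteType f] (x : X) :
    @Algebra.trdeg (Y.residueField (f x)) (X.residueField x) _ _
      (f.residueFieldMap x).hom.toAlgebra < Cardinal.aleph0 := by
  let _ := (f.residueFieldMap x).hom.toAlgebra
  let _ := stalkAlgebra f x
  obtain ⟨h, -⟩ := stalk_instances f x
  haveI := h
  let _ : Algebra (Y.presheaf.stalk (f x)) (Y.residueField (f x)) := (Y.residue (f x)).hom.toAlgebra
  let _ : Algebra (X.presheaf.stalk x) (X.residueField x) := (X.residue x).hom.toAlgebra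
  let _ : Algebra (Y.presheaf.stalk (f x)) (X.residueField x) :=
    ((X.residue x).hom.comp (f.stalkMap x).hom).toAlgebra
  haveI : IsScalarTower (Y.presheaf.stalk (f x)) (X.presheaf.stalk x) (X.residueField x) :=
    .of_algebraMap_eq' rfl
  haveI : IsScalarTower (Y.presheaf.stalk (f x)) (Y.residueField (f x)) (X.residueField x) :=
    .of_algebraMap_eq fun a => by
      exact (ConcreteCategory.congr_hom (Scheme.residue_residueFieldMap f x) a).symm
  haveI : Algebra.FiniteType (X.presheaf.stalk x) (X.residueField x) :=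
    RingHom.finiteType_algebraMap.1 (RingHom.FiniteType.of_surjective _ IsLocalRing.residue_surjective)
  haveI : Algebra.EssFiniteType (Y.presheaf.stalk (f x)) (X.residueField x) :=
    Algebra.EssFiniteType.comp _ (X.presheaf.stalk x) _
  haveI : Algebra.EssFiniteType (Y.residueField (f x)) (X.residueField x) :=
    Algebra.EssFiniteType.of_comp (Y.presheaf.stalk (f x)) _ _
  exact trdeg_lt_aleph0 _ _

/-- Transitivity of transcendence degrees. -/
theorem trdAt_trans {X Y S : Scheme.{u}} (f : X ⟶ Y) (q : Y ⟶ S) [LocallyOfFiniteType (f ≫ q)] (x : X) :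
    trdAt (f ≫ q) x = trdAt q (f x) + trdAt f x := by
  have h := trdeg_residueFieldMap_lt (f ≫ q) x
  rw [Scheme.residueFieldMap_comp, CommRingCat.hom_comp] at h
  obtain ⟨h1, h2⟩ := DimLib.trdeg_lt_of_comp _ _ h
  show DimLib.trdegHom ((f ≫ q).residueFieldMap x).hom = _
  rw [Scheme.residueFieldMap_comp, CommRingCat.hom_comp]
  exact DimLib.trdegHom_comp _ _ h1 h2

theorem trdAt_eq_zero_of_isClosed {X S : Scheme.{u}} (p : X ⟶ S) [LocallyOfFiniteType p] {c : X}
    (hc : IsClosed ({c} : Set X)) : trdAt p c = 0 := by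
  haveI : LocallyOfFiniteType (p.fiberToSpecResidueField (p c)) :=
    inferInstanceAs (LocallyOfFiniteType (Limits.pullback.snd p (S.fromSpecResidueField (p c))))
  show DimLib.trdegHom (p.residueFieldMap c).hom = 0
  rw [← p.fiberι_asFiber c, ← EGA43.FibDepth.ptDim_fiber p]
  refine (DimLib.ptDim_eq_zero_iff (k := S.residueField (p c)) (p.fiberToSpecResidueField (p c))
    (p.asFiber c)).2 ?_
  have : ({p.asFiber c} : Set _) = (p.fiberι (p c)) ⁻¹' {c} := by
    ext w
    rw [Set.mem_singleton_iff, Set.mem_preimage, Set.mem_singleton_iff]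
    exact ⟨fun h => by rw [h, p.fiberι_asFiber], fun h =>
      (p.fiberι (p c)).isEmbedding.injective (h.trans (p.fiberι_asFiber c).symm)⟩
  rw [this]
  exact hc.preimage (p.fiberι (p c)).continuous

variable {X S : Scheme.{u}} [IsLocallyNoetherian S]

/-- Below a point, the codimension does not depend on the closed point. -/
theorem cod_closed_eq [JacobsonSpace S] (h2 : ∀ s : S, CAlg.IsUniversallyCatenary (S.presheaf.stalk s))
    (h3 : ∀ S' ∈ irreducibleComponents (S : Type u), ∀ s ∈ S', IsClosed ({s} : Set S) →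
      topologicalKrullDim (↥S' : Type u) = topologicalKrullDim ↥{t : S | t ∈ S' ∧ t ⤳ s})
    {b c c' : S} (hbc : b ⤳ c) (hbc' : b ⤳ c') (hc : IsClosed ({c} : Set S))
    (hc' : IsClosed ({c'} : Set S)) : cod b c = cod b c' := by
  obtain ⟨η, hη, W, hW, hgen⟩ := exists_isMaximalPt_specializes b
  have hset : ∀ s, {t : S | t ∈ W ∧ t ⤳ s} = {t : S | η ⤳ t ∧ t ⤳ s} := fun s => by
    ext t; exact and_congr_left fun _ => hgen.specializes_iff_mem.symm
  have h := (h3 W hW c (hgen.specializes_iff_mem.1 (hη.trans hbc)) hc).symm.trans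
    (h3 W hW c' (hgen.specializes_iff_mem.1 (hη.trans hbc')) hc')
  rw [hset, hset, interval_eq_cod (hη.trans hbc), interval_eq_cod (hη.trans hbc')] at h
  have h' : cod η c = cod η c' := by exact_mod_cast h
  have h4 := cod_add hη hbc (h2 c)
  have h5 := cod_add hη hbc' (h2 c')
  omega

/-- The dimension of an irreducible scheme over such a base. -/
theorem dim_irreducible [JacobsonSpace S] (h2 : ∀ s : S, CAlg.IsUniversallyCatenary (S.presheaf.stalk s))
    (h3 : ∀ S' ∈ irreducibleComponents (S : Type u), ∀ s ∈ S', IsClosed ({s} : Set S) →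
      topologicalKrullDim (↥S' : Type u) = topologicalKrullDim ↥{t : S | t ∈ S' ∧ t ⤳ s})
    (p : X ⟶ S) [LocallyOfFiniteType p] [IrreducibleSpace X] {s : S} (hs : p (genericPoint X) ⤳ s)
    (hsc : IsClosed ({s} : Set S)) :
    topologicalKrullDim (X : Type u) =
      ((cod (p (genericPoint X)) s + trdAt p (genericPoint X) : ℕ) : WithBot ℕ∞) := by
  haveI : IsLocallyNoetherian X := LocallyOfFiniteType.isLocallyNoetherian p
  haveI : JacobsonSpace X := LocallyOfFiniteType.jacobsonSpace p
  rw [topologicalKrullDim_eq_iSup_closed]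
  have key : ∀ c : X, IsClosed ({c} : Set X) →
      dimAt c = cod (p (genericPoint X)) s + trdAt p (genericPoint X) := fun c hc => by
    have h1 := eq_formula p (genericPoint_specializes c) (h2 _)
    rw [trdAt_eq_zero_of_isClosed p hc, dimAt_eq_cod_of_irreducible, add_zero] at h1
    rw [h1, cod_closed_eq h2 h3 ((genericPoint_specializes c).map p.continuous) hs
      (p.closePoints_subset_preimage_closedPoints hc) hsc]
  obtain ⟨c₀, -, hc₀⟩ := nonempty_inter_closedPoints (Z := (Set.univ : Set X)) Set.univ_nonempty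
    isClosed_univ.isLocallyClosed
  haveI : Nonempty {c : X // IsClosed ({c} : Set X)} := ⟨⟨c₀, hc₀⟩⟩
  refine le_antisymm (iSup_le fun c => ?_) ((le_of_eq ?_).trans
    (le_iSup (fun c : {c : X // IsClosed ({c} : Set X)} => ringKrullDim (X.presheaf.stalk c.1)) ⟨c₀, hc₀⟩))
  · rw [dimAt_eq, key _ c.2]
  · rw [dimAt_eq, key _ hc₀]

/-- EGA IV 10.6.1: `dim X = dim Y + dim` of the generic fibre. -/
theorem dim_eq_dim_add_generic_fibre [JacobsonSpace S] {Y : Scheme.{u}}
    (h2 : ∀ s : S, CAlg.IsUniversallyCatenary (S.presheaf.stalk s))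
    (h3 : ∀ S' ∈ irreducibleComponents (S : Type u), ∀ s ∈ S', IsClosed ({s} : Set S) →
      topologicalKrullDim (↥S' : Type u) = topologicalKrullDim ↥{t : S | t ∈ S' ∧ t ⤳ s})
    (q : Y ⟶ S) [LocallyOfFiniteType q] (f : X ⟶ Y) [LocallyOfFiniteType (f ≫ q)]
    [IrreducibleSpace X] [IrreducibleSpace Y] [IsDominant f] :
    topologicalKrullDim (X : Type u) =
      topologicalKrullDim (Y : Type u) + topologicalKrullDim ↥(f.fiber (genericPoint Y)) := by
  haveI : LocallyOfFiniteType f := locallyOfFiniteType_of_comp f q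
  have hη : f (genericPoint X) = genericPoint Y := Unibranch.map_genericPoint_of_isDominant f
  obtain ⟨s, hs, hsc⟩ := nonempty_inter_closedPoints
    (Z := closure ({q (genericPoint Y)} : Set S)) ⟨_, subset_closure rfl⟩ isClosed_closure.isLocallyClosed
  have hs' : q (genericPoint Y) ⤳ s := specializes_iff_mem_closure.2 hs
  have hX : (f ≫ q) (genericPoint X) = q (genericPoint Y) := by
    rw [Scheme.Hom.comp_apply, hη]
  rw [dim_irreducible h2 h3 q hs' hsc, dim_irreducible h2 h3 (f ≫ q) (hX ▸ hs') hsc,
    Chevalley.fiber_dim_eq_generic f, trdAt_trans f q, hX]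
  rw [show DimLib.trdegHom (f.residueFieldMap (genericPoint X)).hom = trdAt f (genericPoint X) from rfl,
    hη]
  norm_cast
  rw [add_assoc]

end Groth.Agent.EGA43.DimFormula
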