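import Groth.Agent.EGA43.DimFormula.LocalDimJacobson
import Groth.Agent.Props12.FinLocFree
import Groth.Agent.InvLib.DepthLocalize
import Groth.Agent.AssSch12.Ass
import Groth.Agent.S9390
import Groth.Agent.Coherent.FiniteType

/-!
# The support of a stalk of a coherent module
-/

set_option autoImplicit false
set_option backward.isDefEq.respectTransparency false
set_option linter.style.haveILetI false

universe u

open CategoryTheory CategoryTheory.Limits AlgebraicGeometry TopologicalSpace IsLocalRing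

namespace Groth.Agent.EGA43.DimFormula

open Groth.Agent FlatMorWeight Groth.Agent.QCohLoc Groth.Agent.AssSch12

variable {X : Scheme.{u}}

theorem mem_support_stalk_iff (M : X.Modules) [M.IsQuasicoherent] (x : X)
    (P : PrimeSpectrum (X.presheaf.stalk x)) :
    P ∈ Module.support (X.presheaf.stalk x) (M.presheaf.stalk x) ↔ toPt x P ∈ CohB1.support M := by
  obtain ⟨U, hU, hx, -⟩ := exists_isAffineOpen_mem_and_subset (x := x) (U := ⊤) (Set.mem_univ _)
  letI := TopCat.Presheaf.algebra_section_stalk X.presheaf (⟨x, hx⟩ : U)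
  haveI := hU.isLocalization_stalk ⟨x, hx⟩
  letI : Module Γ(X, U) (M.presheaf.stalk x) :=
    Module.compHom _ (algebraMap Γ(X, U) (X.presheaf.stalk x))
  haveI : IsScalarTower Γ(X, U) (X.presheaf.stalk x) (M.presheaf.stalk x) :=
    IsScalarTower.of_compHom _ _ _
  let γ : Γ(M, U) →ₗ[Γ(X, U)] M.presheaf.stalk x :=
    { toFun := M.presheaf.germ U x hx
      map_add' := fun a b => map_add _ a b
      map_smul' := fun r m => germ_smul' M hx r m }
  haveI : IsLocalizedModule (primeAt hU hx).primeCompl γ := by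
    refine ⟨fun ⟨r, hr⟩ => ?_, fun z => ?_, fun {a b} hab => ?_⟩
    · rw [Module.End.isUnit_iff]
      have hu : IsUnit (algebraMap Γ(X, U) (X.presheaf.stalk x) r) :=
        IsLocalization.map_units (X.presheaf.stalk x) (⟨r, hr⟩ : (primeAt hU hx).primeCompl)
      exact hu.smul_bijective
    · obtain ⟨f, m, hf, hm⟩ := exists_smul_stalk_eq_germ M hU hx z
      exact ⟨⟨m, ⟨f, (notMem_primeAt_iff hU hx f).2 hf⟩⟩, hm⟩
    · obtain ⟨f, hf, hfm⟩ := exists_smul_eq_zero_of_germ M hU hx (a - b) (by
        rw [map_sub]; exact sub_eq_zero.2 hab)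
      exact ⟨⟨f, (notMem_primeAt_iff hU hx f).2 hf⟩, sub_eq_zero.1 ((smul_sub f a b).symm.trans hfm)⟩
  have hpt : hU.fromSpec (PrimeSpectrum.comap (algebraMap Γ(X, U) (X.presheaf.stalk x)) P) = toPt x P := by
    rw [toPt, ← hU.fromSpecStalk_eq_fromSpecStalk hx]
    rfl
  have hmem : toPt x P ∈ U := (toPt_specializes x P).mem_open U.isOpen hx
  have hprime : hU.primeIdealOf ⟨toPt x P, hmem⟩ =
      PrimeSpectrum.comap (algebraMap Γ(X, U) (X.presheaf.stalk x)) P :=
    hU.fromSpec.isOpenEmbedding.injective ((hU.fromSpec_primeIdealOf _).trans hpt.symm)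
  rw [InvLib.mem_support_iff_of_isLocalizedModule (primeAt hU hx).primeCompl _ γ, ← hprime]
  exact Groth.Agent.S9390.result X M inferInstance ⟨U, hU⟩ _ hmem

theorem supportDim_stalk_eq (M : X.Modules) (hM : Coh.IsCoh M) (x : X) :
    Module.supportDim (X.presheaf.stalk x) (M.presheaf.stalk x) =
      topologicalKrullDim ↥{t : X | t ∈ CohB1.support M ∧ t ⤳ x} := by
  haveI : M.IsQuasicoherent := hM.1
  haveI := Props12.finite_stalk_of_isFT M hM.2 x
  rw [Module.supportDim_eq_ringKrullDim_quotient_annihilator]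
  let I := Module.annihilator (X.presheaf.stalk x) (M.presheaf.stalk x)
  have hj : Topology.IsEmbedding (fun T : PrimeSpectrum (X.presheaf.stalk x ⧸ I) =>
      toPt x (PrimeSpectrum.comap (Ideal.Quotient.mk I) T)) :=
    (X.fromSpecStalk x).isEmbedding.comp
      (PrimeSpectrum.isClosedEmbedding_comap_of_surjective _ _ Ideal.Quotient.mk_surjective).isEmbedding
  refine (topologicalKrullDim_of_range _ hj _ ?_).symm
  show Set.range (toPt x ∘ PrimeSpectrum.comap (Ideal.Quotient.mk I)) = _
  rw [Set.range_comp, _root_.range_comap_of_surjective _ _ Ideal.Quotient.mk_surjective, Ideal.mk_ker,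
    ← Module.support_eq_zeroLocus]
  ext t
  constructor
  · rintro ⟨P, hP, rfl⟩
    exact ⟨(mem_support_stalk_iff M x P).1 hP, toPt_specializes x P⟩
  · rintro ⟨ht, htx⟩
    obtain ⟨P, rfl⟩ := exists_toPt htx
    exact ⟨P, (mem_support_stalk_iff M x P).2 ht, rfl⟩

end Groth.Agent.EGA43.DimFormula
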