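import Groth.Agent.EGA43.Chevalley.DimOne
import Groth.Agent.CAlgH3.Altitude
import Groth.Agent.CAlgH3.CMPolynomial
import Groth.Agent.CAlgMisc2.CatenaryLocal

/-!
# The dimension formula for local algebras essentially of finite type (EGA IV 5.5.8, 5.6.1)
-/

set_option autoImplicit false
set_option backward.isDefEq.respectTransparency false
set_option linter.style.haveILetI false

universe u

open IsLocalRing

namespace Groth.Agent.EGA43.DimFormula

open Groth.Agent

theorem isUniversallyCatenary_quotient {A : Type u} [CommRing A] (h : CAlg.IsUniversallyCatenary A)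
    (I : Ideal A) : CAlg.IsUniversallyCatenary (A ⧸ I) := by
  haveI := h.1
  refine ⟨inferInstance, fun S _ _ hS => ?_⟩
  let _ : Algebra A S := ((algebraMap (A ⧸ I) S).comp (Ideal.Quotient.mk I)).toAlgebra
  haveI : IsScalarTower A (A ⧸ I) S := .of_algebraMap_eq' rfl
  exact h.2 S (Algebra.FiniteType.trans (S := A ⧸ I) inferInstance hS)

/-- The numerical form of `DimLib.height_add_trdeg_le`. -/
theorem cast_le {a b : ℕ∞} {c d : Cardinal.{u}} (hc : c < Cardinal.aleph0) (hd : d < Cardinal.aleph0)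
    (h : (a : Cardinal.{u}) + c ≤ (b : Cardinal.{u}) + d) :
    (a : WithBot ℕ∞) + (c.toNat : WithBot ℕ∞) ≤ (b : WithBot ℕ∞) + (d.toNat : WithBot ℕ∞) := by
  obtain ⟨c, rfl⟩ := Cardinal.lt_aleph0.1 hc
  obtain ⟨d, rfl⟩ := Cardinal.lt_aleph0.1 hd
  rw [← Cardinal.ofENat_nat, ← Cardinal.ofENat_nat, ← Cardinal.ofENat_add, ← Cardinal.ofENat_add,
    Cardinal.ofENat_le_ofENat] at h
  simp only [Cardinal.toNat_natCast]
  exact_mod_cast h

/-- Some minimal prime computes the dimension. -/
theorem exists_minimalPrime_dim (R : Type u) [CommRing R] [IsLocalRing R] [IsNoetherianRing R] :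
    ∃ P ∈ minimalPrimes R, ringKrullDim (R ⧸ P) = ringKrullDim R := by
  obtain ⟨n, hn⟩ : ∃ n : ℕ, Order.height (closedPoint R) = n := by
    have : (closedPoint R).asIdeal.height ≠ ⊤ :=
      Ideal.height_ne_top (I := maximalIdeal R) (maximalIdeal.isMaximal R).ne_top
    rw [PrimeSpectrum.height_eq_orderHeight (closedPoint R)] at this
    exact ⟨_, (ENat.coe_toNat this).symm⟩
  obtain ⟨l, hl, hln⟩ := Order.exists_series_of_height_eq_coe (closedPoint R) hn
  obtain ⟨P, hP, hPle⟩ := Ideal.exists_minimalPrimes_le (I := (⊥ : Ideal R)) (J := l.head.asIdeal) bot_le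
  refine ⟨P, hP, le_antisymm (ringKrullDim_quotient_le P) ?_⟩
  rw [← maximalIdeal_height_eq_ringKrullDim, show maximalIdeal R = (closedPoint R).asIdeal from rfl,
    PrimeSpectrum.height_eq_orderHeight (closedPoint R), hn, ringKrullDim_quotient]
  let l' : LTSeries ↥(PrimeSpectrum.zeroLocus (P : Set R)) := LTSeries.mk l.length
    (fun i => ⟨l i, (PrimeSpectrum.mem_zeroLocus _ _).2 (hPle.trans (LTSeries.head_le l i))⟩)
    (fun a b h => LTSeries.strictMono l h)
  have h2 := Order.LTSeries.length_le_krullDim l'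
  simp only [l', LTSeries.mk] at h2
  rw [hln] at h2
  exact_mod_cast h2

/-- The dimension inequality and formula for a local extension of domains. -/
theorem domain_formula {A B : Type u} [CommRing A] [IsDomain A] [IsNoetherianRing A] [IsLocalRing A]
    [CommRing B] [IsDomain B] [IsLocalRing B] [Algebra A B] [Algebra.EssFiniteType A B]
    [IsLocalHom (algebraMap A B)] [FaithfulSMul A B] :
    (ringKrullDim B + (FibDepth.trd A (closedPoint B) : WithBot ℕ∞) ≤
        ringKrullDim A + (FibDepth.trd A (⟨⊥, Ideal.isPrime_bot⟩ : PrimeSpectrum B) : WithBot ℕ∞)) ∧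
      (CAlg.IsUniversallyCatenary A →
        ringKrullDim B + (FibDepth.trd A (closedPoint B) : WithBot ℕ∞) =
          ringKrullDim A + (FibDepth.trd A (⟨⊥, Ideal.isPrime_bot⟩ : PrimeSpectrum B) : WithBot ℕ∞)) := by
  let R := Algebra.EssFiniteType.subalgebra A B
  let q : Ideal R := (maximalIdeal B).comap (algebraMap R B)
  haveI : IsLocalization.AtPrime B q := by
    have h : Algebra.EssFiniteType.submonoid A B = q.primeCompl := by
      ext x
      show IsUnit (algebraMap R B x) ↔ x ∉ q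
      rw [Ideal.mem_comap, mem_maximalIdeal, mem_nonunits_iff, not_not]
    have h2 : IsLocalization (Algebra.EssFiniteType.submonoid A B) B := inferInstance
    rwa [h] at h2
  haveI : IsDomain R := inferInstance
  haveI : FaithfulSMul A R := (faithfulSMul_iff_algebraMap_injective _ _).2 fun a b h =>
    FaithfulSMul.algebraMap_injective A B (congrArg Subtype.val h)
  haveI : q.LiesOver (maximalIdeal A) := ⟨by
    rw [Ideal.under_def, Ideal.comap_comap]
    exact (maximalIdeal_comap (algebraMap A B)).symm⟩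
  let φ := IsScalarTower.toAlgHom A R B
  have hφ : φ.toRingHom.SurjectiveOnStalks :=
    RingHom.surjectiveOnStalks_of_isLocalization (M := q.primeCompl) _
  let q' : PrimeSpectrum R := ⟨q, inferInstance⟩
  let η : PrimeSpectrum R := ⟨⊥, Ideal.isPrime_bot⟩
  have ht : FibDepth.trd A (closedPoint B) = (Algebra.trdeg (A ⧸ maximalIdeal A) (R ⧸ q)).toNat := by
    rw [← FibDepth.trd_comap_of_surjectiveOnStalks φ hφ]
    exact Chevalley.trd_eq_trdeg_quotient (maximalIdeal A) q'
  have hd : FibDepth.trd A (⟨⊥, Ideal.isPrime_bot⟩ : PrimeSpectrum B) = (Algebra.trdeg A R).toNat := by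
    rw [← FibDepth.trd_comap_of_surjectiveOnStalks φ hφ]
    have hη : PrimeSpectrum.comap φ.toRingHom (⟨⊥, Ideal.isPrime_bot⟩ : PrimeSpectrum B) = η :=
      PrimeSpectrum.ext (Ideal.comap_bot_of_injective _ Subtype.val_injective)
    rw [hη]
    haveI : η.asIdeal.LiesOver (⊥ : Ideal A) :=
      ⟨(Ideal.comap_bot_of_injective _ (FaithfulSMul.algebraMap_injective A R)).symm⟩
    rw [Chevalley.trd_eq_trdeg_quotient (⊥ : Ideal A) η]
    haveI : FaithfulSMul (A ⧸ (⊥ : Ideal A)) (R ⧸ η.asIdeal) :=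
      (faithfulSMul_iff_algebraMap_injective _ _).2 (Ideal.quotientMap_injective'
        (by rw [Ideal.comap_bot_of_injective _ (FaithfulSMul.algebraMap_injective A R)]))
    congr 1
    exact (Chevalley.trdeg_eq_of_ringEquiv (RingEquiv.quotientBot A).symm (RingEquiv.quotientBot R).symm
      rfl).symm
  have hht : ringKrullDim B = (q.height : WithBot ℕ∞) := IsLocalization.AtPrime.ringKrullDim_eq_height q B
  have hA : ringKrullDim A = ((maximalIdeal A).height : WithBot ℕ∞) :=
    (maximalIdeal_height_eq_ringKrullDim).symm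
  haveI : Algebra.FiniteType (A ⧸ maximalIdeal A) (R ⧸ q) :=
    Algebra.FiniteType.of_restrictScalars_finiteType A _ _
  have h1 : Algebra.trdeg (A ⧸ maximalIdeal A) (R ⧸ q) < Cardinal.aleph0 :=
    trdeg_lt_aleph0_of_finiteType
  have h2 : Algebra.trdeg A R < Cardinal.aleph0 := trdeg_lt_aleph0_of_finiteType
  rw [ht, hd, hht, hA]
  refine ⟨cast_le h1 h2 (DimLib.height_add_trdeg_le (maximalIdeal A) q), fun hcat => ?_⟩
  have heq := CAlgH3.Altitude.main A R q fun A' hA' m' _ _ =>
    CAlgMisc2.isCatenary_of_isLocalization m'.primeCompl _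
      (hcat.2 A' ((Subalgebra.fg_iff_finiteType A').1 hA'))
  exact le_antisymm (cast_le h1 h2 heq.le) (cast_le h2 h1 heq.ge)

/-- The dimension inequality and formula along a prime of the source. -/
theorem prime_formula {A B : Type u} [CommRing A] [IsNoetherianRing A] [IsLocalRing A]
    [CommRing B] [IsLocalRing B] [Algebra A B] [Algebra.EssFiniteType A B]
    [IsLocalHom (algebraMap A B)] (P : PrimeSpectrum B) :
    (ringKrullDim (B ⧸ P.asIdeal) + (FibDepth.trd A (closedPoint B) : WithBot ℕ∞) ≤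
        ringKrullDim (A ⧸ P.asIdeal.comap (algebraMap A B)) + (FibDepth.trd A P : WithBot ℕ∞)) ∧
      (CAlg.IsUniversallyCatenary (A ⧸ P.asIdeal.comap (algebraMap A B)) →
        ringKrullDim (B ⧸ P.asIdeal) + (FibDepth.trd A (closedPoint B) : WithBot ℕ∞) =
          ringKrullDim (A ⧸ P.asIdeal.comap (algebraMap A B)) + (FibDepth.trd A P : WithBot ℕ∞)) := by
  let p := P.asIdeal.comap (algebraMap A B)
  haveI : P.asIdeal.LiesOver p := ⟨rfl⟩
  haveI : FaithfulSMul (A ⧸ p) (B ⧸ P.asIdeal) :=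
    (faithfulSMul_iff_algebraMap_injective _ _).2 (Ideal.quotientMap_injective' le_rfl)
  haveI : IsLocalRing (A ⧸ p) := .of_surjective' (Ideal.Quotient.mk p) Ideal.Quotient.mk_surjective
  haveI : IsLocalRing (B ⧸ P.asIdeal) :=
    .of_surjective' (Ideal.Quotient.mk P.asIdeal) Ideal.Quotient.mk_surjective
  haveI : IsScalarTower A (A ⧸ p) (B ⧸ P.asIdeal) := .of_algebraMap_eq fun _ => rfl
  haveI : Algebra.EssFiniteType B (B ⧸ P.asIdeal) := inferInstance
  haveI : Algebra.EssFiniteType A (B ⧸ P.asIdeal) := Algebra.EssFiniteType.comp A B _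
  haveI : Algebra.EssFiniteType (A ⧸ p) (B ⧸ P.asIdeal) := Algebra.EssFiniteType.of_comp A _ _
  haveI hloc : IsLocalHom (algebraMap (A ⧸ p) (B ⧸ P.asIdeal)) := by
    refine ⟨fun a ha => ?_⟩
    obtain ⟨a, rfl⟩ := Ideal.Quotient.mk_surjective a
    haveI : IsLocalHom (Ideal.Quotient.mk P.asIdeal) := .of_surjective _ Ideal.Quotient.mk_surjective
    exact (isUnit_of_map_unit (algebraMap A B) a
      (isUnit_of_map_unit (Ideal.Quotient.mk P.asIdeal) _ ha)).map (Ideal.Quotient.mk p)
  have key := domain_formula (A := A ⧸ p) (B := B ⧸ P.asIdeal)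
  let π := IsScalarTower.toAlgHom A B (B ⧸ P.asIdeal)
  have hπ : π.toRingHom.SurjectiveOnStalks :=
    RingHom.surjectiveOnStalks_of_surjective Ideal.Quotient.mk_surjective
  have htrd : ∀ Q : PrimeSpectrum (B ⧸ P.asIdeal),
      FibDepth.trd (A ⧸ p) Q = FibDepth.trd A (PrimeSpectrum.comap π.toRingHom Q) := by
    intro Q
    rw [FibDepth.trd_comap_of_surjectiveOnStalks π hπ]
    let r := Q.asIdeal.comap (algebraMap A (B ⧸ P.asIdeal))
    let r' := Q.asIdeal.comap (algebraMap (A ⧸ p) (B ⧸ P.asIdeal))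
    haveI : Q.asIdeal.LiesOver r := ⟨rfl⟩
    haveI : Q.asIdeal.LiesOver r' := ⟨rfl⟩
    have hr : r = r'.comap (Ideal.Quotient.mk p) := by
      rw [Ideal.comap_comap]; rfl
    have hle : p ≤ r := hr ▸ (Ideal.mk_ker (I := p)).ge.trans (Ideal.ker_le_comap _)
    rw [Chevalley.trd_eq_trdeg_quotient r Q, Chevalley.trd_eq_trdeg_quotient r' Q]
    congr 1
    have hr' : r' = r.map (Ideal.Quotient.mk p) := by
      rw [hr, Ideal.map_comap_of_surjective _ Ideal.Quotient.mk_surjective]
    let eA : A ⧸ r ≃+* (A ⧸ p) ⧸ r' :=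
      (DoubleQuot.quotQuotEquivQuotOfLE hle).symm.trans (Ideal.quotEquivOfEq hr'.symm)
    haveI : FaithfulSMul ((A ⧸ p) ⧸ r') ((B ⧸ P.asIdeal) ⧸ Q.asIdeal) :=
      (faithfulSMul_iff_algebraMap_injective _ _).2 (Ideal.quotientMap_injective' le_rfl)
    refine (Chevalley.trdeg_eq_of_ringEquiv eA (RingEquiv.refl _) (RingHom.ext fun a => ?_)).symm
    obtain ⟨a, rfl⟩ := Ideal.Quotient.mk_surjective a
    rfl
  have hP : PrimeSpectrum.comap π.toRingHom (⟨⊥, Ideal.isPrime_bot⟩ : PrimeSpectrum (B ⧸ P.asIdeal)) = P :=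
    PrimeSpectrum.ext Ideal.mk_ker
  have hm : PrimeSpectrum.comap π.toRingHom (closedPoint (B ⧸ P.asIdeal)) = closedPoint B := by
    refine PrimeSpectrum.ext ?_
    haveI : IsLocalHom π.toRingHom :=
      IsLocalHom.of_surjective (Ideal.Quotient.mk P.asIdeal) Ideal.Quotient.mk_surjective
    exact maximalIdeal_comap π.toRingHom
  rw [htrd, htrd, hP, hm] at key
  exact key

/-- `dim B/mB + trd(closed point) = max trd` over the closed fibre: the inequality part. -/
theorem fibre_prime_formula {A B : Type u} [CommRing A] [IsNoetherianRing A] [IsLocalRing A]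
    [CommRing B] [IsLocalRing B] [Algebra A B] [Algebra.EssFiniteType A B]
    [IsLocalHom (algebraMap A B)] (P : PrimeSpectrum B)
    (hP : P.asIdeal.comap (algebraMap A B) = maximalIdeal A) :
    ringKrullDim (B ⧸ P.asIdeal) + (FibDepth.trd A (closedPoint B) : WithBot ℕ∞) =
      (FibDepth.trd A P : WithBot ℕ∞) := by
  haveI : (P.asIdeal.comap (algebraMap A B)).IsMaximal := hP ▸ maximalIdeal.isMaximal A
  let _ := Ideal.Quotient.field (P.asIdeal.comap (algebraMap A B))
  haveI := CAlgH3.isCohenMacaulayRing_of_isRegularRing (R := A ⧸ P.asIdeal.comap (algebraMap A B))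
  rw [(prime_formula P).2 (CAlgH3.isUniversallyCatenary_of_cm), ringKrullDim_eq_zero_of_field, zero_add]

end Groth.Agent.EGA43.DimFormula
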