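import Groth.Agent.EGA43.DimFormula.JacobsonDim

/-!
# EGA IV 10.6.2: dense opens of Jacobson biequidimensional schemes
-/

set_option autoImplicit false
set_option backward.isDefEq.respectTransparency false
set_option linter.style.haveILetI false

universe u

open CategoryTheory CategoryTheory.Limits AlgebraicGeometry TopologicalSpace IsLocalRing

namespace Groth.Agent.EGA43.DimFormula

open Groth.Agent FlatMorWeight

theorem mem_of_isMaximalPt_of_dense {X : Scheme.{u}} [IsLocallyNoetherian X] {η : X} (hη : IsMaximalPt η)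
    {U : Set X} (hU : IsOpen U) (hd : Dense U) : η ∈ U := by
  obtain ⟨W, hηW, hW⟩ := exists_nhd_maximalPt_specializes η
  obtain ⟨v, hvW, hvU⟩ := hd.inter_open_nonempty W W.isOpen ⟨η, hηW⟩
  obtain ⟨ξ, hξ, C, hC, hgen⟩ := exists_isMaximalPt_specializes v
  have hξm := isMaximalPt_of_isGenericPoint hC hgen
  rw [← hη ξ (hW ξ (hξ.mem_open W.isOpen hvW) hξm)]
  exact hξ.mem_open hU hvU

theorem dim_eq_of_dense_open (X : Scheme.{u}) [IsLocallyNoetherian X] [JacobsonSpace X]
    (h3 : ∀ X' ∈ irreducibleComponents (X : Type u), ∀ x ∈ X', IsClosed ({x} : Set X) →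
      topologicalKrullDim (↥X' : Type u) = topologicalKrullDim ↥{t : X | t ∈ X' ∧ t ⤳ x})
    (U : Set X) (hU : IsOpen U) (hd : Dense U) :
    topologicalKrullDim ↥U = topologicalKrullDim X := by
  refine le_antisymm (topologicalKrullDim_subspace_le X U) ?_
  rw [topologicalKrullDim_eq_iSup_closed]
  refine iSup_le fun c => ?_
  obtain ⟨η, hη, hηc, hcod⟩ := exists_cod_eq c.1
  obtain ⟨η', hη', W, hW, hgen⟩ := exists_isMaximalPt_specializes η
  obtain rfl := hη η' hη'
  obtain ⟨d, hd', hdc⟩ := nonempty_inter_closedPoints (Z := U ∩ closure ({η'} : Set X))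
    ⟨η', mem_of_isMaximalPt_of_dense hη hU hd, subset_closure rfl⟩
    (hU.isLocallyClosed.inter isClosed_closure.isLocallyClosed)
  have hset : ∀ s, {t : X | t ∈ W ∧ t ⤳ s} = {t : X | η' ⤳ t ∧ t ⤳ s} := fun s => by
    ext t; exact and_congr_left fun _ => hgen.specializes_iff_mem.symm
  have hηd : η' ⤳ d := specializes_iff_mem_closure.2 hd'.2
  have h1 := (h3 W hW c.1 (hgen.specializes_iff_mem.1 hηc) c.2).symm.trans
    (h3 W hW d (hgen.specializes_iff_mem.1 hηd) hdc)
  rw [hset, hset, interval_eq_cod hηc, interval_eq_cod hηd] at h1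
  rw [dimAt_eq, ← hcod, h1, ← interval_eq_cod hηd]
  let i : ↥{t : X | η' ⤳ t ∧ t ⤳ d} → ↥U := Set.inclusion fun t ht => ht.2.mem_open hU hd'.1
  exact Topology.IsInducing.topologicalKrullDim_le (f := i) (Topology.IsEmbedding.inclusion _).isInducing

end Groth.Agent.EGA43.DimFormula
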