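import Groth.Agent.EGA43.DimFormula.JacobsonDim

/-!
# EGA IV 10.6.4: local dimension in Jacobson universally catenary schemes
-/

set_option autoImplicit false
set_option backward.isDefEq.respectTransparency false
set_option linter.style.haveILetI false

universe u

open CategoryTheory CategoryTheory.Limits AlgebraicGeometry TopologicalSpace IsLocalRing

namespace Groth.Agent.EGA43.DimFormula

open Groth.Agent FlatMorWeight

theorem topologicalKrullDim_eq_of_range {A B : Type u} [TopologicalSpace A] [TopologicalSpace B] (j : A → B)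
    (hj : Topology.IsEmbedding j) (s : Set B) (hs : Set.range j = s) :
    topologicalKrullDim ↥s = topologicalKrullDim A := by
  subst hs
  exact (IsHomeomorph.topologicalKrullDim_eq _ hj.toHomeomorph.isHomeomorph).symm

theorem topologicalKrullDim_generizations {X : Scheme.{u}} (x : X) :
    topologicalKrullDim ↥{t : X | t ⤳ x} = ringKrullDim (X.presheaf.stalk x) :=
  topologicalKrullDim_of_range _ (X.fromSpecStalk x).isEmbedding _ (Scheme.range_fromSpecStalk)

section JacobsonBase

variable {Z S : Scheme.{u}} [IsLocallyNoetherian S] [JacobsonSpace S]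
  (h2 : ∀ s : S, CAlg.IsUniversallyCatenary (S.presheaf.stalk s))
  (h3 : ∀ S' ∈ irreducibleComponents (S : Type u), ∀ s ∈ S', IsClosed ({s} : Set S) →
    topologicalKrullDim (↥S' : Type u) = topologicalKrullDim ↥{t : S | t ∈ S' ∧ t ⤳ s})
  (p : Z ⟶ S) [LocallyOfFiniteType p]

include h2 p in
omit [JacobsonSpace S] in
theorem cod_add_lft {a b c : Z} (hab : a ⤳ b) (hbc : b ⤳ c) : cod a b + cod b c = cod a c := by
  haveI := LocallyOfFiniteType.isLocallyNoetherian p
  have e1 := eq_formula p hab (h2 _)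
  have e2 := eq_formula p hbc (h2 _)
  have e3 := eq_formula p (hab.trans hbc) (h2 _)
  have e4 := cod_add (hab.map p.continuous) (hbc.map p.continuous) (h2 (p c))
  omega

include h2 h3 p in
theorem cod_closed_lft {a c c' : Z} (h : a ⤳ c) (h' : a ⤳ c') (hc : IsClosed ({c} : Set Z))
    (hc' : IsClosed ({c'} : Set Z)) : cod a c = cod a c' := by
  haveI := LocallyOfFiniteType.isLocallyNoetherian p
  haveI := LocallyOfFiniteType.jacobsonSpace p
  have e1 := eq_formula p h (h2 _)
  have e2 := eq_formula p h' (h2 _)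
  rw [trdAt_eq_zero_of_isClosed p hc, add_zero] at e1
  rw [trdAt_eq_zero_of_isClosed p hc', add_zero] at e2
  have e3 := cod_closed_eq h2 h3 (h.map p.continuous) (h'.map p.continuous)
    (p.closePoints_subset_preimage_closedPoints hc) (p.closePoints_subset_preimage_closedPoints hc')
  omega

include h2 h3 p in
theorem dim_closure_lft {a c : Z} (h : a ⤳ c) (hc : IsClosed ({c} : Set Z)) :
    topologicalKrullDim ↥(closure ({a} : Set Z)) = (cod a c : WithBot ℕ∞) := by
  haveI := LocallyOfFiniteType.isLocallyNoetherian p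
  haveI := LocallyOfFiniteType.jacobsonSpace p
  obtain ⟨W, ι, hι, hW, hrange, hgen⟩ := exists_integral_subscheme a
  haveI : IsLocallyNoetherian W := LocallyOfFiniteType.isLocallyNoetherian ι
  haveI : JacobsonSpace W := LocallyOfFiniteType.jacobsonSpace ι
  rw [topologicalKrullDim_eq_of_range ι ι.isEmbedding _ hrange, topologicalKrullDim_eq_iSup_closed]
  have key : ∀ d : W, IsClosed ({d} : Set W) → ringKrullDim (W.presheaf.stalk d) = (cod a c : WithBot ℕ∞) := by
    intro d hd
    rw [dimAt_eq, ← dimAt_eq_cod_of_irreducible, ← cod_map ι (genericPoint_specializes d), hgen inferInstance]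
    have hd' : IsClosed ({ι d} : Set Z) := by
      simpa using ι.isClosedEmbedding.isClosedMap _ hd
    rw [cod_closed_lft h2 h3 p ?_ h hd' hc]
    exact specializes_iff_mem_closure.2 (hrange.le ⟨d, rfl⟩)
  obtain ⟨w, hw⟩ := hrange.ge (specializes_iff_mem_closure.1 h)
  have hwc : IsClosed ({w} : Set W) := by
    have := hc.preimage ι.continuous
    rwa [← hw, ← Set.image_singleton, Set.preimage_image_eq _ ι.isEmbedding.injective] at this
  haveI : Nonempty {d : W // IsClosed ({d} : Set W)} := ⟨⟨w, hwc⟩⟩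
  simp_rw [fun d : {d : W // IsClosed ({d} : Set W)} => key d.1 d.2]
  exact ciSup_const

include h2 h3 p in
theorem dim_open_inter_closure_lft {a : Z} (U : Z.Opens) (haU : a ∈ U) :
    topologicalKrullDim ↥((U : Set Z) ∩ closure ({a} : Set Z)) =
      topologicalKrullDim ↥(closure ({a} : Set Z)) := by
  haveI := LocallyOfFiniteType.isLocallyNoetherian p
  haveI := LocallyOfFiniteType.jacobsonSpace p
  refine le_antisymm ((Topology.IsEmbedding.inclusion Set.inter_subset_right).isInducing.topologicalKrullDim_le) ?_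
  obtain ⟨d, hd, hdc⟩ := nonempty_inter_closedPoints (Z := (U : Set Z) ∩ closure ({a} : Set Z))
    ⟨a, haU, subset_closure rfl⟩ (U.isOpen.isLocallyClosed.inter isClosed_closure.isLocallyClosed)
  have had : a ⤳ d := specializes_iff_mem_closure.2 hd.2
  rw [dim_closure_lft h2 h3 p had hdc, ← interval_eq_cod had]
  have hsub : {t : Z | a ⤳ t ∧ t ⤳ d} ⊆ (U : Set Z) ∩ closure {a} :=
    fun t ht => ⟨ht.2.mem_open U.isOpen hd.1, specializes_iff_mem_closure.1 ht.1⟩
  exact (Topology.IsEmbedding.inclusion hsub).isInducing.topologicalKrullDim_le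

include h2 h3 p in
/-- EGA IV 10.6.4: the three expressions of the local dimension. -/
theorem localDim_formula (z : Z) :
    FlatMor.localDim Z z =
        topologicalKrullDim ↥(closure ({z} : Set Z)) + ringKrullDim (Z.presheaf.stalk z) ∧
      FlatMor.localDim Z z =
        ⨆ C ∈ {C : Set Z | C ∈ irreducibleComponents Z ∧ z ∈ C}, topologicalKrullDim ↥C ∧
      ∀ U : Set Z, IsOpen U → z ∈ U →
        (∀ C ∈ irreducibleComponents Z, z ∉ C → Disjoint U C) →
        topologicalKrullDim ↥U = FlatMor.localDim Z z := by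
  haveI := LocallyOfFiniteType.isLocallyNoetherian p
  haveI := LocallyOfFiniteType.jacobsonSpace p
  obtain ⟨c, hc, hcc⟩ := nonempty_inter_closedPoints (Z := closure ({z} : Set Z))
    ⟨_, subset_closure rfl⟩ isClosed_closure.isLocallyClosed
  have hzc : z ⤳ c := specializes_iff_mem_closure.2 hc
  obtain ⟨η₀, hη₀, hη₀z, hη₀c⟩ := exists_cod_eq z
  set N : ℕ := cod z c + dimAt z with hN
  have hη : ∀ η, η ⤳ z → topologicalKrullDim ↥(closure ({η} : Set Z)) = ((cod η z + cod z c : ℕ) : WithBot ℕ∞) := by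
    intro η h
    rw [dim_closure_lft h2 h3 p (h.trans hzc) hcc, cod_add_lft h2 p h hzc]
  have hle : ∀ η, η ⤳ z → topologicalKrullDim ↥(closure ({η} : Set Z)) ≤ (N : WithBot ℕ∞) := fun η h => by
    rw [hη η h]
    have := cod_le_dimAt h
    exact_mod_cast (by omega : cod η z + cod z c ≤ N)
  have htop : topologicalKrullDim ↥(closure ({η₀} : Set Z)) = (N : WithBot ℕ∞) := by
    rw [hη _ hη₀z, hη₀c, hN, add_comm]
  have hlow : ∀ U : Z.Opens, z ∈ U → (N : WithBot ℕ∞) ≤ topologicalKrullDim ↥(U : Set Z) := fun U hz => by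
    rw [← htop, ← dim_open_inter_closure_lft h2 h3 p U (hη₀z.mem_open U.isOpen hz)]
    exact (Topology.IsEmbedding.inclusion Set.inter_subset_left).isInducing.topologicalKrullDim_le
  have hup : ∀ U : Z.Opens, (∀ ξ ∈ U, IsMaximalPt ξ → ξ ⤳ z) →
      topologicalKrullDim ↥(U : Set Z) ≤ (N : WithBot ℕ∞) := fun U hU => by
    haveI : IsLocallyNoetherian U.toScheme := LocallyOfFiniteType.isLocallyNoetherian U.ι
    haveI : JacobsonSpace U.toScheme := LocallyOfFiniteType.jacobsonSpace U.ι
    show topologicalKrullDim U.toScheme ≤ _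
    rw [topologicalKrullDim_eq_iSup_closed]
    refine iSup_le fun d => ?_
    rw [ringKrullDim_eq_of_ringEquiv (U.stalkIso d.1).commRingCatIsoToRingEquiv, dimAt_eq]
    have hd : IsClosed ({U.ι d.1} : Set Z) := U.ι.closePoints_subset_preimage_closedPoints d.2
    obtain ⟨η, hη', hηd, e⟩ := exists_cod_eq (U.ι d.1)
    change ((dimAt (U.ι d.1) : ℕ) : WithBot ℕ∞) ≤ _
    rw [← e, ← dim_closure_lft h2 h3 p hηd hd]
    exact hle η (hU η (hηd.mem_open U.isOpen d.1.2) hη')
  have hloc : FlatMor.localDim Z z = (N : WithBot ℕ∞) := by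
    obtain ⟨U, hzU, hU⟩ := exists_nhd_maximalPt_specializes z
    exact le_antisymm (iInf_le_of_le ⟨U, hzU⟩ (hup U hU)) (le_iInf fun V => hlow V.1 V.2)
  refine ⟨?_, ?_, fun U hU hzU hC => ?_⟩
  · rw [hloc, dim_closure_lft h2 h3 p hzc hcc, dimAt_eq, hN, Nat.cast_add]
  · refine le_antisymm ?_ (iSup₂_le fun C hC => ?_)
    · rw [hloc, ← htop]
      refine le_iSup₂_of_le (closure {η₀}) ⟨?_, hη₀z.mem_closure⟩ le_rfl
      obtain ⟨η', h', W, hW, hgen⟩ := exists_isMaximalPt_specializes η₀
      obtain rfl := hη₀ η' h'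
      rwa [hgen.def]
    · obtain ⟨η, hη'⟩ := QuasiSober.sober hC.1.1 (isClosed_of_mem_irreducibleComponents C hC.1)
      rw [hloc, ← hη'.def]
      exact hle η (hη'.specializes hC.2)
  · rw [hloc]
    refine le_antisymm (hup ⟨U, hU⟩ fun ξ hξU hξ => ?_) (hlow ⟨U, hU⟩ hzU)
    obtain ⟨η', h', W, hW, hgen⟩ := exists_isMaximalPt_specializes ξ
    obtain rfl := hξ η' h'
    by_contra hne
    exact Set.disjoint_left.1 (hC W hW fun hzW => hne (hgen.specializes hzW)) hξU hgen.mem

end JacobsonBase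

section SetForm

variable {X Z : Scheme.{u}} (ι : Z ⟶ X) [IsClosedImmersion ι] {Y : Set X} (hrange : Set.range ι = Y)

theorem closure_dim_eq (z : Z) :
    topologicalKrullDim ↥(closure ({ι z} : Set X)) = topologicalKrullDim ↥(closure ({z} : Set Z)) := by
  refine topologicalKrullDim_eq_of_range (ι ∘ Subtype.val) (ι.isEmbedding.comp Topology.IsEmbedding.subtypeVal) _ ?_
  rw [Set.range_comp, Subtype.range_coe_subtype, Set.ofPred_mem_eq, ← Set.image_singleton,
    ι.isClosedEmbedding.closure_image_eq]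

include hrange in
theorem generizations_dim_eq (z : Z) :
    topologicalKrullDim ↥{t : X | t ∈ Y ∧ t ⤳ ι z} = ringKrullDim (Z.presheaf.stalk z) := by
  refine topologicalKrullDim_of_range _ (ι.isEmbedding.comp (Z.fromSpecStalk z).isEmbedding) _ ?_
  rw [Set.range_comp, Scheme.range_fromSpecStalk]
  ext t
  constructor
  · rintro ⟨w, hw, rfl⟩
    exact ⟨hrange.le ⟨w, rfl⟩, hw.map ι.continuous⟩
  · rintro ⟨ht, hts⟩
    obtain ⟨w, rfl⟩ := hrange.ge ht
    exact ⟨w, (ι.isEmbedding.specializes_iff).1 hts, rfl⟩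

/-- The homeomorphism of a subscheme with its underlying set. -/
noncomputable def subschemeHomeo : Z ≃ₜ ↥Y :=
  ι.isEmbedding.toHomeomorph.trans (Homeomorph.setCongr hrange)

theorem coe_subschemeHomeo (z : Z) : ((subschemeHomeo ι hrange z : ↥Y) : X) = ι z := rfl

end SetForm

section Closed

variable {X : Scheme.{u}}

theorem exists_closed_subscheme {Y : Set X} (hY : IsClosed Y) :
    ∃ (Z : Scheme.{u}) (ι : Z ⟶ X) (_ : IsClosedImmersion ι), Set.range ι = Y := by
  refine ⟨_, (Scheme.IdealSheafData.vanishingIdeal (⟨Y, hY⟩ : Closeds X)).subschemeι, inferInstance, ?_⟩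
  rw [Scheme.IdealSheafData.range_subschemeι]
  exact Scheme.IdealSheafData.coe_support_vanishingIdeal _

theorem localDim_set_eq {X S : Scheme.{u}} [IsLocallyNoetherian S] [JacobsonSpace S]
    (h2 : ∀ s : S, CAlg.IsUniversallyCatenary (S.presheaf.stalk s))
    (h3 : ∀ S' ∈ irreducibleComponents (S : Type u), ∀ s ∈ S', IsClosed ({s} : Set S) →
      topologicalKrullDim (↥S' : Type u) = topologicalKrullDim ↥{t : S | t ∈ S' ∧ t ⤳ s})
    (g : X ⟶ S) [LocallyOfFiniteType g] {Y : Set X} (hY : IsClosed Y) (x : X) (hx : x ∈ Y) :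
    FlatMor.localDim ↥Y ⟨x, hx⟩ =
        topologicalKrullDim ↥(closure ({x} : Set X)) + topologicalKrullDim ↥{t : X | t ∈ Y ∧ t ⤳ x} ∧
      FlatMor.localDim ↥Y ⟨x, hx⟩ =
        ⨆ C ∈ {C : Set ↥Y | C ∈ irreducibleComponents ↥Y ∧ (⟨x, hx⟩ : ↥Y) ∈ C}, topologicalKrullDim ↥C ∧
      ∀ U : Set X, IsOpen U → x ∈ U →
        (∀ C ∈ irreducibleComponents ↥Y, (⟨x, hx⟩ : ↥Y) ∉ C → Disjoint (Subtype.val ⁻¹' U) C) →
        topologicalKrullDim ↥(U ∩ Y) = FlatMor.localDim ↥Y ⟨x, hx⟩ := by
  obtain ⟨Z, ι, hι, hrange⟩ := exists_closed_subscheme hY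
  let e := subschemeHomeo ι hrange
  obtain ⟨z, hz⟩ := e.surjective ⟨x, hx⟩
  have hιz : ι z = x := by rw [← coe_subschemeHomeo ι hrange z]; exact congrArg Subtype.val hz
  obtain ⟨h₁, h₂, h₃⟩ := localDim_formula h2 h3 (ι ≫ g) z
  have hloc : FlatMor.localDim ↥Y ⟨x, hx⟩ = FlatMor.localDim Z z := by
    rw [localDim_homeomorph e z, hz]
  have hdim : ∀ C : Set ↥Y, topologicalKrullDim ↥(e ⁻¹' C) = topologicalKrullDim ↥C := fun C =>
    IsHomeomorph.topologicalKrullDim_eq _ (e.sets (s := e ⁻¹' C) (t := C) rfl).isHomeomorph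
  have hcomp : ∀ C ∈ irreducibleComponents ↥Y, e ⁻¹' C ∈ irreducibleComponents Z := fun C hC => by
    obtain ⟨y, hy⟩ := hC.1.nonempty
    exact preimage_mem_irreducibleComponents hC e.isOpenEmbedding ⟨y, hy, e.surjective y⟩
  have hcomp' : ∀ C ∈ irreducibleComponents Z, e.symm ⁻¹' C ∈ irreducibleComponents ↥Y := fun C hC => by
    obtain ⟨y, hy⟩ := hC.1.nonempty
    exact preimage_mem_irreducibleComponents hC e.symm.isOpenEmbedding ⟨y, hy, e.symm.surjective y⟩
  have hzy : e.symm ⟨x, hx⟩ = z := by rw [← hz, e.symm_apply_apply]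
  refine ⟨?_, ?_, fun U hU hxU hC => ?_⟩
  · rw [hloc, h₁, ← closure_dim_eq ι z, ← generizations_dim_eq ι hrange z, hιz]
  · rw [hloc, h₂]
    refine le_antisymm (iSup₂_le fun C hC => ?_) (iSup₂_le fun C hC => ?_)
    · refine le_iSup₂_of_le (e.symm ⁻¹' C) ⟨hcomp' C hC.1, ?_⟩ (le_of_eq ?_)
      · rw [Set.mem_preimage, hzy]; exact hC.2
      · rw [← hdim, ← Set.preimage_comp, e.symm_comp_self, Set.preimage_id]
    · refine le_iSup₂_of_le (e ⁻¹' C) ⟨hcomp C hC.1, ?_⟩ (hdim C).ge
      rw [Set.mem_preimage, hz]; exact hC.2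
  · rw [hloc, ← h₃ (ι ⁻¹' U) (hU.preimage ι.continuous) (by rwa [Set.mem_preimage, hιz]) fun C hC' hne => ?_]
    · refine topologicalKrullDim_eq_of_range (ι ∘ Subtype.val)
        (ι.isEmbedding.comp Topology.IsEmbedding.subtypeVal) _ ?_
      rw [Set.range_comp, Subtype.range_coe, Set.image_preimage_eq_inter_range, hrange]
    · refine Set.disjoint_left.2 fun w hwU hwC => ?_
      refine Set.disjoint_left.1 (hC _ (hcomp' C hC') (by rwa [Set.mem_preimage, hzy]))
        (show e w ∈ Subtype.val ⁻¹' U from hwU) ?_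
      show e.symm (e w) ∈ C
      rwa [e.symm_apply_apply]

end Closed

end Groth.Agent.EGA43.DimFormula
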