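import Groth.Agent.EGA43.DimFormula.Points

/-!
# The numerical invariants `dim O_{X,x}`, `codim(closure ξ, x)` and their relations
-/

set_option autoImplicit false
set_option backward.isDefEq.respectTransparency false
set_option linter.style.haveILetI false

universe u

open CategoryTheory CategoryTheory.Limits AlgebraicGeometry TopologicalSpace IsLocalRing

namespace Groth.Agent.EGA43.DimFormula

open Groth.Agent FlatMorWeight

/-- The dimension of a ring as a natural number. -/
noncomputable def natDim (R : Type u) [CommRing R] : ℕ := ((ringKrullDim R).unbotD 0).toNat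

theorem ringKrullDim_eq_natDim (R : Type u) [CommRing R] [IsLocalRing R] [IsNoetherianRing R] :
    ringKrullDim R = (natDim R : WithBot ℕ∞) := by
  have h : ringKrullDim R = ((maximalIdeal R).height : WithBot ℕ∞) := maximalIdeal_height_eq_ringKrullDim.symm
  obtain ⟨n, hn⟩ := ENat.ne_top_iff_exists.1 (Ideal.height_ne_top (I := maximalIdeal R) (maximalIdeal.isMaximal R).ne_top)
  rw [natDim, h, ← hn]
  simp

theorem natDim_le_of_surjective {R S : Type u} [CommRing R] [CommRing S] [IsLocalRing R] [IsNoetherianRing R]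
    [IsLocalRing S] (φ : R →+* S) (hφ : Function.Surjective φ) : natDim S ≤ natDim R := by
  haveI := isNoetherianRing_of_surjective R S φ hφ
  have h := ringKrullDim_le_of_surjective φ hφ
  rw [ringKrullDim_eq_natDim, ringKrullDim_eq_natDim] at h
  exact_mod_cast h

theorem isLocalRing_quotient {R : Type u} [CommRing R] [IsLocalRing R] (I : Ideal R) (hI : I ≠ ⊤) :
    IsLocalRing (R ⧸ I) :=
  haveI : Nontrivial (R ⧸ I) := Ideal.Quotient.nontrivial_iff.2 hI
  .of_surjective' (Ideal.Quotient.mk I) Ideal.Quotient.mk_surjective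

theorem natDim_quotient_lt {R : Type u} [CommRing R] [IsLocalRing R] [IsNoetherianRing R] (q p : PrimeSpectrum R)
    (h : q < p) : natDim (R ⧸ p.asIdeal) < natDim (R ⧸ q.asIdeal) := by
  haveI := isLocalRing_quotient p.asIdeal p.isPrime.ne_top
  haveI := isLocalRing_quotient q.asIdeal q.isPrime.ne_top
  obtain ⟨r, hr, hrq⟩ := SetLike.exists_of_lt (show q.asIdeal < p.asIdeal from h)
  have hr0 : Ideal.Quotient.mk q.asIdeal r ∈ nonZeroDivisors (R ⧸ q.asIdeal) :=
    mem_nonZeroDivisors_iff_ne_zero.2 fun h => hrq (Ideal.Quotient.eq_zero_iff_mem.1 h)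
  have h1 := ringKrullDim_quotient_succ_le_of_nonZeroDivisor hr0
  let f : (R ⧸ q.asIdeal) ⧸ Ideal.span {Ideal.Quotient.mk q.asIdeal r} →+* R ⧸ p.asIdeal :=
    Ideal.Quotient.lift _ (Ideal.Quotient.factor (show q.asIdeal ≤ p.asIdeal from h.le)) fun a ha => by
      obtain ⟨c, rfl⟩ := Ideal.mem_span_singleton'.1 ha
      rw [map_mul, Ideal.Quotient.factor_mk, Ideal.Quotient.eq_zero_iff_mem.2 hr, mul_zero]
  have hf : Function.Surjective f :=
    Ideal.Quotient.lift_surjective_of_surjective _ _ (Ideal.Quotient.factor_surjective h.le)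
  have h2 := (add_le_add (ringKrullDim_le_of_surjective f hf) le_rfl).trans h1
  rw [ringKrullDim_eq_natDim, ringKrullDim_eq_natDim] at h2
  exact_mod_cast h2

variable {X Y : Scheme.{u}} (f : X ⟶ Y)

/-- `dim O_{X,x}`. -/
noncomputable def dimAt (x : X) : ℕ := natDim (X.presheaf.stalk x)

open Classical in
/-- For `ξ ⤳ x`, the dimension of the local ring at `x` of the closure of `ξ`. -/
noncomputable def cod (ξ x : X) : ℕ :=
  if h : ξ ⤳ x then natDim (X.presheaf.stalk x ⧸ (exists_toPt h).choose.asIdeal) else 0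

theorem cod_toPt (x : X) (P : PrimeSpectrum (X.presheaf.stalk x)) :
    cod (toPt x P) x = natDim (X.presheaf.stalk x ⧸ P.asIdeal) := by
  rw [cod, dif_pos (toPt_specializes x P)]
  exact congrArg (fun Q : PrimeSpectrum (X.presheaf.stalk x) => natDim (X.presheaf.stalk x ⧸ Q.asIdeal))
    (toPt_injective x (exists_toPt (toPt_specializes x P)).choose_spec)

theorem dimAt_eq [IsLocallyNoetherian X] (x : X) :
    ringKrullDim (X.presheaf.stalk x) = (dimAt x : WithBot ℕ∞) := ringKrullDim_eq_natDim _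

theorem cod_le_dimAt [IsLocallyNoetherian X] {ξ x : X} (h : ξ ⤳ x) : cod ξ x ≤ dimAt x := by
  obtain ⟨P, rfl⟩ := exists_toPt h
  rw [cod_toPt]
  haveI := isLocalRing_quotient P.asIdeal P.isPrime.ne_top
  exact natDim_le_of_surjective _ Ideal.Quotient.mk_surjective

theorem exists_cod_eq [IsLocallyNoetherian X] (x : X) :
    ∃ ξ, IsMaximalPt ξ ∧ ξ ⤳ x ∧ cod ξ x = dimAt x := by
  obtain ⟨P, hP, hdim⟩ := exists_minimalPrime_dim (X.presheaf.stalk x)
  let P' : PrimeSpectrum (X.presheaf.stalk x) := ⟨P, hP.isPrime⟩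
  refine ⟨toPt x P', (mem_minimalPrimes_iff x P').1 hP, toPt_specializes x P', ?_⟩
  rw [cod_toPt]
  haveI := isLocalRing_quotient P hP.isPrime.ne_top
  rw [ringKrullDim_eq_natDim, ringKrullDim_eq_natDim] at hdim
  exact_mod_cast hdim

theorem cod_lt_cod [IsLocallyNoetherian X] {ξ' ξ x : X} (h' : ξ' ⤳ ξ) (h : ξ ⤳ x) (hne : ξ' ≠ ξ) :
    cod ξ x < cod ξ' x := by
  obtain ⟨P, rfl⟩ := exists_toPt h
  obtain ⟨Q, rfl⟩ := exists_toPt (h'.trans h)
  rw [cod_toPt, cod_toPt]
  exact natDim_quotient_lt Q P (lt_of_le_of_ne ((toPt_specializes_iff x Q P).1 h')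
    fun e => hne (congrArg (toPt x) e))

theorem isMaximalPt_of_cod_eq [IsLocallyNoetherian X] {ξ x : X} (h : ξ ⤳ x) (hc : dimAt x ≤ cod ξ x) :
    IsMaximalPt ξ := by
  intro z hz
  by_contra hne
  have h1 := cod_lt_cod hz h hne
  have h2 := cod_le_dimAt (hz.trans h)
  omega

theorem cod_self [IsLocallyNoetherian X] (x : X) : cod x x = 0 := by
  conv_lhs => rw [← toPt_closedPoint x]
  rw [show cod (toPt x (closedPoint _)) (toPt x (closedPoint _)) = cod (toPt x (closedPoint _)) x from by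
    congr 1; exact toPt_closedPoint x, cod_toPt]
  haveI := isLocalRing_quotient (maximalIdeal (X.presheaf.stalk x)) (maximalIdeal.isMaximal _).ne_top
  have h : ringKrullDim (X.presheaf.stalk x ⧸ maximalIdeal (X.presheaf.stalk x)) = 0 := by
    let _ := Ideal.Quotient.field (maximalIdeal (X.presheaf.stalk x))
    exact ringKrullDim_eq_zero_of_field _
  rw [ringKrullDim_eq_natDim] at h
  exact_mod_cast h

theorem cod_pos [IsLocallyNoetherian X] {ξ x : X} (h : ξ ⤳ x) (hne : ξ ≠ x) : 0 < cod ξ x :=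
  (Nat.zero_le _).trans_lt (cod_lt_cod h specializes_rfl hne)

theorem dimAt_eq_cod_of_irreducible [IsLocallyNoetherian X] [IrreducibleSpace X] (x : X) :
    cod (genericPoint X) x = dimAt x := by
  obtain ⟨ξ, hmax, hx, hc⟩ := exists_cod_eq x
  rwa [hmax _ (genericPoint_specializes ξ)]

theorem isEquidim_stalk_iff [IsLocallyNoetherian X] (x : X) :
    EGA4.IsEquidim (X.presheaf.stalk x) ↔ ∀ ξ, IsMaximalPt ξ → ξ ⤳ x → cod ξ x = dimAt x := by
  constructor
  · intro h ξ hξ hx
    obtain ⟨P, rfl⟩ := exists_toPt hx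
    have h1 := h P.asIdeal ((mem_minimalPrimes_iff x P).2 hξ)
    haveI := isLocalRing_quotient P.asIdeal P.isPrime.ne_top
    rw [ringKrullDim_eq_natDim, ringKrullDim_eq_natDim] at h1
    rw [cod_toPt]
    exact_mod_cast h1
  · intro h p hp
    let P : PrimeSpectrum (X.presheaf.stalk x) := ⟨p, hp.isPrime⟩
    have h1 := h _ ((mem_minimalPrimes_iff x P).1 hp) (toPt_specializes x P)
    rw [cod_toPt] at h1
    haveI := isLocalRing_quotient p hp.isPrime.ne_top
    rw [ringKrullDim_eq_natDim, ringKrullDim_eq_natDim]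
    exact_mod_cast h1

/-- Shorthand for the transcendence degree at a point. -/
noncomputable abbrev trdAt (x : X) : ℕ := DimLib.trdegHom (f.residueFieldMap x).hom

section

variable [IsLocallyNoetherian Y] [LocallyOfFiniteType f]

/-- `dim O_{X_y,x}`. -/
noncomputable def fibDim (x : X) : ℕ := natDim ((f.fiber (f x)).presheaf.stalk (f.asFiber x))

theorem isNoetherianRing_fibre (x : X) :
    IsNoetherianRing ((f.fiber (f x)).presheaf.stalk (f.asFiber x)) := by
  haveI := isNoetherianRing_stalk f x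
  obtain ⟨e⟩ := FlatMor12.fibreStalk_equiv f x
  exact isNoetherianRing_of_ringEquiv _ e.symm

theorem fibDim_eq (x : X) :
    ringKrullDim ((f.fiber (f x)).presheaf.stalk (f.asFiber x)) = (fibDim f x : WithBot ℕ∞) := by
  haveI := isNoetherianRing_fibre f x
  exact ringKrullDim_eq_natDim _

theorem fibreDimAt_eq (x : X) : FlatMor.fibreDimAt f x = ((fibDim f x + trdAt f x : ℕ) : WithBot ℕ∞) := by
  rw [← fibre_dim_formula f x, fibDim_eq]
  norm_cast

theorem trdAt_le {w x : X} (h : w ⤳ x) (he : f w = f x) : trdAt f w ≤ fibDim f x + trdAt f x :=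
  (FlatMorDim.fibreDimAt_le_iff f x _).1 (fibreDimAt_eq f x).le w he h

/-- Over a generisation, the fibre dimension can only be smaller. -/
theorem trdAt_le_of_specializes {ξ x : X} (h : ξ ⤳ x) : trdAt f ξ ≤ fibDim f x + trdAt f x :=
  Chevalley.trdegHom_le_fibreDimAt f h _ (fibreDimAt_eq f x).le

theorem dimAt_le (x : X) : dimAt x ≤ dimAt (f x) + fibDim f x := by
  haveI := isNoetherianRing_stalk f x
  let _ := stalkAlgebra f x
  haveI := (stalk_instances f x).2
  have h := EGA41Lib.ringKrullDim_le_add_fibre (Y.presheaf.stalk (f x)) (X.presheaf.stalk x)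
  obtain ⟨e⟩ := FlatMor12.fibreStalk_equiv f x
  rw [show ringKrullDim (X.presheaf.stalk x ⧸ (maximalIdeal (Y.presheaf.stalk (f x))).map
      (algebraMap (Y.presheaf.stalk (f x)) (X.presheaf.stalk x))) = (fibDim f x : WithBot ℕ∞) from
    (ringKrullDim_eq_of_ringEquiv e).symm.trans (fibDim_eq f x), ringKrullDim_eq_natDim,
    ringKrullDim_eq_natDim] at h
  exact_mod_cast h

theorem fibre_formula {w x : X} (h : w ⤳ x) (he : f w = f x) : cod w x + trdAt f x = trdAt f w := by
  obtain ⟨P, rfl⟩ := exists_toPt h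
  haveI := isNoetherianRing_stalk f x
  haveI := isLocalRing_quotient P.asIdeal P.isPrime.ne_top
  have h1 := point_formula_fibre f x P he
  rw [ringKrullDim_eq_natDim] at h1
  rw [cod_toPt]
  exact_mod_cast h1

theorem exists_fibre_max (x : X) :
    ∃ z, z ⤳ x ∧ f z = f x ∧ (∀ w, w ⤳ z → f w = f z → w = z) ∧
      trdAt f z = fibDim f x + trdAt f x := by
  obtain ⟨z, h1, h2, h3, h4⟩ := Chevalley.exists_maximal_fibreDimAt f x
  rw [fibreDimAt_eq f x] at h4
  exact ⟨z, h1, h2, h3, by exact_mod_cast h4.symm⟩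

/-- The points maximal in their fibre are those with a zero-dimensional fibre ring. -/
theorem fibDim_eq_zero_iff (z : X) : fibDim f z = 0 ↔ ∀ w, w ⤳ z → f w = f z → w = z := by
  haveI := LocallyOfFiniteType.isLocallyNoetherian f
  constructor
  · intro h w hw hwe
    by_contra hne
    have h1 := cod_pos hw hne
    have h2 := fibre_formula f hw hwe
    have h3 := trdAt_le f hw hwe
    omega
  · intro h
    obtain ⟨w, h1, h2, -, h4⟩ := exists_fibre_max f z
    rw [h w h1 h2] at h4
    omega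

theorem le_formula {ξ x : X} (h : ξ ⤳ x) : cod ξ x + trdAt f x ≤ cod (f ξ) (f x) + trdAt f ξ := by
  obtain ⟨P, rfl⟩ := exists_toPt h
  haveI := isNoetherianRing_stalk f x
  haveI := isLocalRing_quotient P.asIdeal P.isPrime.ne_top
  let p := PrimeSpectrum.comap (f.stalkMap x).hom P
  haveI := isLocalRing_quotient p.asIdeal p.isPrime.ne_top
  have h1 := (point_formula f x P).1
  rw [ringKrullDim_eq_natDim, show ringKrullDim (Y.presheaf.stalk (f x) ⧸ P.asIdeal.comap (f.stalkMap x).hom)
    = (natDim (Y.presheaf.stalk (f x) ⧸ p.asIdeal) : WithBot ℕ∞) from ringKrullDim_eq_natDim _] at h1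
  rw [cod_toPt, apply_toPt f, cod_toPt]
  exact_mod_cast h1

theorem eq_formula {ξ x : X} (h : ξ ⤳ x) (hcat : CAlg.IsUniversallyCatenary (Y.presheaf.stalk (f x))) :
    cod ξ x + trdAt f x = cod (f ξ) (f x) + trdAt f ξ := by
  obtain ⟨P, rfl⟩ := exists_toPt h
  haveI := isNoetherianRing_stalk f x
  haveI := isLocalRing_quotient P.asIdeal P.isPrime.ne_top
  let p := PrimeSpectrum.comap (f.stalkMap x).hom P
  haveI := isLocalRing_quotient p.asIdeal p.isPrime.ne_top
  have h1 := (point_formula f x P).2 hcat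
  rw [ringKrullDim_eq_natDim, show ringKrullDim (Y.presheaf.stalk (f x) ⧸ P.asIdeal.comap (f.stalkMap x).hom)
    = (natDim (Y.presheaf.stalk (f x) ⧸ p.asIdeal) : WithBot ℕ∞) from ringKrullDim_eq_natDim _] at h1
  rw [cod_toPt, apply_toPt f, cod_toPt]
  exact_mod_cast h1

/-- EGA IV 5.5.2 along an integral closed subscheme: some point of the fibre below `ξ`. -/
theorem exists_between {ξ x : X} (h : ξ ⤳ x) :
    ∃ z, ξ ⤳ z ∧ z ⤳ x ∧ f z = f x ∧ cod ξ x ≤ dimAt (f x) + cod z x := by
  obtain ⟨P, rfl⟩ := exists_toPt h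
  haveI := isNoetherianRing_stalk f x
  let B := X.presheaf.stalk x
  let A := Y.presheaf.stalk (f x)
  haveI := isLocalRing_quotient P.asIdeal P.isPrime.ne_top
  let _ : Algebra A (B ⧸ P.asIdeal) := ((Ideal.Quotient.mk P.asIdeal).comp (f.stalkMap x).hom).toAlgebra
  haveI : IsLocalHom (algebraMap A (B ⧸ P.asIdeal)) := by
    haveI : IsLocalHom (Ideal.Quotient.mk P.asIdeal) := .of_surjective _ Ideal.Quotient.mk_surjective
    exact RingHom.isLocalHom_comp (Ideal.Quotient.mk P.asIdeal) (f.stalkMap x).hom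
  have h1 := EGA41Lib.ringKrullDim_le_add_fibre A (B ⧸ P.asIdeal)
  let I : Ideal (B ⧸ P.asIdeal) := (maximalIdeal A).map (algebraMap A (B ⧸ P.asIdeal))
  haveI := isLocalRing_quotient I (ne_top_of_le_ne_top (maximalIdeal.isMaximal _).ne_top
    (((IsLocalRing.local_hom_TFAE (algebraMap A (B ⧸ P.asIdeal))).out 0 2 :).mp inferInstance))
  obtain ⟨Q, hQ, hdim⟩ := exists_minimalPrime_dim ((B ⧸ P.asIdeal) ⧸ I)
  haveI := hQ.isPrime
  let π : B →+* (B ⧸ P.asIdeal) ⧸ I := (Ideal.Quotient.mk I).comp (Ideal.Quotient.mk P.asIdeal)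
  have hπ : Function.Surjective π := Ideal.Quotient.mk_surjective.comp Ideal.Quotient.mk_surjective
  let Q' : PrimeSpectrum B := PrimeSpectrum.comap π ⟨Q, hQ.isPrime⟩
  refine ⟨toPt x Q', (toPt_specializes_iff x P Q').2 ?_, toPt_specializes x Q', (mem_fibre_iff_le f x Q').1 ?_, ?_⟩
  · intro b hb
    show π b ∈ Q
    rw [RingHom.comp_apply, Ideal.Quotient.eq_zero_iff_mem.2 hb, map_zero]
    exact zero_mem _
  · refine Ideal.map_le_iff_le_comap.2 fun a ha => ?_
    show π (f.stalkMap x a) ∈ Q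
    rw [RingHom.comp_apply, Ideal.Quotient.eq_zero_iff_mem.2
      (show Ideal.Quotient.mk P.asIdeal (f.stalkMap x a) ∈ I from Ideal.mem_map_of_mem _ ha)]
    exact zero_mem _
  · rw [cod_toPt, cod_toPt]
    haveI := isLocalRing_quotient Q'.asIdeal Q'.isPrime.ne_top
    have e : ringKrullDim (B ⧸ Q'.asIdeal) = ringKrullDim (((B ⧸ P.asIdeal) ⧸ I) ⧸ Q) := by
      refine ringKrullDim_eq_of_ringEquiv (RingEquiv.ofBijective (Ideal.quotientMap Q π le_rfl)
        ⟨Ideal.quotientMap_injective, Ideal.quotientMap_surjective hπ⟩)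
    rw [hdim, ringKrullDim_eq_natDim] at e
    replace h1 : ringKrullDim (B ⧸ P.asIdeal) ≤ ringKrullDim A + ringKrullDim ((B ⧸ P.asIdeal) ⧸ I) := h1
    rw [← e, ringKrullDim_eq_natDim, ringKrullDim_eq_natDim] at h1
    exact_mod_cast h1

end

end Groth.Agent.EGA43.DimFormula
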