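import Groth.Agent.EGA43.DimFormula.Core

/-!
# Dimension formula and equidimensionality (EGA IV 13.2, 13.3)
-/

set_option autoImplicit false
set_option backward.isDefEq.respectTransparency false
set_option linter.style.haveILetI false

universe u

open CategoryTheory CategoryTheory.Limits AlgebraicGeometry TopologicalSpace IsLocalRing

namespace Groth.Agent.EGA43.DimFormula

open Groth.Agent FlatMorWeight

variable {X Y : Scheme.{u}} [IsLocallyNoetherian Y] (f : X ⟶ Y) [LocallyOfFiniteType f]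

omit [IsLocallyNoetherian Y] in
/-- Near a point, all maximal points generize it. -/
theorem exists_nhd_maximalPt_specializes {X : Scheme.{u}} [IsLocallyNoetherian X] (x : X) :
    ∃ U : X.Opens, x ∈ U ∧ ∀ ξ ∈ U, IsMaximalPt ξ → ξ ⤳ x := by
  obtain ⟨V, hV, hxV, -⟩ := exists_isAffineOpen_mem_and_subset (x := x) (U := ⊤) (Set.mem_univ _)
  haveI : IsAffine V.toScheme := hV
  haveI : IsNoetherian V.toScheme := { }
  let S : Set (Set V.toScheme) :=
    {C ∈ irreducibleComponents V.toScheme | (⟨x, hxV⟩ : V.toScheme) ∉ C}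
  have hS : S.Finite :=
    TopologicalSpace.NoetherianSpace.finite_irreducibleComponents.subset fun C hC => hC.1
  let W₀ : V.toScheme.Opens := ⟨(⋃ C ∈ S, C)ᶜ, (hS.isClosed_biUnion fun C hC =>
    isClosed_of_mem_irreducibleComponents C hC.1).isOpen_compl⟩
  refine ⟨V.ι ''ᵁ W₀, ⟨⟨x, hxV⟩, ?_, rfl⟩, ?_⟩
  · show _ ∈ (⋃ C ∈ S, C)ᶜ
    simp only [Set.mem_compl_iff, Set.mem_iUnion, not_exists]
    exact fun C hC hz => hC.2 hz
  · rintro _ ⟨ξ', hξ', rfl⟩ hmax
    have hC : closure {ξ'} ∈ irreducibleComponents V.toScheme :=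
      DimLib.closure_mem_components fun w hw =>
        (V.ι.isOpenEmbedding.injective (hmax _ (hw.map V.ι.continuous))).symm
    have hxC : (⟨x, hxV⟩ : V.toScheme) ∈ closure {ξ'} := by
      by_contra h
      exact hξ' (Set.mem_biUnion (x := closure {ξ'}) ⟨hC, h⟩ (subset_closure rfl))
    exact (specializes_iff_mem_closure.2 hxC).map V.ι.continuous

/-- `dim O_{X,x} = dim O_{Y,y} + dim O_{X_y,x}`. -/
def DF (x : X) : Prop := dimAt x = dimAt (f x) + fibDim f x

theorem dF_iff (x : X) :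
    ringKrullDim (X.presheaf.stalk x) = ringKrullDim (Y.presheaf.stalk (f x)) +
      ringKrullDim ((f.fiber (f x)).presheaf.stalk (f.asFiber x)) ↔ DF f x := by
  haveI := LocallyOfFiniteType.isLocallyNoetherian f
  rw [dimAt_eq, dimAt_eq, fibDim_eq f x, DF]
  norm_cast

theorem fibDim_stalk_eq_zero_iff (x : X) :
    ringKrullDim ((f.fiber (f x)).presheaf.stalk (f.asFiber x)) = 0 ↔ fibDim f x = 0 := by
  rw [fibDim_eq f x]; norm_cast

theorem stalk_dim_eq_iff (x : X) :
    ringKrullDim (X.presheaf.stalk x) = ringKrullDim (Y.presheaf.stalk (f x)) ↔ dimAt x = dimAt (f x) := by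
  haveI := LocallyOfFiniteType.isLocallyNoetherian f
  rw [dimAt_eq, dimAt_eq]; norm_cast

/-- The consequences of the dimension formula at `x`. -/
theorem exists_of_dF {x : X} (h : DF f x) :
    ∃ ξ, IsMaximalPt ξ ∧ ξ ⤳ x ∧ cod ξ x = dimAt x ∧ cod (f ξ) (f x) = dimAt (f x) ∧
      IsMaximalPt (f ξ) ∧ trdAt f ξ = fibDim f x + trdAt f x := by
  haveI := LocallyOfFiniteType.isLocallyNoetherian f
  obtain ⟨ξ, hξ, hx, hc⟩ := exists_cod_eq x
  have hfx : f ξ ⤳ f x := hx.map f.continuous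
  have h1 := le_formula f hx
  have h2 := cod_le_dimAt hfx
  have h3 := trdAt_le_of_specializes f hx
  unfold DF at h
  exact ⟨ξ, hξ, hx, hc, by omega, isMaximalPt_of_cod_eq hfx (by omega), by omega⟩

/-- A sufficient condition for the dimension formula. -/
theorem dF_of_le {x z : X} (hzx : z ⤳ x) (hz : f z = f x)
    (hd : fibDim f x + trdAt f x ≤ trdAt f z) (hdim : dimAt (f x) ≤ dimAt z)
    (hcat : CAlg.IsUniversallyCatenary (Y.presheaf.stalk (f x))) : DF f x := by
  haveI := LocallyOfFiniteType.isLocallyNoetherian f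
  obtain ⟨ξ, -, hξz, hc⟩ := exists_cod_eq z
  have h1 := eq_formula f (hξz.trans hzx) hcat
  have h2 := eq_formula f hξz (hz ▸ hcat)
  rw [hz] at h2
  have h3 := dimAt_le f x
  have h4 := cod_le_dimAt (hξz.trans hzx)
  unfold DF
  omega

theorem fibreDimAt_eq_generic_of_dF [IrreducibleSpace X] [IrreducibleSpace Y] [IsDominant f] {x : X}
    (h : DF f x) : FlatMor.fibreDimAt f x = topologicalKrullDim ↥(f.fiber (genericPoint Y)) := by
  obtain ⟨ξ, hξ, -, -, -, -, hd⟩ := exists_of_dF f h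
  rw [Chevalley.fiber_dim_eq_generic f, fibreDimAt_eq f x, hξ _ (genericPoint_specializes ξ)]
  exact congrArg (fun n : ℕ => (n : WithBot ℕ∞)) hd.symm

theorem dF_of_fibreDimAt_eq_generic [IrreducibleSpace X] [IrreducibleSpace Y] [IsDominant f] {x : X}
    (hcat : CAlg.IsUniversallyCatenary (Y.presheaf.stalk (f x)))
    (h : FlatMor.fibreDimAt f x = topologicalKrullDim ↥(f.fiber (genericPoint Y))) : DF f x := by
  haveI := LocallyOfFiniteType.isLocallyNoetherian f
  rw [Chevalley.fiber_dim_eq_generic f, fibreDimAt_eq f x] at h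
  have h0 : fibDim f x + trdAt f x = trdAt f (genericPoint X) := by exact_mod_cast h
  have h1 := eq_formula f (genericPoint_specializes x) hcat
  rw [Unibranch.map_genericPoint_of_isDominant f, dimAt_eq_cod_of_irreducible,
    dimAt_eq_cod_of_irreducible] at h1
  unfold DF
  omega

omit [IsLocallyNoetherian Y] in
theorem isMaximalPt_genericPoint [IrreducibleSpace Y] {η : Y} (h : IsMaximalPt η) : η = genericPoint Y :=
  (h _ (genericPoint_specializes η)).symm

theorem generic_tfae [IrreducibleSpace Y] (y : Y) :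
    ((∀ x : X, f x = y → DF f x) →
      (∀ z : X, f z = y → fibDim f z = 0 → dimAt z = dimAt (f z))) ∧
    (CAlg.IsUniversallyCatenary (Y.presheaf.stalk y) →
      (∀ z : X, f z = y → fibDim f z = 0 → dimAt z = dimAt (f z)) →
      ∀ x : X, f x = y → DF f x) := by
  refine ⟨fun h z hz h0 => by simpa [DF, h0] using h z hz, fun hcat h x hx => ?_⟩
  obtain ⟨z, hzx, hze, hzmax, hd⟩ := exists_fibre_max f x
  have h1 := h z (hze.trans hx) ((fibDim_eq_zero_iff f z).2 hzmax)
  exact dF_of_le f hzx hze hd.ge (by rw [h1, hze]) (hx ▸ hcat)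

theorem component_iff [IrreducibleSpace Y] {z : X} (h0 : fibDim f z = 0) :
    (dimAt z = dimAt (f z) →
      ∃ X' ∈ irreducibleComponents (X : Type u), z ∈ X' ∧
        topologicalKrullDim ↥(X' ∩ f.base ⁻¹' {genericPoint Y}) = FlatMor.fibreDimAt f z) ∧
    (CAlg.IsUniversallyCatenary (Y.presheaf.stalk (f z)) →
      (∃ X' ∈ irreducibleComponents (X : Type u), z ∈ X' ∧
        topologicalKrullDim ↥(X' ∩ f.base ⁻¹' {genericPoint Y}) = FlatMor.fibreDimAt f z) →
      dimAt z = dimAt (f z)) := by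
  haveI := LocallyOfFiniteType.isLocallyNoetherian f
  have hD : FlatMor.fibreDimAt f z = ((trdAt f z : ℕ) : WithBot ℕ∞) := by
    rw [fibreDimAt_eq f z, h0, zero_add]
  constructor
  · intro h
    obtain ⟨ξ, hξ, hξz, -, -, hη, hd⟩ := exists_of_dF f (show DF f z by rw [DF, h, h0, add_zero])
    refine ⟨closure {ξ}, DimLib.closure_mem_components fun w hw => (hξ w hw).symm, hξz.mem_closure, ?_⟩
    rw [← isMaximalPt_genericPoint hη, Chevalley.topologicalKrullDim_closure_inter_fibre f ξ, hD]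
    rw [h0, zero_add] at hd
    exact_mod_cast congrArg (fun n : ℕ => (n : WithBot ℕ∞)) hd
  · rintro hcat ⟨X', hX', hzX', hdim⟩
    obtain ⟨ξ, hξgen, -⟩ := Chevalley.exists_isGenericPoint hX'
    have hξz : ξ ⤳ z := hξgen.specializes hzX'
    obtain ⟨⟨w, hw1, hw2⟩⟩ : Nonempty ↥(X' ∩ f.base ⁻¹' {genericPoint Y}) := by
      by_contra hne
      haveI := not_nonempty_iff.1 hne
      haveI : IsEmpty (IrreducibleCloseds ↥(X' ∩ f.base ⁻¹' {genericPoint Y})) :=
        ⟨fun s => s.isIrreducible.nonempty.elim fun a _ => IsEmpty.false a⟩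
      rw [topologicalKrullDim, Order.krullDim_eq_bot, hD] at hdim
      exact absurd hdim (by simp)
    have hη : f ξ = genericPoint Y := by
      refine ((genericPoint_specializes (f ξ)).antisymm ?_).symm.eq
      rw [← (show f w = genericPoint Y from hw2)]
      exact (hξgen.specializes hw1).map f.continuous
    rw [← hξgen.def, ← hη, Chevalley.topologicalKrullDim_closure_inter_fibre f ξ, hD] at hdim
    have hd : trdAt f ξ = trdAt f z := by exact_mod_cast hdim
    have h1 := eq_formula f hξz hcat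
    rw [hη, dimAt_eq_cod_of_irreducible] at h1
    have h2 := cod_le_dimAt hξz
    have h3 := dimAt_le f z
    omega

theorem dF_iff_exists (x : X) (hcat : CAlg.IsUniversallyCatenary (Y.presheaf.stalk (f x))) :
    DF f x ↔ ∃ z : X, f z = f x ∧ z ⤳ x ∧ (∀ z' : X, f z' = f x → z' ⤳ z → z' = z) ∧
        FlatMor.fibreDimAt f z = FlatMor.fibreDimAt f x ∧ dimAt z = dimAt (f z) := by
  haveI := LocallyOfFiniteType.isLocallyNoetherian f
  constructor
  · intro h
    obtain ⟨ξ, -, hξx, hc, hcf, -, hd⟩ := exists_of_dF f h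
    obtain ⟨z, hξz, hzx, hz, hle⟩ := exists_between f hξx
    have h1 := fibre_formula f hzx hz
    have h2 := trdAt_le f hzx hz
    unfold DF at h
    have hzmax : ∀ z', f z' = f x → z' ⤳ z → z' = z := fun z' he hz' => by
      by_contra hne
      have h3 := fibre_formula f hz' (he.trans hz.symm)
      have h4 := cod_pos hz' hne
      have h5 := trdAt_le f (hz'.trans hzx) he
      omega
    have h0 : fibDim f z = 0 :=
      (fibDim_eq_zero_iff f z).2 fun w hw he => hzmax w (he.trans hz) hw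
    refine ⟨z, hz, hzx, hzmax, ?_, ?_⟩
    · rw [fibreDimAt_eq f z, fibreDimAt_eq f x, h0, zero_add,
        show trdAt f z = fibDim f x + trdAt f x by omega]
    · have h3 := eq_formula f hξz (hz ▸ hcat)
      rw [hz] at h3
      have h4 := cod_le_dimAt hξz
      have h5 := dimAt_le f z
      rw [hz] at h5 ⊢
      omega
  · rintro ⟨z, hz, hzx, hmax, hD, hdim⟩
    rw [fibreDimAt_eq f z, fibreDimAt_eq f x] at hD
    have h0 : fibDim f z = 0 :=
      (fibDim_eq_zero_iff f z).2 fun w hw he => hmax w (he.trans hz) hw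
    rw [h0, zero_add] at hD
    have hD' : trdAt f z = fibDim f x + trdAt f x := by exact_mod_cast hD
    exact dF_of_le f hzx hz hD'.ge (by rw [hdim, hz]) hcat

/-- What equidimensionality says at the generisations of `x`. -/
theorem exists_of_isEquidimAt {x : X} (h : EGA43.IsEquidimAt f x) :
    ∀ ξ, IsMaximalPt ξ → ξ ⤳ x → IsMaximalPt (f ξ) ∧ trdAt f ξ = fibDim f x + trdAt f x := by
  obtain ⟨e, U, hxU, h1, h2⟩ := (Chevalley.isEquidimAt_iff f x).1 h
  obtain ⟨z, hzx, hz, hzmax, hd⟩ := exists_fibre_max f x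
  have he : trdAt f z = e := h2 z (hzx.mem_open U.isOpen hxU) hzmax
  intro ξ hξ hξx
  refine ⟨(h1 ξ (hξx.mem_open U.isOpen hxU) hξ).1, ?_⟩
  have he' : trdAt f ξ = e := h2 ξ (hξx.mem_open U.isOpen hxU) fun w hw _ => hξ w hw
  omega

theorem dF_of_isEquidimAt {x : X} (hY : EGA4.IsEquidim (Y.presheaf.stalk (f x)))
    (hcat : CAlg.IsUniversallyCatenary (Y.presheaf.stalk (f x))) (h : EGA43.IsEquidimAt f x) :
    DF f x ∧ EGA4.IsEquidim (X.presheaf.stalk x) := by
  haveI := LocallyOfFiniteType.isLocallyNoetherian f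
  have key : ∀ ξ, IsMaximalPt ξ → ξ ⤳ x → cod ξ x = dimAt (f x) + fibDim f x := fun ξ hξ hx => by
    obtain ⟨hmax, hd⟩ := exists_of_isEquidimAt f h ξ hξ hx
    have h1 := eq_formula f hx hcat
    have h2 := (isEquidim_stalk_iff (f x)).1 hY _ hmax (hx.map f.continuous)
    omega
  obtain ⟨ξ, hξ, hx, hc⟩ := exists_cod_eq x
  have hdf : DF f x := hc.symm.trans (key ξ hξ hx)
  exact ⟨hdf, (isEquidim_stalk_iff x).2 fun ξ hξ hx => (key ξ hξ hx).trans hdf.symm⟩

theorem quotient_formula_of_isEquidimAt {x : X} (h : EGA43.IsEquidimAt f x)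
    (hcat : CAlg.IsUniversallyCatenary (Y.presheaf.stalk (f x))) (𝔭 : Ideal (X.presheaf.stalk x))
    (h𝔭 : 𝔭 ∈ minimalPrimes (X.presheaf.stalk x)) :
    ringKrullDim (X.presheaf.stalk x ⧸ 𝔭) + (trdAt f x : WithBot ℕ∞) =
      ringKrullDim (Y.presheaf.stalk (f x) ⧸ 𝔭.comap (f.stalkMap x).hom) + FlatMor.fibreDimAt f x := by
  let P : PrimeSpectrum (X.presheaf.stalk x) := ⟨𝔭, h𝔭.isPrime⟩
  obtain ⟨-, hd⟩ := exists_of_isEquidimAt f h _ ((mem_minimalPrimes_iff x P).1 h𝔭) (toPt_specializes x P)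
  have h1 := (point_formula f x P).2 hcat
  rw [fibreDimAt_eq f x, ← hd]
  exact h1

/-- The converse: `f` is equidimensional if the maximal points over `x` behave generically. -/
theorem isEquidimAt_of_forall (x : X)
    (h : ∀ ξ, IsMaximalPt ξ → ξ ⤳ x → IsMaximalPt (f ξ) ∧ trdAt f ξ = fibDim f x + trdAt f x) :
    EGA43.IsEquidimAt f x := by
  haveI := LocallyOfFiniteType.isLocallyNoetherian f
  obtain ⟨U₁, hxU₁, hU₁⟩ := exists_nhd_maximalPt_specializes x
  let U₂ : X.Opens :=
    ⟨{w | FlatMor.fibreDimAt f w ≤ ((fibDim f x + trdAt f x : ℕ) : WithBot ℕ∞)},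
      FlatMorDim.isOpen_fibreDimAt_le f _⟩
  have hx2 : x ∈ U₂ := (fibreDimAt_eq f x).le
  refine (Chevalley.isEquidimAt_iff f x).2
    ⟨fibDim f x + trdAt f x, U₁ ⊓ U₂, ⟨hxU₁, hx2⟩, fun ξ hξU hξ => ?_, fun x' hx' hmax => ?_⟩
  · have hξx := hU₁ ξ hξU.1 hξ
    exact ⟨(h ξ hξ hξx).1, hξx.map f.continuous⟩
  · obtain ⟨ξ, hξ, hξx', -⟩ := exists_cod_eq x'
    have h1 := (h ξ hξ (hU₁ ξ (hξx'.mem_open U₁.isOpen hx'.1) hξ)).2
    have h2 := trdAt_le_of_specializes f hξx'
    have h3 : fibDim f x' = 0 := (fibDim_eq_zero_iff f x').2 hmax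
    have h4 := (fibreDimAt_eq f x').symm.le.trans hx'.2
    have h5 : fibDim f x' + trdAt f x' ≤ fibDim f x + trdAt f x := by exact_mod_cast h4
    show trdAt f x' = _
    omega

theorem isEquidimAt_of_dF {x : X} (hY : EGA4.IsEquidim (Y.presheaf.stalk (f x)))
    (hX : EGA4.IsEquidim (X.presheaf.stalk x)) (h : DF f x) : EGA43.IsEquidimAt f x := by
  haveI := LocallyOfFiniteType.isLocallyNoetherian f
  refine isEquidimAt_of_forall f x fun ξ hξ hx => ?_
  have h1 := (isEquidim_stalk_iff x).1 hX ξ hξ hx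
  have hfx : f ξ ⤳ f x := hx.map f.continuous
  have h2 := le_formula f hx
  have h3 := cod_le_dimAt hfx
  have h4 := trdAt_le_of_specializes f hx
  unfold DF at h
  exact ⟨isMaximalPt_of_cod_eq hfx (by omega), by omega⟩

end Groth.Agent.EGA43.DimFormula
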