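import Groth.Agent.EGA43.DimFormula.Equidim
import Groth.Agent.EGA43.DimFormula.UnivDim

/-!
# Sets of dimensions of fibre components; components through a point
-/

set_option autoImplicit false
set_option backward.isDefEq.respectTransparency false
set_option linter.style.haveILetI false

universe u

open CategoryTheory CategoryTheory.Limits AlgebraicGeometry TopologicalSpace IsLocalRing

namespace Groth.Agent.EGA43.DimFormula

open Groth.Agent FlatMorWeight

variable {X Y : Scheme.{u}} (f : X ⟶ Y) [LocallyOfFiniteType f]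

/-- The set of dimensions of the components of a fibre. -/
theorem mem_dims_iff (y : Y) (v : WithBot ℕ∞) :
    v ∈ (fun Z : Set ↥(f.fiber y) => topologicalKrullDim ↥Z) '' irreducibleComponents ↥(f.fiber y) ↔
      ∃ x : X, f x = y ∧ (∀ w, w ⤳ x → f w = y → w = x) ∧ (trdAt f x : WithBot ℕ∞) = v := by
  refine not_iff_not.1 ?_
  have h := Chevalley.forall_components_fiber_iff f y (fun d => d ≠ v)
  simp only [Set.mem_image, not_exists, not_and]
  exact h

theorem fiber_dim_le_of_maximal {η y : Y} (h : ∀ x : X, f x = y → (∀ w, w ⤳ x → f w = y → w = x) →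
    ∃ ξ : X, f ξ = η ∧ trdAt f x ≤ trdAt f ξ) :
    topologicalKrullDim ↥(f.fiber y) ≤ topologicalKrullDim ↥(f.fiber η) := by
  have key : ∀ n : ℕ, (n : WithBot ℕ∞) ≤ topologicalKrullDim ↥(f.fiber y) →
      (n : WithBot ℕ∞) ≤ topologicalKrullDim ↥(f.fiber η) := fun n hn => by
    obtain ⟨x, hx, hxn⟩ := (Chevalley.le_fiber_dim_iff f y n).1 hn
    obtain ⟨z, hz, hzf, hzmax⟩ := Chevalley.exists_maximal_in_fibre f x
    obtain ⟨ξ, hξ, hd⟩ := h z (hzf.trans hx) fun w hw he => hzmax w hw (he.trans hx.symm)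
    have := Chevalley.trdegHom_le_of_specializes f hz hzf
    exact (Chevalley.le_fiber_dim_iff f η n).2 ⟨ξ, hξ, by unfold trdAt at hd; omega⟩
  exact iSup_le fun l => key l.length (Order.LTSeries.length_le_krullDim l)

variable [IsLocallyNoetherian Y]

theorem dims_subset [IrreducibleSpace Y] (y : Y)
    (h : ∀ z : X, f z = y → (∀ w, w ⤳ z → f w = y → w = z) →
      ∃ ξ, IsMaximalPt ξ ∧ f ξ = genericPoint Y ∧ trdAt f ξ = trdAt f z) :
    (fun Z : Set ↥(f.fiber y) => topologicalKrullDim ↥Z) '' irreducibleComponents ↥(f.fiber y) ⊆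
        (fun Z : Set ↥(f.fiber (genericPoint Y)) => topologicalKrullDim ↥Z) ''
          irreducibleComponents ↥(f.fiber (genericPoint Y)) ∧
      topologicalKrullDim ↥(f.fiber y) ≤ topologicalKrullDim ↥(f.fiber (genericPoint Y)) := by
  refine ⟨fun v hv => ?_, fiber_dim_le_of_maximal f fun x hx hmax => ?_⟩
  · obtain ⟨z, hz, hmax, hd⟩ := (mem_dims_iff f y v).1 hv
    obtain ⟨ξ, hξ, hξη, he⟩ := h z hz hmax
    exact (mem_dims_iff f _ v).2 ⟨ξ, hξη, fun w hw _ => hξ w hw, he ▸ hd⟩
  · obtain ⟨ξ, -, hξη, he⟩ := h x hx hmax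
    exact ⟨ξ, hξη, he.ge⟩

theorem dims_subset_of_isOpenAt [IrreducibleSpace Y] (y : Y)
    (h : ∀ x : X, f x = y → EGA43.IsOpenAt f.base x) :
    (fun Z : Set ↥(f.fiber y) => topologicalKrullDim ↥Z) '' irreducibleComponents ↥(f.fiber y) ⊆
        (fun Z : Set ↥(f.fiber (genericPoint Y)) => topologicalKrullDim ↥Z) ''
          irreducibleComponents ↥(f.fiber (genericPoint Y)) ∧
      topologicalKrullDim ↥(f.fiber y) ≤ topologicalKrullDim ↥(f.fiber (genericPoint Y)) := by
  refine dims_subset f y fun z hz hmax => ?_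
  subst hz
  obtain ⟨η, hηy, W, hW, hgen⟩ := exists_isMaximalPt_specializes (f z)
  have hη := isMaximalPt_of_isGenericPoint hW hgen
  obtain ⟨ξ, h1, -, h2, h3⟩ := exists_maximal_of_isOpenAt f hmax (h z rfl) hη hηy
  exact ⟨ξ, h1, h2.trans (isMaximalPt_genericPoint hη), h3⟩

theorem dims_subset_of_dim_eq [IrreducibleSpace Y] (y : Y)
    (hb : ∀ z : X, f z = y → (∀ z' : X, f z' = y → z ∈ closure {z'} → z' = z) →
      ringKrullDim (X.presheaf.stalk z) = ringKrullDim (Y.presheaf.stalk y)) :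
    (fun Z : Set ↥(f.fiber y) => topologicalKrullDim ↥Z) '' irreducibleComponents ↥(f.fiber y) ⊆
        (fun Z : Set ↥(f.fiber (genericPoint Y)) => topologicalKrullDim ↥Z) ''
          irreducibleComponents ↥(f.fiber (genericPoint Y)) ∧
      topologicalKrullDim ↥(f.fiber y) ≤ topologicalKrullDim ↥(f.fiber (genericPoint Y)) := by
  refine dims_subset f y fun z hz hmax => ?_
  subst hz
  have h0 := (fibDim_eq_zero_iff f z).2 hmax
  have h1 := hb z rfl fun z' he hc => hmax z' (specializes_iff_mem_closure.2 hc) he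
  obtain ⟨ξ, hξ, -, -, -, hη, hd⟩ := exists_of_dF f (show DF f z by
    rw [DF, (stalk_dim_eq_iff f z).1 h1, h0, add_zero])
  exact ⟨ξ, hξ, isMaximalPt_genericPoint hη, by rw [h0, zero_add] at hd; exact hd⟩

/-- The local rings of the closed subscheme `Z → X` and of the closure of its image. -/
theorem four_iff {Z : Scheme.{u}} (ι : Z ⟶ X) [IsClosedImmersion ι] [IrreducibleSpace Z] (w : Z)
    (x : X) (hw : ι w = x) (η' : Y) (hη : η' = f (ι (genericPoint Z))) {b c : ℕ}
    (hb : b = cod η' (f x)) (hc : c = dimAt w) :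
    (c = dimAt (f x) + fibDim f x ↔
      b = dimAt (f x) ∧ fibDim (ι ≫ f) w = fibDim f x ∧
        fibDim (ι ≫ f) w + trdAt (ι ≫ f) w = trdAt f (ι (genericPoint Z)) ∧
        c = b + fibDim (ι ≫ f) w) ∧
    (DF f x → ((b = dimAt (f x) ∧
        fibDim (ι ≫ f) w + trdAt (ι ≫ f) w = fibDim f x + trdAt f x ∧
        fibDim (ι ≫ f) w + trdAt (ι ≫ f) w = trdAt f (ι (genericPoint Z)) ∧
        c = b + fibDim (ι ≫ f) w) ↔ c = dimAt x)) := by
  haveI := LocallyOfFiniteType.isLocallyNoetherian f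
  haveI := LocallyOfFiniteType.isLocallyNoetherian (ι ≫ f)
  subst hw hη hb hc
  have hξx : ι (genericPoint Z) ⤳ ι w := (genericPoint_specializes w).map ι.continuous
  have hc' := dimAt_eq_cod_map ι w
  have h1 := le_formula f hξx
  have ht : trdAt (ι ≫ f) w = trdAt f (ι w) := trdAt_comp ι f w
  have h2 := trdAt_le_of_specializes (ι ≫ f) (genericPoint_specializes w)
  rw [trdAt_comp ι f (genericPoint Z)] at h2
  obtain ⟨z, hzw, hz, -, hd⟩ := exists_fibre_max (ι ≫ f) w
  have h3 := trdAt_le f (hzw.map ι.continuous) hz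
  rw [trdAt_comp ι f z] at hd
  have h4 := cod_le_dimAt (hξx.map f.continuous)
  have h5 := cod_le_dimAt hξx
  unfold DF
  refine ⟨⟨fun h => ?_, fun ⟨a, b, c, d⟩ => by omega⟩, fun hdf => ⟨fun ⟨a, b, c, d⟩ => by omega, fun h => ?_⟩⟩
  · refine ⟨?_, ?_, ?_, ?_⟩ <;> omega
  · refine ⟨?_, ?_, ?_, ?_⟩ <;> omega

theorem subscheme_data (X' : Closeds X) (hirr : IsIrreducible (X' : Set X))
    (η' : Y) (hη' : closure ({η'} : Set Y) = closure (f.base '' (X' : Set X))) :
    ∃ (ξ : X) (_ : IrreducibleSpace (Scheme.IdealSheafData.vanishingIdeal X').subscheme),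
      (Scheme.IdealSheafData.vanishingIdeal X').subschemeι
        (genericPoint (Scheme.IdealSheafData.vanishingIdeal X').subscheme) = ξ ∧ η' = f ξ ∧
      topologicalKrullDim ↥((X' : Set X) ∩ f.base ⁻¹' {η'}) = (trdAt f ξ : WithBot ℕ∞) ∧
      Set.range (Scheme.IdealSheafData.vanishingIdeal X').subschemeι = (X' : Set X) := by
  obtain ⟨ξ, hξ⟩ := QuasiSober.sober hirr X'.isClosed
  obtain ⟨hI, hgen⟩ := irreducible_subscheme X' ξ hξ.def
  have hη : η' = f ξ := IsGenericPoint.eq (S := closure (f.base '' (X' : Set X))) hη' (hξ.image f.continuous)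
  refine ⟨ξ, hI, hgen, hη, ?_, ?_⟩
  · rw [hη, ← hξ.def]
    exact Chevalley.topologicalKrullDim_closure_inter_fibre f ξ
  · rw [Scheme.IdealSheafData.range_subschemeι]
    exact Scheme.IdealSheafData.coe_support_vanishingIdeal _

theorem image_data (X' : Closeds X) (η' : Y)
    (hη' : closure ({η'} : Set Y) = closure (f.base '' (X' : Set X))) (x : X)
    (v : ↥(Scheme.IdealSheafData.vanishingIdeal
      (⟨closure (f.base '' (X' : Set X)), isClosed_closure⟩ : TopologicalSpace.Closeds Y)).subscheme)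
    (hv : (Scheme.IdealSheafData.vanishingIdeal
      (⟨closure (f.base '' (X' : Set X)), isClosed_closure⟩ : TopologicalSpace.Closeds Y)).subschemeι.base v = f.base x) :
    ringKrullDim ((Scheme.IdealSheafData.vanishingIdeal
      (⟨closure (f.base '' (X' : Set X)), isClosed_closure⟩ : TopologicalSpace.Closeds Y)).subscheme.presheaf.stalk v) =
        (cod η' (f x) : WithBot ℕ∞) := by
  let T : Closeds Y := ⟨closure (f.base '' (X' : Set X)), isClosed_closure⟩
  let ι := (Scheme.IdealSheafData.vanishingIdeal T).subschemeι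
  obtain ⟨hI, hgen⟩ := irreducible_subscheme T η' hη'
  haveI := LocallyOfFiniteType.isLocallyNoetherian ι
  have hv' : ι v = f x := hv
  rw [dimAt_eq, dimAt_eq_cod_map ι v, hgen, hv']

/-- EGA IV 13.3.?: equidimensionality read on the components. -/
theorem isEquidimAt_iff_components (x : X) :
    EGA43.IsEquidimAt f x ↔
      ∃ e : ℕ, ∀ Xj ∈ irreducibleComponents (X : Type u), ∀ hx : x ∈ Xj,
        closure (f.base '' Xj) ∈ irreducibleComponents (Y : Type u) ∧
        (∀ η : Y, closure ({η} : Set Y) = closure (f.base '' Xj) →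
          topologicalKrullDim ↥(Xj ∩ f.base ⁻¹' {η}) = e) ∧
        FlatMor.localDim ↥(Xj ∩ f.base ⁻¹' {f.base x}) ⟨x, ⟨hx, Set.mem_singleton (f.base x)⟩⟩ = e := by
  have hgenimg : ∀ ξ : X, IsGenericPoint (f ξ) (closure (f.base '' closure {ξ})) := fun ξ =>
    isGenericPoint_closure.image f.continuous
  have key : ∀ ξ : X, ∀ hx : x ∈ closure {ξ}, ∃ n : ℕ,
      FlatMor.localDim ↥(closure {ξ} ∩ f.base ⁻¹' {f.base x}) ⟨x, ⟨hx, Set.mem_singleton (f.base x)⟩⟩ =
        (n : WithBot ℕ∞) ∧ trdAt f ξ ≤ n ∧ n ≤ fibDim f x + trdAt f x ∧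
        ∀ z, ξ ⤳ z → z ⤳ x → f z = f x → trdAt f z ≤ n := by
    intro ξ hx
    obtain ⟨Z, ι, hι, hZ, hr, hg⟩ := exists_integral_subscheme ξ
    haveI := hι
    haveI := hZ
    obtain ⟨w, hw⟩ : x ∈ Set.range ι := hr.symm ▸ hx
    refine ⟨fibDim (ι ≫ f) w + trdAt (ι ≫ f) w,
      (localDim_inter_fibre_eq_fibreDimAt ι f _ hr w x hw _).trans (fibreDimAt_eq _ w), ?_, ?_, ?_⟩
    · have := trdAt_le_of_specializes (ι ≫ f) (genericPoint_specializes w)
      rwa [trdAt_comp ι f, hg inferInstance] at this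
    · obtain ⟨z, hzw, hz, -, hd⟩ := exists_fibre_max (ι ≫ f) w
      have := trdAt_le f (w := ι z) ((hzw.map ι.continuous).trans (specializes_of_eq hw)) (hz.trans (congrArg f hw))
      rw [trdAt_comp ι f z] at hd
      omega
    · intro z hξz hzx hz
      obtain ⟨z', rfl⟩ : z ∈ Set.range ι := hr.symm ▸ specializes_iff_mem_closure.1 hξz
      subst hw
      have := trdAt_le (ι ≫ f) (ι.isEmbedding.isInducing.specializes_iff.1 hzx) hz
      rwa [trdAt_comp ι f z'] at this
  constructor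
  · intro h
    refine ⟨fibDim f x + trdAt f x, fun Xj hXj hx => ?_⟩
    obtain ⟨ξ, hξgen, hξmax⟩ := Chevalley.exists_isGenericPoint hXj
    obtain ⟨hη, hd⟩ := exists_of_isEquidimAt f h ξ hξmax (hξgen.specializes hx)
    obtain rfl : closure {ξ} = Xj := hξgen.def
    refine ⟨?_, fun η hη' => ?_, ?_⟩
    · rw [← (hgenimg ξ).def]
      exact DimLib.closure_mem_components fun w hw => (hη w hw).symm
    · rw [IsGenericPoint.eq hη' (hgenimg ξ), Chevalley.topologicalKrullDim_closure_inter_fibre f ξ]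
      exact congrArg (fun n : ℕ => (n : WithBot ℕ∞)) hd
    · obtain ⟨n, hn, h1, h2, -⟩ := key ξ hx
      rw [hn]
      exact congrArg (fun n : ℕ => (n : WithBot ℕ∞)) (by omega)
  · rintro ⟨e, he⟩
    haveI := LocallyOfFiniteType.isLocallyNoetherian f
    have hcomp : ∀ ξ, IsMaximalPt ξ → closure {ξ} ∈ irreducibleComponents (X : Type u) := fun ξ hξ =>
      DimLib.closure_mem_components fun w hw => (hξ w hw).symm
    obtain ⟨z, hzx, hz, -, hd⟩ := exists_fibre_max f x
    obtain ⟨ξ₀, hξ₀z, W, hW, hgen⟩ := exists_isMaximalPt_specializes z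
    have hξ₀ := isMaximalPt_of_isGenericPoint hW hgen
    have hD : fibDim f x + trdAt f x = e := by
      obtain ⟨-, -, h0⟩ := he _ (hcomp ξ₀ hξ₀) (specializes_iff_mem_closure.1 (hξ₀z.trans hzx))
      obtain ⟨n, hn, -, h2, h3⟩ := key ξ₀ (specializes_iff_mem_closure.1 (hξ₀z.trans hzx))
      have h4 : n = e := by exact_mod_cast hn.symm.trans h0
      have := h3 z hξ₀z hzx hz
      omega
    refine isEquidimAt_of_forall f x fun ξ hξ hξx => ?_
    obtain ⟨hW', hdim, -⟩ := he _ (hcomp ξ hξ) hξx.mem_closure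
    refine ⟨isMaximalPt_of_isGenericPoint hW' (hgenimg ξ), ?_⟩
    have h1 := hdim (f ξ) (hgenimg ξ).def
    rw [Chevalley.topologicalKrullDim_closure_inter_fibre f ξ] at h1
    have h2 : trdAt f ξ = e := by exact_mod_cast h1
    omega

end Groth.Agent.EGA43.DimFormula
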